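import Cfsg.Agent.Lib.Helper10.SWDefs

/-!
# S3685 / ISO3 : a group of order 6 with a non-normal subgroup of index 3 is `S₃`.
-/

set_option autoImplicit false

namespace Cfsg.Agent.Lib.Helper58.SWISO3

universe u

open Cfsg.Agent.Lib.Helper10.SWDefs

theorem main : Cfsg.Agent.Lib.Helper10.SWDefs.StISO3.{u} := by
  intro K _ _ S hK hS hSn
  have hcardS : Nat.card S = 2 := by
    have h := S.card_mul_index
    rw [hS, hK] at h
    omega
  have hle : (MulAction.toPermHom K (K ⧸ S)).ker ≤ S := by
    rw [← Subgroup.normalCore_eq_ker]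
    exact Subgroup.normalCore_le S
  have hker : (MulAction.toPermHom K (K ⧸ S)).ker = ⊥ := by
    by_contra hne
    have hdvd : Nat.card (MulAction.toPermHom K (K ⧸ S)).ker ∣ 2 :=
      hcardS ▸ Subgroup.card_dvd_of_le hle
    have h1 : Nat.card (MulAction.toPermHom K (K ⧸ S)).ker ≠ 1 :=
      fun h => hne (Subgroup.card_eq_one.mp h)
    have h2 : Nat.card (MulAction.toPermHom K (K ⧸ S)).ker = 2 := by
      rcases (Nat.dvd_prime Nat.prime_two).mp hdvd with h | h
      · exact absurd h h1
      · exact h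
    have heq : (MulAction.toPermHom K (K ⧸ S)).ker = S :=
      Subgroup.eq_of_le_of_card_ge hle (by rw [h2, hcardS])
    apply hSn
    rw [← heq]
    exact MonoidHom.normal_ker _
  have hinj : Function.Injective (MulAction.toPermHom K (K ⧸ S)) :=
    (MonoidHom.ker_eq_bot_iff _).mp hker
  have hX : Nat.card (K ⧸ S) = 3 := hS
  obtain ⟨e⟩ : Nonempty ((K ⧸ S) ≃ Fin 3) := ⟨Finite.equivFinOfCardEq hX⟩
  have hinj' : Function.Injective
      ((e.permCongrHom.toMonoidHom).comp (MulAction.toPermHom K (K ⧸ S))) :=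
    e.permCongrHom.injective.comp hinj
  have hbij : Function.Bijective
      ((e.permCongrHom.toMonoidHom).comp (MulAction.toPermHom K (K ⧸ S))) := by
    rw [Nat.bijective_iff_injective_and_card]
    refine ⟨hinj', ?_⟩
    rw [hK, Nat.card_eq_fintype_card, Fintype.card_perm, Fintype.card_fin]
    rfl
  exact ⟨MulEquiv.ofBijective _ hbij⟩

end Cfsg.Agent.Lib.Helper58.SWISO3
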