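import Cfsg.Agent.Lib.Helper10.SWDefs

/-!
# S3685 / R0 : the reduction from the primitive permutation group to the configuration.
-/

set_option autoImplicit false
set_option linter.style.haveILetI false

namespace Cfsg.Agent.Lib.Helper58.SWR0

universe u v

open Cfsg.Agent.Lib.Helper10.SWDefs Pointwise

theorem main : Cfsg.Agent.Lib.Helper10.SWDefs.StR0.{u, v} := by
  intro G _ _ Ω _ _ hprim a b hb
  haveI : MulAction.IsPretransitive G Ω := hprim.toIsPretransitive
  haveI : Nontrivial Ω := by
    haveI : Finite (MulAction.orbit (MulAction.stabilizer G a) b) :=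
      Nat.finite_of_card_ne_zero (by rw [hb]; norm_num)
    haveI : Nontrivial (MulAction.orbit (MulAction.stabilizer G a) b) :=
      Finite.one_lt_card_iff_nontrivial.mp (by rw [hb]; norm_num)
    obtain ⟨x, y, hxy⟩ := exists_pair_ne (MulAction.orbit (MulAction.stabilizer G a) b)
    exact ⟨⟨x.1, y.1, fun h => hxy (Subtype.ext h)⟩⟩
  have hco : IsCoatom (MulAction.stabilizer G a) :=
    (MulAction.isCoatom_stabilizer_iff_preprimitive G a).mpr hprim
  obtain ⟨g, rfl⟩ := MulAction.exists_smul_eq G a b
  have hstab : MulAction.stabilizer G (g • a) = MulAut.conj g • MulAction.stabilizer G a := by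
    rw [MulAction.stabilizer_smul_eq_stabilizer_map_conj]
    rfl
  have hadj : (MulAction.stabilizer G a ⊓ MulAut.conj g • MulAction.stabilizer G a).relIndex
      (MulAction.stabilizer G a) = 3 := by
    rw [Subgroup.inf_relIndex_left, ← hstab]
    have h1 : (MulAction.stabilizer G (g • a)).subgroupOf (MulAction.stabilizer G a) =
        MulAction.stabilizer (MulAction.stabilizer G a) (g • a) := by
      ext x
      rw [Subgroup.mem_subgroupOf, MulAction.mem_stabilizer_iff, MulAction.mem_stabilizer_iff]
      rfl
    rw [Subgroup.relIndex, h1, MulAction.index_stabilizer, ← Nat.card_coe_set_eq]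
    exact hb
  have hcore : ∀ N : Subgroup G, N.Normal → N ≤ MulAction.stabilizer G a → N = ⊥ := by
    intro N hN hNH
    rw [Subgroup.eq_bot_iff_forall]
    intro n hn
    apply FaithfulSMul.eq_of_smul_eq_smul (α := Ω)
    intro x
    obtain ⟨k, rfl⟩ := MulAction.exists_smul_eq G a x
    have h1 : k⁻¹ * n * k ∈ MulAction.stabilizer G a :=
      hNH (by have h := hN.conj_mem n hn k⁻¹; simpa using h)
    have h2 : (k⁻¹ * n * k) • a = a := h1
    rw [one_smul]
    calc n • k • a = k • (k⁻¹ * n * k) • a := by simp [smul_smul, mul_assoc]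
      _ = k • a := by rw [h2]
  have hnebot : MulAction.stabilizer G a ≠ ⊥ := by
    intro hbot
    rw [hbot, Subgroup.relIndex_bot_right] at hadj
    omega
  refine ⟨?_, hcore, ⟨g, hadj⟩⟩
  intro k hk
  by_contra hne
  have hle : MulAction.stabilizer G a ≤
      MulAction.stabilizer G a ⊔ MulAut.conj k • MulAction.stabilizer G a := le_sup_left
  have heq : MulAction.stabilizer G a ⊔ MulAut.conj k • MulAction.stabilizer G a =
      MulAction.stabilizer G a := by
    rcases eq_or_lt_of_le hle with h | h
    · exact h.symm
    · exact absurd (hco.2 _ h) hne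
  have hle2 : MulAut.conj k • MulAction.stabilizer G a ≤ MulAction.stabilizer G a := by
    conv_rhs => rw [← heq]
    exact le_sup_right
  have heq2 : MulAut.conj k • MulAction.stabilizer G a = MulAction.stabilizer G a :=
    Subgroup.eq_of_le_of_card_ge hle2 (by rw [card_conj_smul])
  have hkN : k ∈ Subgroup.normalizer (MulAction.stabilizer G a : Set G) := by
    rw [Subgroup.mem_normalizer_iff]
    intro h
    constructor
    · intro hh
      rw [← heq2]
      exact conj_mem_conj_smul hh
    · intro hh
      rw [← heq2, mem_conj_smul] at hh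
      have h3 : k⁻¹ * (k * h * k⁻¹) * k = h := by group
      rwa [h3] at hh
  have hNtop : Subgroup.normalizer (MulAction.stabilizer G a : Set G) = ⊤ := by
    rcases eq_or_lt_of_le (Subgroup.le_normalizer (H := MulAction.stabilizer G a)) with h | h
    · exact absurd (h ▸ hkN) hk
    · exact hco.2 _ h
  exact hnebot (hcore _ (Subgroup.normalizer_eq_top_iff.mp hNtop) le_rfl)

end Cfsg.Agent.Lib.Helper58.SWR0
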