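import Cfsg.Agent.Lib.Helper10.SWDefs

/-!
# S3685 / TG : `Cfg H` implies `|H| = 3 * 2 ^ k`.
-/

set_option autoImplicit false

namespace Cfsg.Agent.Lib.Helper58.SWTG

universe u

open Cfsg.Agent.Lib.Helper10.SWDefs Pointwise

/-- a permutation of three points with a fixed point is an involution -/
theorem perm3_sq (X : Type u) [Finite X] (hX : Nat.card X = 3) (σ : Equiv.Perm X) (p : X)
    (hp : σ p = p) : ∀ x, σ (σ x) = x := by
  obtain ⟨e⟩ : Nonempty (X ≃ Fin 3) := ⟨Finite.equivFinOfCardEq hX⟩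
  have key : ∀ τ : Equiv.Perm (Fin 3), ∀ i, τ i = i → ∀ j, τ (τ j) = j := by decide
  intro x
  have h := key (e.symm.trans (σ.trans e)) (e p) (by simp [hp]) (e x)
  simpa using h

theorem orderOf_conj' {G : Type u} [Group G] (h x : G) :
    orderOf (h * x * h⁻¹) = orderOf x := by
  rw [← MulAut.conj_apply]
  exact (MulAut.conj h).orderOf_eq x

/-- an element of odd order of a subgroup `L` of index `3` in `H` lies in every `H`-conjugate
of `L` -/
theorem conj_mem_of_odd {G : Type u} [Group G] [Finite G] (H L : Subgroup G) (hLH : L ≤ H)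
    (h3 : L.relIndex H = 3) (x : G) (hx : x ∈ L) (hodd : Odd (orderOf x)) (h : G) (hh : h ∈ H) :
    h * x * h⁻¹ ∈ L := by
  have hX : Nat.card (↥H ⧸ L.subgroupOf H) = 3 := h3
  have hfix : (MulAction.toPermHom ↥H (↥H ⧸ L.subgroupOf H)) ⟨x, hLH hx⟩
      (QuotientGroup.mk 1) = QuotientGroup.mk 1 := by
    rw [MulAction.toPermHom_apply, MulAction.toPerm_apply, MulAction.Quotient.smul_mk,
      QuotientGroup.eq, Subgroup.mem_subgroupOf]
    simpa using hx
  have hsq := perm3_sq _ hX _ _ hfix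
  have hσ1 : (MulAction.toPermHom ↥H (↥H ⧸ L.subgroupOf H)) ⟨x, hLH hx⟩ = 1 := by
    obtain ⟨k, hk⟩ := hodd
    have h1 : ((MulAction.toPermHom ↥H (↥H ⧸ L.subgroupOf H)) ⟨x, hLH hx⟩) ^ (orderOf x) = 1 := by
      rw [← map_pow]
      have h0 : (⟨x, hLH hx⟩ : ↥H) ^ orderOf x = 1 := Subtype.ext (by simp [pow_orderOf_eq_one])
      rw [h0, map_one]
    have h2 : (MulAction.toPermHom ↥H (↥H ⧸ L.subgroupOf H)) ⟨x, hLH hx⟩ *
        (MulAction.toPermHom ↥H (↥H ⧸ L.subgroupOf H)) ⟨x, hLH hx⟩ = 1 :=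
      Equiv.ext (fun y => hsq y)
    rw [hk, pow_succ, pow_mul, pow_two, h2, one_pow, one_mul] at h1
    exact h1
  have h3' := congrArg (fun τ : Equiv.Perm (↥H ⧸ L.subgroupOf H) =>
    τ (QuotientGroup.mk (⟨h⁻¹, H.inv_mem hh⟩ : ↥H))) hσ1
  simp only [MulAction.toPermHom_apply, MulAction.toPerm_apply, Equiv.Perm.coe_one, id] at h3'
  rw [MulAction.Quotient.smul_mk, QuotientGroup.eq, Subgroup.mem_subgroupOf] at h3'
  have h4 : h * x * h⁻¹ = ((x * h⁻¹)⁻¹ * h⁻¹)⁻¹ := by group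
  rw [h4]
  exact L.inv_mem (by simpa using h3')

theorem main : Cfsg.Agent.Lib.Helper10.SWDefs.StTG.{u} := by
  intro G _ _ H hcfg
  obtain ⟨g, hg⟩ := hcfg.adj
  have hgH : g ∉ H := by
    intro hgH
    rw [Subgroup.conj_smul_eq_self_of_mem hgH, inf_idem, Subgroup.relIndex_self] at hg
    omega
  have hgen := hcfg.gen g hgH
  have hLH : H ⊓ MulAut.conj g • H ≤ H := inf_le_left
  have hLP : H ⊓ MulAut.conj g • H ≤ MulAut.conj g • H := inf_le_right
  have hcardP : Nat.card (MulAut.conj g • H : Subgroup G) = Nat.card H := card_conj_smul g H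
  have hLpos : 0 < Nat.card (H ⊓ MulAut.conj g • H : Subgroup G) := Nat.card_pos
  have h3H : Nat.card (H ⊓ MulAut.conj g • H : Subgroup G) * 3 = Nat.card H := by
    have h := Subgroup.relIndex_mul_relIndex ⊥ (H ⊓ MulAut.conj g • H) H bot_le hLH
    rwa [Subgroup.relIndex_bot_left, Subgroup.relIndex_bot_left, hg] at h
  have h3P : (H ⊓ MulAut.conj g • H).relIndex (MulAut.conj g • H) = 3 := by
    have h := Subgroup.relIndex_mul_relIndex ⊥ (H ⊓ MulAut.conj g • H) (MulAut.conj g • H)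
      bot_le hLP
    rw [Subgroup.relIndex_bot_left, Subgroup.relIndex_bot_left, hcardP, ← h3H] at h
    exact Nat.eq_of_mul_eq_mul_left hLpos h
  have hTH : ∀ h ∈ H, ∀ x ∈ {x | x ∈ H ⊓ MulAut.conj g • H ∧ Odd (orderOf x)},
      h * x * h⁻¹ ∈ {x | x ∈ H ⊓ MulAut.conj g • H ∧ Odd (orderOf x)} := by
    intro h hh x hx
    refine ⟨conj_mem_of_odd H _ hLH hg x hx.1 hx.2 h hh, ?_⟩
    rw [orderOf_conj']
    exact hx.2
  have hTP : ∀ h ∈ MulAut.conj g • H, ∀ x ∈ {x | x ∈ H ⊓ MulAut.conj g • H ∧ Odd (orderOf x)},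
      h * x * h⁻¹ ∈ {x | x ∈ H ⊓ MulAut.conj g • H ∧ Odd (orderOf x)} := by
    intro h hh x hx
    refine ⟨conj_mem_of_odd _ _ hLP h3P x hx.1 hx.2 h hh, ?_⟩
    rw [orderOf_conj']
    exact hx.2
  have hNL : Subgroup.closure {x | x ∈ H ⊓ MulAut.conj g • H ∧ Odd (orderOf x)} ≤
      H ⊓ MulAut.conj g • H := (Subgroup.closure_le _).mpr (fun x hx => hx.1)
  have hNnormal : (Subgroup.closure {x | x ∈ H ⊓ MulAut.conj g • H ∧ Odd (orderOf x)}).Normal := by
    rw [← Subgroup.normalizer_eq_top_iff, eq_top_iff, ← hgen]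
    refine sup_le ?_ ?_
    · rw [Subgroup.le_normalizer_closure_iff]
      intro h hh x hx
      exact Subgroup.subset_closure (hTH h hh x hx)
    · rw [Subgroup.le_normalizer_closure_iff]
      intro h hh x hx
      exact Subgroup.subset_closure (hTP h hh x hx)
  have hNbot := hcfg.core _ hNnormal (hNL.trans hLH)
  have hT1 : ∀ x ∈ H ⊓ MulAut.conj g • H, Odd (orderOf x) → x = 1 := by
    intro x hx hodd
    have h : x ∈ Subgroup.closure {x | x ∈ H ⊓ MulAut.conj g • H ∧ Odd (orderOf x)} :=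
      Subgroup.subset_closure ⟨hx, hodd⟩
    rw [hNbot, Subgroup.mem_bot] at h
    exact h
  have h2 : IsPGroup 2 (H ⊓ MulAut.conj g • H : Subgroup G) := by
    intro y
    have hpos : orderOf (y : G) ≠ 0 := (orderOf_pos (y : G)).ne'
    obtain ⟨k, m, hm, hkm⟩ := Nat.exists_eq_two_pow_mul_odd hpos
    refine ⟨k, ?_⟩
    have hy : ((y : G) ^ 2 ^ k) = 1 := by
      apply hT1 _ (Subgroup.pow_mem _ y.2 _)
      rw [orderOf_pow_of_dvd (by positivity) ⟨m, hkm⟩, hkm,
        Nat.mul_div_cancel_left _ (by positivity)]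
      exact hm
    exact Subtype.ext (by simpa using hy)
  obtain ⟨k, hk⟩ := IsPGroup.iff_card.mp h2
  exact ⟨k, by rw [← h3H, hk]; ring⟩

end Cfsg.Agent.Lib.Helper58.SWTG
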