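import Mathlib
import Cfsg.Agent.Lib.Helper4.UniStmt

/-!
Piece ENA of S4395: the non-abelian model of order `p^(3a/2)` for `a` even.
-/

set_option autoImplicit false
set_option linter.style.haveILetI false
universe u

namespace Cfsg.Agent.Lib.Helper58.UniENA

open Cfsg.Agent.Lib.Helper4.UniStmt

theorem main : ENA.{u} := by
  intro hEF hEF2 hHEIS p q _ _ hpq heven
  classical
  obtain ⟨K, iK, iKfin, lam, hcardK, hl1, hlq, hirr⟩ := hEF p q hpq
  obtain ⟨s, hss, hls, hcardZ, hsurjs⟩ := hEF2 p q hpq heven K lam hcardK hlq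
  obtain ⟨P₀, iG, iGfin, α, X, Zc, hXmul, hZmul, hinj, hrel, hex, hXα, hZα⟩ :=
    hHEIS K lam s hss hls
  have hX1 : X 1 = 0 := by
    have := hXmul 1 1
    rw [mul_one] at this
    linear_combination -this
  have hXinv : ∀ g : P₀, X g⁻¹ = - X g := by
    intro g
    have := hXmul g g⁻¹
    rw [mul_inv_cancel, hX1] at this
    linear_combination -this
  have hXαn : ∀ (n : ℕ) (g : P₀), X ((α ^ n) g) = lam ^ n * X g ∧ Zc ((α ^ n) g) = Zc g := by
    intro n
    induction n with
    | zero => intro g; simp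
    | succ n ih =>
      intro g
      rw [pow_succ, MulAut.mul_apply]
      refine ⟨?_, ?_⟩
      · rw [(ih (α g)).1, hXα, pow_succ, mul_assoc]
      · rw [(ih (α g)).2, hZα]
  have hαq : α ^ q = 1 := by
    ext g
    rw [MulAut.one_apply]
    apply hinj
    · rw [(hXαn q g).1, hlq, one_mul]
    · exact (hXαn q g).2
  have hα1 : α ≠ 1 := by
    intro h
    obtain ⟨z, hz⟩ := hsurjs 1 (map_one s)
    obtain ⟨g, hg1, hg2⟩ := hex 1 z (by rw [map_one, mul_one]; exact hz)
    have := hXα g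
    rw [h, MulAut.one_apply, hg1, mul_one] at this
    exact hl1 this.symm
  -- the cardinality
  have hz0 : ∀ x : K, ∃ z : K, z + s z = x * s x := fun x =>
    hsurjs _ (by rw [map_mul, hss, mul_comm])
  choose z₀ hz₀ using hz0
  let f : P₀ → K × {z : K // z + s z = 0} := fun g =>
    (X g, ⟨Zc g - z₀ (X g), by rw [map_sub]; linear_combination hrel g - hz₀ (X g)⟩)
  have hf : Function.Bijective f := by
    constructor
    · intro g h hgh
      have h1 : X g = X h := congrArg Prod.fst hgh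
      have h2 : Zc g - z₀ (X g) = Zc h - z₀ (X h) := congrArg (fun x => (x.2 : K)) hgh
      apply hinj _ _ h1
      rw [h1] at h2
      linear_combination h2
    · rintro ⟨x, z, hz⟩
      obtain ⟨g, hg1, hg2⟩ := hex x (z + z₀ x) (by rw [map_add]; linear_combination hz + hz₀ x)
      refine ⟨g, ?_⟩
      apply Prod.ext
      · exact hg1
      · apply Subtype.ext
        change Zc g - z₀ (X g) = z
        rw [hg1, hg2]; ring
  have hcard : Nat.card P₀ = p ^ (3 * orderOf (p : ZMod q) / 2) := by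
    rw [Nat.card_eq_of_bijective f hf, Nat.card_prod, hcardK, hcardZ, ← pow_add]
    congr 1
    generalize orderOf (p : ZMod q) = a at heven
    omega
  have hpg : IsPGroup p P₀ := IsPGroup.of_card hcard
  refine ⟨P₀, iG, iGfin, α, ⟨hpg, hαq, hα1, ?_⟩, hcard⟩
  intro R hR w hw r hr
  let A : AddSubgroup K :=
    { carrier := X '' (R : Set P₀)
      zero_mem' := ⟨1, R.one_mem, hX1⟩
      add_mem' := by
        rintro _ _ ⟨a, ha, rfl⟩ ⟨b, hb, rfl⟩
        exact ⟨a * b, R.mul_mem ha hb, hXmul a b⟩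
      neg_mem' := by
        rintro _ ⟨a, ha, rfl⟩
        exact ⟨a⁻¹, R.inv_mem ha, hXinv a⟩ }
  have hAmem : ∀ x : K, x ∈ A ↔ ∃ r ∈ R, X r = x := fun x => Iff.rfl
  have hA : ∀ x ∈ A, lam * x ∈ A := by
    rintro _ ⟨a, ha, rfl⟩
    refine ⟨w * α a * w⁻¹, hw a ha, ?_⟩
    rw [hXmul, hXmul, hXinv, hXα]; ring
  rcases hirr A hA with h | h
  · have hXr : X r = 0 := by
      have : X r ∈ A := ⟨r, hr, rfl⟩
      rw [h] at this
      exact AddSubgroup.mem_bot.1 this
    constructor
    · apply hinj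
      · rw [hXα, hXr, mul_zero]
      · exact hZα r
    · rw [Subgroup.mem_center_iff]
      intro g
      apply hinj
      · rw [hXmul, hXmul, add_comm]
      · rw [hZmul, hZmul, hXr, map_zero]; ring
  · exfalso
    apply hR
    have key : ∀ k : P₀, X k = 0 → k ∈ R := by
      intro k hk
      have hz₁ : Zc k + s (Zc k) = 0 := by rw [hrel k, hk, zero_mul]
      obtain ⟨t, ht⟩ := hsurjs 1 (map_one s)
      obtain ⟨r₁, hr₁, hX₁⟩ : (1 : K) ∈ A := by rw [h]; exact AddSubgroup.mem_top _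
      obtain ⟨r₂, hr₂, hX₂⟩ : t * Zc k ∈ A := by rw [h]; exact AddSubgroup.mem_top _
      obtain ⟨c, hcdef⟩ : ∃ c, c = r₁ * r₂ * r₁⁻¹ * r₂⁻¹ := ⟨_, rfl⟩
      have hc : c ∈ R := by
        rw [hcdef]
        exact R.mul_mem (R.mul_mem (R.mul_mem hr₁ hr₂) (R.inv_mem hr₁)) (R.inv_mem hr₂)
      have hcm : c * (r₂ * r₁) = r₁ * r₂ := by rw [hcdef]; group
      have hXc : X c = 0 := by
        have := congrArg X hcm
        rw [hXmul, hXmul, hXmul] at this
        linear_combination this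
      have e1 : Zc (c * (r₂ * r₁)) =
          Zc c + (Zc r₂ + Zc r₁ + s (X r₂) * X r₁) + s (X c) * (X r₂ + X r₁) := by
        rw [hZmul, hZmul, hXmul]
      have e2 : Zc (r₁ * r₂) = Zc r₁ + Zc r₂ + s (X r₁) * X r₂ := hZmul _ _
      rw [hcm, e2, hXc, hX₁, hX₂, map_zero, map_one, map_mul] at e1
      have hZc : Zc c = Zc k := by
        linear_combination (-1 : K) * e1 + Zc k * ht - s t * hz₁
      have : k = c := hinj k c (hk.trans hXc.symm) hZc.symm
      rw [this]; exact hc
    rw [eq_top_iff]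
    intro g _
    obtain ⟨r', hr', hXr'⟩ : X g ∈ A := by rw [h]; exact AddSubgroup.mem_top _
    have h1 : r'⁻¹ * g ∈ R := key _ (by rw [hXmul, hXinv, hXr']; ring)
    have h2 := R.mul_mem hr' h1
    simpa using h2

end Cfsg.Agent.Lib.Helper58.UniENA
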