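import Mathlib
import Cfsg.Prelude.Def_Blocks
import Cfsg.Agent.S0907
import Cfsg.Agent.Lib.Helper80.Burnside
import Cfsg.Agent.Lib.CT.Orth
import Cfsg.Agent.Lib.CT.Kernel
import Cfsg.Agent.Lib.CT.Ops

/-!
Character-theoretic core of Kazarin's theorem: if `G` is the normal closure of an element `x`
whose class has `p`-power size, then every prime divisor of `|G|` other than `p` divides the
order of `x`.  The proof uses the principal `q`-block (for a prime `q ≠ p` not dividing the order
of `x`), Burnside's coprimality lemma and weak block orthogonality.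
-/

set_option autoImplicit false

namespace Cfsg.Agent.Lib.Helper58.KazarinChar

open Cfsg
open Cfsg.Agent.Lib.Helper80.Integrality Cfsg.Agent.Lib.Helper80.Burnside
open Cfsg.Agent.Lib.CT.Wedderburn Cfsg.Agent.Lib.CT.Orth Cfsg.Agent.Lib.CT.Kernel
open Cfsg.Agent.Lib.Helper77.LocalRing
open scoped ComplexConjugate

universe u

/-- There is a maximal ideal of the algebraic integers containing a given prime. -/
theorem exists_isPModular (q : ℕ) (hq : q.Prime) : ∃ M : Ideal AlgInt, IsPModular q M := by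
  have hI : Ideal.span {(q : AlgInt)} ≠ ⊤ := by
    intro h
    rw [Ideal.eq_top_iff_one, Ideal.mem_span_singleton'] at h
    obtain ⟨b, hb⟩ := h
    have h1 : (b : ℂ) * (q : ℂ) = 1 := by
      have := congrArg (fun z : AlgInt => (z : ℂ)) hb
      simpa using this
    have hq0 : (q : ℂ) ≠ 0 := by exact_mod_cast hq.ne_zero
    have h2 : IsIntegral ℤ (((1 : ℕ) : ℂ) / ((q : ℕ) : ℂ)) := by
      have h3 : ((1 : ℕ) : ℂ) / ((q : ℕ) : ℂ) = (b : ℂ) := by
        rw [div_eq_iff hq0, h1]; simp
      rw [h3]; exact b.2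
    have h3 := dvd_of_isIntegral_div hq.ne_zero h2
    exact hq.one_lt.ne' (Nat.dvd_one.1 h3)
  obtain ⟨M, hM, hle⟩ := Ideal.exists_le_maximal _ hI
  exact ⟨M, hq, hM, hle (Ideal.subset_span rfl)⟩

/-- A root of unity is an algebraic integer. -/
theorem isIntegral_of_pow_eq_one {ω : ℂ} {n : ℕ} (hn : 0 < n) (h : ω ^ n = 1) :
    IsIntegral ℤ ω := by
  refine ⟨Polynomial.X ^ n - 1, Polynomial.monic_X_pow_sub_C (1 : ℤ) hn.ne', ?_⟩
  simp [h]

/-- Key step: under the hypotheses of the main proposition, a non-principal character in the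
principal `q`-block has degree divisible by `p`. -/
theorem dvd_charDegree_of_mem_principal {G : Type u} [Group G] [Finite G] (x : G) (p a : ℕ)
    (hp : p.Prime) (hx : (Subgroup.centralizer ({x} : Set G)).index = p ^ a)
    (hgen : Subgroup.normalClosure ({x} : Set G) = ⊤)
    (q : ℕ) (hqp : q ≠ p) (hqx : ¬ q ∣ orderOf x)
    (M : Ideal AlgInt) (hM : IsPModular q M)
    (χ : IrrCharacter G) (hχB : χ ∈ principalBlock M G) (hχ1 : (χ : G → ℂ) ≠ fun _ => 1) :
    p ∣ charDegree (χ : G → ℂ) := by
  classical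
  letI := Fintype.ofFinite G
  have hMp := isPrime_of_isPModular hM
  have hq := hM.1
  have hchar : IsCharacter G (χ : G → ℂ) := isCharacter_of_irr χ.2
  by_contra hpd
  have hcop : Nat.Coprime (charDegree (χ : G → ℂ))
      (Subgroup.centralizer ({x} : Set G)).index := by
    rw [hx]
    exact Nat.Coprime.pow_right a ((Nat.Prime.coprime_iff_not_dvd hp).2 hpd).symm
  have hblock : MemLocalIdeal M (centralChar (fun _ : G => (1 : ℂ)) x
      - centralChar (χ : G → ℂ) x) := hχB x
  have hc1 : centralChar (fun _ : G => (1 : ℂ)) x = ((p ^ a : ℕ) : ℂ) := by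
    simp [centralChar, hx]
  have hqpa : ¬ q ∣ p ^ a := fun h =>
    hqp ((Nat.prime_dvd_prime_iff_eq hq hp).1 (hq.dvd_of_dvd_pow h))
  rcases irr_eq_zero_or_norm_eq_of_coprime χ x hcop with h0 | hnorm
  · have hc2 : centralChar (χ : G → ℂ) x = 0 := by simp [centralChar, h0]
    rw [hc1, hc2, sub_zero] at hblock
    exact hqpa ((memLocalIdeal_natCast_iff hM _).1 hblock)
  · obtain ⟨ω, hω1, -, hω3⟩ := exists_scalar_of_norm_eq hchar hnorm
    have hχ1ne : (χ : G → ℂ) 1 ≠ 0 := irr_apply_one_ne_zero χ.2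
    have hpow : ∀ k : ℕ, (χ : G → ℂ) (x ^ k) = ω ^ k * (χ : G → ℂ) 1 := by
      intro k
      induction k with
      | zero => simp
      | succ k ih => rw [pow_succ', hω1, ih, pow_succ']; ring
    have hωn : ω ^ orderOf x = 1 := by
      have h1 := hpow (orderOf x)
      rw [pow_orderOf_eq_one] at h1
      have h2 : ω ^ orderOf x * (χ : G → ℂ) 1 = 1 * (χ : G → ℂ) 1 := by rw [one_mul, ← h1]
      exact mul_right_cancel₀ hχ1ne h2
    have hωint : IsIntegral ℤ ω := isIntegral_of_pow_eq_one (orderOf_pos x) hωn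
    have hc2 : centralChar (χ : G → ℂ) x = ((p ^ a : ℕ) : ℂ) * ω := by
      simp only [centralChar, hx, hω3]
      field_simp
    rw [hc1, hc2] at hblock
    have hz : MemLocalIdeal M (1 - ω) := by
      have h1 : MemLocalIdeal M (((p ^ a : ℕ) : ℂ) * (1 - ω)) := by
        have h2 : ((p ^ a : ℕ) : ℂ) * (1 - ω) = ((p ^ a : ℕ) : ℂ) - ((p ^ a : ℕ) : ℂ) * ω := by
          ring
        rw [h2]; exact hblock
      rcases memLocalIdeal_or_of_mul hMp (memLocalRing_natCast hMp _) h1 with h | h
      · exact absurd ((memLocalIdeal_natCast_iff hM _).1 h) hqpa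
      · exact h
    have hω_one : ω = 1 := by
      by_contra hne
      have hgeo : ∑ j ∈ Finset.range (orderOf x), ω ^ j = 0 := by
        have h1 := geom_sum_mul ω (orderOf x)
        rw [hωn, sub_self] at h1
        rcases mul_eq_zero.1 h1 with h | h
        · exact h
        · exact absurd (sub_eq_zero.1 h) hne
      have hn : MemLocalIdeal M ((orderOf x : ℕ) : ℂ) := by
        have h2 : ((orderOf x : ℕ) : ℂ) = ∑ j ∈ Finset.range (orderOf x), (1 - ω ^ j) := by
          rw [Finset.sum_sub_distrib, hgeo]; simp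
        rw [h2]
        apply memLocalIdeal_sum hMp
        intro j _
        have h3 : 1 - ω ^ j = (∑ i ∈ Finset.range j, ω ^ i) * (1 - ω) := by
          have h4 := geom_sum_mul ω j
          linear_combination h4
        rw [h3]
        exact memLocalIdeal_mul_left hMp
          (memLocalRing_of_isIntegral hMp
            (IsIntegral.sum _ (fun i _ => hωint.pow i))) hz
      exact hqx ((memLocalIdeal_natCast_iff hM _).1 hn)
    have hx1 : (χ : G → ℂ) x = (χ : G → ℂ) 1 := by rw [hω3, hω_one, one_mul]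
    obtain ⟨K, hKn, hK⟩ := exists_normal_ker hchar
    have hKtop : K = ⊤ := by
      apply top_unique
      rw [← hgen]
      exact Subgroup.normalClosure_le_normal (Set.singleton_subset_iff.2 ((hK x).2 hx1))
    have hconst : ∀ g : G, (χ : G → ℂ) g = (χ : G → ℂ) 1 := fun g =>
      (hK g).1 (hKtop ▸ Subgroup.mem_top g)
    have horth := irr_orthonormal χ ⟨fun _ => (1 : ℂ), Cfsg.Agent.Lib.CT.Ops.isIrrCharacter_one⟩
    rw [if_neg (fun hh => hχ1 (congrArg Subtype.val hh)), classInner] at horth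
    have hne : (Nat.card G : ℂ) ≠ 0 := Nat.cast_ne_zero.mpr Nat.card_pos.ne'
    have h1 : ∑ y : G, (χ : G → ℂ) y * conj ((1 : ℂ)) = (Nat.card G : ℂ) * (χ : G → ℂ) 1 := by
      simp only [hconst, map_one, mul_one, Finset.sum_const, Finset.card_univ, nsmul_eq_mul,
        Nat.card_eq_fintype_card]
    rw [h1] at horth
    have h2 : (χ : G → ℂ) 1 = 0 := by
      rcases mul_eq_zero.1 horth with h3 | h3
      · exact absurd (inv_eq_zero.1 h3) hne
      · rcases mul_eq_zero.1 h3 with h4 | h4
        · exact absurd h4 hne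
        · exact h4
    exact hχ1ne h2

/-- **Main proposition.** If `G` is the normal closure of an element `x` whose conjugacy class
has `p`-power size, then every prime divisor of `|G|` other than `p` divides the order of `x`. -/
theorem prime_dvd_orderOf {G : Type u} [Group G] [Finite G] (x : G) (p a : ℕ)
    (hp : p.Prime) (hx : (Subgroup.centralizer ({x} : Set G)).index = p ^ a)
    (hgen : Subgroup.normalClosure ({x} : Set G) = ⊤)
    (q : ℕ) (hq : q.Prime) (hqp : q ≠ p) (hqG : q ∣ Nat.card G) : q ∣ orderOf x := by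
  classical
  by_contra hqx
  haveI : Fact q.Prime := ⟨hq⟩
  obtain ⟨M, hM⟩ := exists_isPModular q hq
  have hMp := isPrime_of_isPModular hM
  letI := Fintype.ofFinite G
  haveI := finite_irrCharacter G
  letI := Fintype.ofFinite (IrrCharacter G)
  obtain ⟨g, hg⟩ := exists_prime_orderOf_dvd_card' q hqG
  obtain ⟨triv, htriv⟩ : ∃ t : IrrCharacter G, t =
      ⟨fun _ => (1 : ℂ), Cfsg.Agent.Lib.CT.Ops.isIrrCharacter_one⟩ := ⟨_, rfl⟩
  have htriv' : (triv : G → ℂ) = fun _ => (1 : ℂ) := by rw [htriv]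
  have hB : IsPBlock M (principalBlock M G) := ⟨triv, by rw [htriv']; rfl⟩
  have hsum := Cfsg.Agent.S0907.result q M hM (principalBlock M G) hB 1 g
    (by rw [orderOf_one]; exact hq.one_lt.ne' ∘ Nat.dvd_one.1) (by rw [hg])
  rw [finsum_mem_eq_finite_toFinset_sum _ (Set.toFinite _)] at hsum
  have htrivB : triv ∈ (Set.toFinite (principalBlock M G)).toFinset := by
    rw [Set.Finite.mem_toFinset]
    intro y
    rw [htriv', sub_self]
    exact memLocalIdeal_zero hMp
  rw [← Finset.add_sum_erase _ _ htrivB] at hsum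
  have hp0 : (p : ℂ) ≠ 0 := by exact_mod_cast hp.ne_zero
  have hterm : ∀ χ ∈ (Set.toFinite (principalBlock M G)).toFinset.erase triv,
      IsIntegral ℤ ((χ : G → ℂ) 1 * conj ((χ : G → ℂ) g) / (p : ℂ)) := by
    intro χ hχ
    have hne : (χ : G → ℂ) ≠ fun _ => 1 := fun hh =>
      (Finset.ne_of_mem_erase hχ) (by rw [htriv]; exact Subtype.ext hh)
    have hχB : χ ∈ principalBlock M G :=
      (Set.Finite.mem_toFinset _).1 (Finset.mem_of_mem_erase hχ)
    obtain ⟨m, hm⟩ := dvd_charDegree_of_mem_principal x p a hp hx hgen q hqp hqx M hM χ hχB hne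
    have h1 : (χ : G → ℂ) 1 * conj ((χ : G → ℂ) g) / (p : ℂ) = (m : ℂ) * conj ((χ : G → ℂ) g) := by
      rw [apply_one_eq_charDegree (isCharacter_of_irr χ.2), hm]
      push_cast
      field_simp
    rw [h1]
    exact (isIntegral_algebraMap (R := ℤ) (x := (m : ℤ))).mul
      (map_isIntegral_int (starRingEnd ℂ) (isIntegral_irrCharacter χ g))
  have hint := IsIntegral.sum _ hterm
  rw [← Finset.sum_div] at hint
  have h2 : ∑ χ ∈ (Set.toFinite (principalBlock M G)).toFinset.erase triv,
      (χ : G → ℂ) 1 * conj ((χ : G → ℂ) g) = -1 := by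
    have h3 : (triv : G → ℂ) 1 * conj ((triv : G → ℂ) g) = 1 := by simp [htriv']
    rw [h3] at hsum
    linear_combination hsum
  rw [h2] at hint
  have h3 : IsIntegral ℤ (((1 : ℕ) : ℂ) / ((p : ℕ) : ℂ)) := by
    have h4 := hint.neg
    have h5 : -(-1 / (p : ℂ)) = ((1 : ℕ) : ℂ) / ((p : ℕ) : ℂ) := by
      push_cast; ring
    rwa [h5] at h4
  have h6 := dvd_of_isIntegral_div hp.ne_zero h3
  exact hp.one_lt.ne' (Nat.dvd_one.1 h6)

end Cfsg.Agent.Lib.Helper58.KazarinChar
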