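import Mathlib
import Cfsg.Agent.Lib.Helper58.KazarinChar
import Cfsg.Agent.S0144
import Cfsg.Agent.Lib.Helper67.ClassSize

/-!
Kazarin's theorem: an element whose conjugacy class has prime-power size generates a solvable
normal subgroup.  Group-theoretic reduction to `KazarinChar.prime_dvd_orderOf` and Burnside's
`p^a q^b` theorem.
-/

set_option autoImplicit false

namespace Cfsg.Agent.Lib.Helper58.Kazarin

open Subgroup
open Cfsg.Agent.Lib.Helper58.KazarinChar

universe u

/-- The join of a solvable normal subgroup and a solvable subgroup is solvable. -/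
theorem sup_solvable {G : Type u} [Group G] (M A : Subgroup G) [hMn : M.Normal]
    (hM : Group.IsSolvable M) (hA : Group.IsSolvable A) :
    Group.IsSolvable (M ⊔ A : Subgroup G) := by
  let g : ↥(M ⊔ A) →* G ⧸ M := (QuotientGroup.mk' M).comp (M ⊔ A).subtype
  have hAr : ∀ a : A, (QuotientGroup.mk' M).comp A.subtype a ∈ g.range := fun a =>
    ⟨⟨(a : G), (le_sup_right : A ≤ M ⊔ A) a.2⟩, rfl⟩
  let φ : A →* g.range := MonoidHom.codRestrict ((QuotientGroup.mk' M).comp A.subtype) g.range hAr
  have hφ : Function.Surjective φ := by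
    rintro ⟨y, ⟨l, rfl⟩⟩
    have hl : (l : G) ∈ (M ⊔ A : Subgroup G) := l.2
    rw [← SetLike.mem_coe, Subgroup.normal_mul] at hl
    obtain ⟨m, hm, a, ha, hma⟩ := hl
    refine ⟨⟨a, ha⟩, Subtype.ext ?_⟩
    show (QuotientGroup.mk' M) a = (QuotientGroup.mk' M) (l : G)
    rw [← hma, QuotientGroup.mk'_apply, QuotientGroup.mk'_apply, QuotientGroup.eq]
    have e : a⁻¹ * (m * a) = a⁻¹ * m * a⁻¹⁻¹ := by group
    rw [e]
    exact hMn.conj_mem m hm a⁻¹
  haveI : Group.IsSolvable g.range := Group.isSolvable_of_surjective hφ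
  refine Group.isSolvable_of_ker_le_range (Subgroup.inclusion (le_sup_left : M ≤ M ⊔ A))
    g.rangeRestrict ?_
  intro l hl
  rw [MonoidHom.mem_ker] at hl
  have hl' : g l = 1 := congrArg Subtype.val hl
  have hlM : (l : G) ∈ M := by
    have : (QuotientGroup.mk' M) (l : G) = 1 := hl'
    rwa [QuotientGroup.mk'_apply, QuotientGroup.eq_one_iff] at this
  exact ⟨⟨(l : G), hlM⟩, Subtype.ext rfl⟩

/-- In a finite group, a solvable normal subgroup of maximal order contains every solvable
normal subgroup. -/
theorem exists_max_solvable_normal (N : Type u) [Group N] [Finite N] :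
    ∃ R : Subgroup N, R.Normal ∧ Group.IsSolvable R ∧
      ∀ T : Subgroup N, T.Normal → Group.IsSolvable T → T ≤ R := by
  haveI : Nonempty {R : Subgroup N // R.Normal ∧ Group.IsSolvable R} :=
    ⟨⟨⊥, inferInstance, inferInstance⟩⟩
  obtain ⟨⟨R, hRn, hRs⟩, hmax⟩ := Finite.exists_max
    (fun R : {R : Subgroup N // R.Normal ∧ Group.IsSolvable R} => Nat.card R.1)
  refine ⟨R, hRn, hRs, fun T hTn hTs => ?_⟩
  haveI := hRn
  haveI := hTn
  have h1 : Group.IsSolvable (R ⊔ T : Subgroup N) := sup_solvable R T hRs hTs
  have h2 : (R ⊔ T : Subgroup N).Normal := inferInstance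
  have h3 : Nat.card (R ⊔ T : Subgroup N) ≤ Nat.card R := hmax ⟨R ⊔ T, h2, h1⟩
  have h4 : R = R ⊔ T := Subgroup.eq_of_le_of_card_ge le_sup_left h3
  rw [h4]
  exact le_sup_right

/-- The centralizer index is the same for conjugate elements. -/
theorem index_centralizer_conj {G : Type u} [Group G] (g x : G) :
    (centralizer ({g * x * g⁻¹} : Set G)).index = (centralizer ({x} : Set G)).index := by
  rw [← Cfsg.Agent.Lib.Helper67.ClassSize.ncard_carrier_eq_index,
    ← Cfsg.Agent.Lib.Helper67.ClassSize.ncard_carrier_eq_index]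
  have h : ConjClasses.mk (g * x * g⁻¹) = ConjClasses.mk x :=
    ConjClasses.mk_eq_mk_iff_isConj.2 (isConj_iff.2 ⟨g⁻¹, by group⟩)
  rw [h]

/-- Kazarin's theorem for elements of prime-power order. -/
theorem solvable_of_primePow (p : ℕ) (hp : p.Prime) :
    ∀ (n : ℕ) (G : Type u) [Group G] [Finite G], Nat.card G = n →
      ∀ (x : G) (r e a : ℕ), r.Prime → orderOf x = r ^ e →
        (centralizer ({x} : Set G)).index = p ^ a →
        Group.IsSolvable (normalClosure ({x} : Set G)) := by
  intro n
  induction n using Nat.strong_induction_on with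
  | _ n ih =>
    intro G _ _ hn x r e a hr hxo hxc
    by_cases htop : normalClosure ({x} : Set G) = ⊤
    · have hG : Group.IsSolvable G := by
        apply Cfsg.Agent.S0144.main p r hp hr (Nat.card G) G rfl
        intro q hq hqd
        by_cases hqp : q = p
        · exact Or.inl hqp
        · right
          have h1 := prime_dvd_orderOf x p a hp hxc htop q hq hqp hqd
          rw [hxo] at h1
          exact (Nat.prime_dvd_prime_iff_eq hq hr).1 (hq.dvd_of_dvd_pow h1)
      infer_instance
    · obtain ⟨N, hN⟩ : ∃ N : Subgroup G, N = normalClosure ({x} : Set G) := ⟨_, rfl⟩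
      rw [← hN] at htop ⊢
      haveI hNn : N.Normal := by rw [hN]; exact normalClosure_normal
      have hxN : x ∈ N := by rw [hN]; exact subset_normalClosure rfl
      have hcard : Nat.card N < n := by
        rw [← hn]
        exact lt_of_le_of_ne (Subgroup.card_le_card_group N)
          (fun h => htop (Subgroup.eq_top_of_card_eq N h))
      obtain ⟨R, hRn, hRs, hRmax⟩ := exists_max_solvable_normal N
      have hconj : ∀ g : G, ∀ hmem : g * x * g⁻¹ ∈ N, (⟨g * x * g⁻¹, hmem⟩ : N) ∈ R := by
        intro g hmem
        have ho : orderOf (⟨g * x * g⁻¹, hmem⟩ : N) = r ^ e := by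
          rw [← hxo, ← Subgroup.orderOf_coe]
          exact (MulAut.conj g).orderOf_eq x
        have hidx : (centralizer ({g * x * g⁻¹} : Set G)).index = p ^ a := by
          rw [index_centralizer_conj, hxc]
        have hdvd := Cfsg.Agent.Lib.Helper67.ClassSize.index_centralizer_subgroup_dvd N
          (⟨g * x * g⁻¹, hmem⟩ : N)
        rw [hidx] at hdvd
        obtain ⟨b, -, hb⟩ := (Nat.dvd_prime_pow hp).1 hdvd
        have hs := ih (Nat.card N) hcard N rfl (⟨g * x * g⁻¹, hmem⟩ : N) r e b hr ho hb
        exact hRmax _ normalClosure_normal hs (subset_normalClosure rfl)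
      have hall : ∀ y : N, y ∈ R := by
        have hle : normalClosure ({x} : Set G) ≤ R.map N.subtype := by
          show Subgroup.closure (Group.conjugatesOfSet ({x} : Set G)) ≤ R.map N.subtype
          refine (Subgroup.closure_le _).2 ?_
          intro c hc
          rw [Group.mem_conjugatesOfSet_iff] at hc
          obtain ⟨s, hs, hsc⟩ := hc
          rw [Set.mem_singleton_iff] at hs
          subst hs
          obtain ⟨g, hg⟩ := isConj_iff.1 hsc
          have hmem : g * s * g⁻¹ ∈ N := hNn.conj_mem s hxN g
          rw [← hg]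
          exact ⟨⟨g * s * g⁻¹, hmem⟩, hconj g hmem, rfl⟩
        intro y
        obtain ⟨y', hy', hyy⟩ := hle (hN.le y.2)
        have : y' = y := Subtype.ext hyy
        rwa [← this]
      have hsurj : Function.Surjective (R.subtype) := fun y => ⟨⟨y, hall y⟩, rfl⟩
      haveI := hRs
      exact Group.isSolvable_of_surjective hsurj

/-- Kazarin's theorem, centralizer-index form. -/
theorem solvable_of_index (p : ℕ) (hp : p.Prime) {G : Type u} [Group G] [Finite G] :
    ∀ (m : ℕ) (x : G) (a : ℕ), orderOf x = m → (centralizer ({x} : Set G)).index = p ^ a →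
      Group.IsSolvable (normalClosure ({x} : Set G)) := by
  intro m
  induction m using Nat.strong_induction_on with
  | _ m ih =>
    intro x a hxo hxc
    have hm0 : m ≠ 0 := hxo ▸ (orderOf_pos x).ne'
    by_cases hm1 : m = 1
    · exact solvable_of_primePow p hp _ G rfl x 2 0 a Nat.prime_two
        (by rw [hxo, hm1, pow_zero]) hxc
    · obtain ⟨r, hr⟩ : ∃ r : ℕ, r = m.minFac := ⟨_, rfl⟩
      have hrp : r.Prime := hr ▸ Nat.minFac_prime hm1
      have hrm : r ∣ m := hr ▸ Nat.minFac_dvd m
      obtain ⟨u, hu⟩ : ∃ u : ℕ, u = r ^ m.factorization r := ⟨_, rfl⟩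
      obtain ⟨v, hv⟩ : ∃ v : ℕ, v = m / r ^ m.factorization r := ⟨_, rfl⟩
      have huv : u * v = m := by rw [hu, hv]; exact Nat.ordProj_mul_ordCompl_eq_self m r
      have hcop : Nat.Coprime u v := by
        rw [hu, hv]; exact (Nat.coprime_ordCompl hrp hm0).pow_left _
      by_cases hv1 : v = 1
      · exact solvable_of_primePow p hp _ G rfl x r _ a hrp
          (by rw [hxo, ← huv, hv1, mul_one, hu]) hxc
      · have hu0 : u ≠ 0 := by rw [hu]; exact pow_ne_zero _ hrp.ne_zero
        have hv0 : v ≠ 0 := by rintro rfl; rw [mul_zero] at huv; exact hm0 huv.symm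
        have hu1 : 1 < u := by
          rw [hu]
          exact Nat.one_lt_pow (hrp.factorization_pos_of_dvd hm0 hrm).ne' hrp.one_lt
        have hv1' : 1 < v := by omega
        have hv_lt : v < m := by
          rw [← huv]; exact lt_mul_of_one_lt_left (Nat.pos_of_ne_zero hv0) hu1
        have hu_lt : u < m := by
          rw [← huv]; exact lt_mul_of_one_lt_right (Nat.pos_of_ne_zero hu0) hv1'
        have hy : orderOf (x ^ u) = v := by
          rw [orderOf_pow_of_dvd hu0 (by rw [hxo, ← huv]; exact dvd_mul_right u v), hxo, ← huv]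
          exact Nat.mul_div_cancel_left v (Nat.pos_of_ne_zero hu0)
        have hz : orderOf (x ^ v) = u := by
          rw [orderOf_pow_of_dvd hv0 (by rw [hxo, ← huv]; exact dvd_mul_left v u), hxo, ← huv]
          exact Nat.mul_div_cancel u (Nat.pos_of_ne_zero hv0)
        have hcent : ∀ k : ℕ, ∃ b : ℕ, (centralizer ({x ^ k} : Set G)).index = p ^ b := by
          intro k
          have hle : centralizer ({x} : Set G) ≤ centralizer ({x ^ k} : Set G) := by
            intro c hc
            rw [mem_centralizer_singleton_iff] at hc ⊢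
            exact ((Commute.pow_right (show Commute c x from hc) k)).eq
          have hdvd := index_dvd_of_le hle
          rw [hxc] at hdvd
          obtain ⟨b, -, hb⟩ := (Nat.dvd_prime_pow hp).1 hdvd
          exact ⟨b, hb⟩
        obtain ⟨b, hb⟩ := hcent u
        obtain ⟨c, hc⟩ := hcent v
        have hsy := ih v hv_lt (x ^ u) b hy hb
        have hsz := ih u hu_lt (x ^ v) c hz hc
        have hsup := sup_solvable (normalClosure ({x ^ u} : Set G))
          (normalClosure ({x ^ v} : Set G)) hsy hsz
        have hxmem : x ∈ normalClosure ({x ^ u} : Set G) ⊔ normalClosure ({x ^ v} : Set G) := by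
          have h1 := Nat.gcd_eq_gcd_ab u v
          rw [hcop.gcd_eq_one] at h1
          rw [Nat.cast_one] at h1
          have h2 : x = (x ^ u) ^ (Nat.gcdA u v) * (x ^ v) ^ (Nat.gcdB u v) := by
            calc x = x ^ (1 : ℤ) := (zpow_one x).symm
              _ = x ^ ((u : ℤ) * Nat.gcdA u v + (v : ℤ) * Nat.gcdB u v) := by rw [← h1]
              _ = (x ^ (u : ℤ)) ^ (Nat.gcdA u v) * (x ^ (v : ℤ)) ^ (Nat.gcdB u v) := by
                rw [zpow_add, zpow_mul, zpow_mul]
              _ = (x ^ u) ^ (Nat.gcdA u v) * (x ^ v) ^ (Nat.gcdB u v) := by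
                rw [zpow_natCast, zpow_natCast]
          have h3 : (x ^ u) ^ (Nat.gcdA u v) * (x ^ v) ^ (Nat.gcdB u v) ∈
              normalClosure ({x ^ u} : Set G) ⊔ normalClosure ({x ^ v} : Set G) :=
            mul_mem (mem_sup_left (zpow_mem (subset_normalClosure (Set.mem_singleton _)) _))
              (mem_sup_right (zpow_mem (subset_normalClosure (Set.mem_singleton _)) _))
          rw [← h2] at h3
          exact h3
        have hle : normalClosure ({x} : Set G) ≤
            normalClosure ({x ^ u} : Set G) ⊔ normalClosure ({x ^ v} : Set G) :=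
          normalClosure_le_normal (Set.singleton_subset_iff.2 hxmem)
        haveI := hsup
        exact Group.isSolvable_of_isSolvable_injective (inclusion_injective hle)

end Cfsg.Agent.Lib.Helper58.Kazarin
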