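import Mathlib
import Cfsg.Prelude.Def_Blocks
import Cfsg.Agent.Lib.Helper77.BlockIdem
import Cfsg.Agent.Lib.Helper77.BPBasic
import Cfsg.Agent.Lib.Helper77.IdemTrace
import Cfsg.Agent.Lib.Helper16.Idem
import Cfsg.Agent.Lib.Helper16.ZR

/-!
# Coset decomposition of the complex group algebra relative to a normal subgroup

`iota N : ℂ[N] → ℂ[G]`, supports on cosets (`Supp N c x`), coset parts (`part N c x`),
the regular matrix representation `regMat`, and vanishing criteria for idempotents.
-/

namespace Cfsg.Agent.Lib.Helper58.CosetAlg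

open Cfsg Cfsg.Agent.Lib.Helper77.LocalRing Cfsg.Agent.Lib.Helper77.CentralChar
  Cfsg.Agent.Lib.Helper77.ClassSum Cfsg.Agent.Lib.Helper77.BlockIdem
  Cfsg.Agent.Lib.Helper77.BPBasic

universe u
variable {G : Type u} [Group G]

/-- The inclusion `ℂ[N] → ℂ[G]`. -/
noncomputable def iota (N : Subgroup G) : MonoidAlgebra ℂ N →ₐ[ℂ] MonoidAlgebra ℂ G :=
  MonoidAlgebra.mapDomainAlgHom ℂ ℂ N.subtype

theorem iota_single (N : Subgroup G) (n : N) (c : ℂ) :
    iota N (MonoidAlgebra.single n c) = MonoidAlgebra.single (n : G) c := by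
  unfold iota
  rw [MonoidAlgebra.mapDomainAlgHom_apply, MonoidAlgebra.mapDomain_single]
  rfl

theorem coeff_iota_coe (N : Subgroup G) (a : MonoidAlgebra ℂ N) (n : N) :
    (iota N a).coeff (n : G) = a.coeff n := by
  change (Finsupp.mapDomain N.subtype a.coeff) (N.subtype n) = a.coeff n
  exact Finsupp.mapDomain_apply N.subtype_injective _ _

theorem coeff_iota_of_not_mem (N : Subgroup G) (a : MonoidAlgebra ℂ N) (g : G) (hg : g ∉ N) :
    (iota N a).coeff g = 0 := by
  change (Finsupp.mapDomain N.subtype a.coeff) g = 0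
  apply Finsupp.mapDomain_of_notMem_range
  rintro ⟨n, rfl⟩
  exact hg n.2

theorem iota_injective (N : Subgroup G) : Function.Injective (iota N) := by
  intro a b h
  ext n
  rw [← coeff_iota_coe N a n, ← coeff_iota_coe N b n, h]

theorem pair_iota (N : Subgroup G) (ψ : G → ℂ) (a : MonoidAlgebra ℂ N) :
    pair ψ (iota N a) = pair (fun n : N => ψ n) a := by
  induction a using MonoidAlgebra.induction_on with
  | of n => rw [MonoidAlgebra.of_apply, iota_single, pair_single, pair_single]
  | add x y hx hy => rw [map_add, pair_add, pair_add, hx, hy]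
  | smul r x hx => rw [map_smul, pair_smul, pair_smul, hx]

theorem iota_mem_intSubring {M : Ideal AlgInt} (hMp : M.IsPrime) (N : Subgroup G)
    (a : MonoidAlgebra ℂ N) (ha : a ∈ intSubring M hMp) : iota N a ∈ intSubring M hMp := by
  intro g
  by_cases hg : g ∈ N
  · have h1 := coeff_iota_coe N a ⟨g, hg⟩
    rw [h1]
    exact ha _
  · rw [coeff_iota_of_not_mem N a g hg]
    exact memLocalRing_zero hMp

/-! ### Supports on cosets -/

section Coset

set_option linter.unusedSectionVars false

variable (N : Subgroup G) [N.Normal]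

/-- `x` is supported on the coset `c` of `N`. -/
def Supp (c : G ⧸ N) (x : MonoidAlgebra ℂ G) : Prop :=
  ∀ g : G, x.coeff g ≠ 0 → (QuotientGroup.mk g : G ⧸ N) = c

theorem supp_zero (c : G ⧸ N) : Supp N c 0 := by
  intro g hg
  exact absurd (by simp) hg

theorem supp_add {c : G ⧸ N} {x y : MonoidAlgebra ℂ G} (hx : Supp N c x) (hy : Supp N c y) :
    Supp N c (x + y) := by
  intro g hg
  by_cases h : x.coeff g = 0
  · apply hy g
    intro h'
    apply hg
    rw [MonoidAlgebra.coeff_add, Finsupp.add_apply, h, h', add_zero]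
  · exact hx g h

theorem supp_neg {c : G ⧸ N} {x : MonoidAlgebra ℂ G} (hx : Supp N c x) : Supp N c (-x) := by
  intro g hg
  apply hx g
  intro h
  apply hg
  rw [MonoidAlgebra.coeff_neg, Finsupp.neg_apply, h, neg_zero]

theorem supp_smul {c : G ⧸ N} (r : ℂ) {x : MonoidAlgebra ℂ G} (hx : Supp N c x) :
    Supp N c (r • x) := by
  intro g hg
  apply hx g
  intro h
  apply hg
  rw [MonoidAlgebra.coeff_smul, Finsupp.smul_apply, h, smul_zero]

theorem supp_sub {c : G ⧸ N} {x y : MonoidAlgebra ℂ G} (hx : Supp N c x) (hy : Supp N c y) :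
    Supp N c (x - y) := by
  rw [sub_eq_add_neg]
  exact supp_add N hx (supp_neg N hy)

theorem supp_iota (a : MonoidAlgebra ℂ N) : Supp N 1 (iota N a) := by
  intro g hg
  by_contra h
  apply hg
  apply coeff_iota_of_not_mem
  intro hgN
  exact h ((QuotientGroup.eq_one_iff g).mpr hgN)

theorem supp_one : Supp N 1 (1 : MonoidAlgebra ℂ G) := by
  have h := supp_iota N (1 : MonoidAlgebra ℂ N)
  rwa [map_one] at h

theorem supp_mul [Finite G] {c d : G ⧸ N} {x y : MonoidAlgebra ℂ G} (hx : Supp N c x)
    (hy : Supp N d y) : Supp N (c * d) (x * y) := by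
  cases nonempty_fintype G
  intro g hg
  rw [coeff_mul'] at hg
  obtain ⟨h, -, hh⟩ := Finset.exists_ne_zero_of_sum_ne_zero hg
  have h1 : x.coeff (g * h⁻¹) ≠ 0 := left_ne_zero_of_mul hh
  have h2 : y.coeff h ≠ 0 := right_ne_zero_of_mul hh
  have e1 := hx _ h1
  have e2 := hy _ h2
  rw [← e1, ← e2, ← QuotientGroup.mk_mul, inv_mul_cancel_right]

/-- An element supported on `N` comes from `ℂ[N]`. -/
theorem exists_iota_of_supp_one [Finite G] {x : MonoidAlgebra ℂ G} (hx : Supp N 1 x) :
    ∃ a : MonoidAlgebra ℂ N, iota N a = x ∧ ∀ n : N, a.coeff n = x.coeff (n : G) := by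
  have : Finite N := inferInstance
  refine ⟨ofFun (fun n : N => x.coeff (n : G)), ?_, fun n => by simp⟩
  ext g
  by_cases hg : g ∈ N
  · have h1 := coeff_iota_coe N (ofFun (fun n : N => x.coeff (n : G))) ⟨g, hg⟩
    rw [h1]
    simp
  · rw [coeff_iota_of_not_mem N _ g hg]
    by_contra h
    exact hg ((QuotientGroup.eq_one_iff g).mp (hx g (Ne.symm h)))

open Classical in
/-- The part of `x` supported on the coset `c`. -/
noncomputable def part [Finite G] (c : G ⧸ N) (x : MonoidAlgebra ℂ G) : MonoidAlgebra ℂ G :=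
  ofFun (fun g => if (QuotientGroup.mk g : G ⧸ N) = c then x.coeff g else 0)

open Classical in
theorem coeff_part [Finite G] (c : G ⧸ N) (x : MonoidAlgebra ℂ G) (g : G) :
    (part N c x).coeff g = if (QuotientGroup.mk g : G ⧸ N) = c then x.coeff g else 0 := rfl

theorem supp_part [Finite G] (c : G ⧸ N) (x : MonoidAlgebra ℂ G) : Supp N c (part N c x) := by
  classical
  intro g hg
  rw [coeff_part] at hg
  by_contra h
  rw [if_neg h] at hg
  exact hg rfl

theorem part_of_supp [Finite G] {c : G ⧸ N} {x : MonoidAlgebra ℂ G} (hx : Supp N c x) :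
    part N c x = x := by
  classical
  ext g
  rw [coeff_part]
  split_ifs with h
  · rfl
  · by_contra h'
    exact h (hx g (Ne.symm h'))

theorem part_mem_intSubring [Finite G] {M : Ideal AlgInt} (hMp : M.IsPrime) (c : G ⧸ N)
    {x : MonoidAlgebra ℂ G} (hx : x ∈ intSubring M hMp) : part N c x ∈ intSubring M hMp := by
  classical
  intro g
  rw [coeff_part]
  split_ifs
  · exact hx g
  · exact memLocalRing_zero hMp

theorem sum_part [Finite G] [Fintype (G ⧸ N)] (x : MonoidAlgebra ℂ G) :
    ∑ c : G ⧸ N, part N c x = x := by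
  classical
  ext g
  rw [MonoidAlgebra.coeff_sum, Finsupp.finsetSum_apply]
  simp only [coeff_part]
  rw [Finset.sum_ite_eq]
  simp

theorem part_mul_of_supp_one_left [Finite G] (c : G ⧸ N) {y : MonoidAlgebra ℂ G}
    (hy : Supp N 1 y) (x : MonoidAlgebra ℂ G) : part N c (y * x) = y * part N c x := by
  classical
  cases nonempty_fintype G
  ext g
  rw [coeff_part, coeff_mul', coeff_mul']
  have key : ∀ h : G, y.coeff (g * h⁻¹) ≠ 0 →
      (QuotientGroup.mk g : G ⧸ N) = QuotientGroup.mk h := by
    intro h hh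
    have e := hy _ hh
    rw [QuotientGroup.mk_mul, QuotientGroup.mk_inv, mul_inv_eq_one] at e
    exact e
  split_ifs with hg
  · apply Finset.sum_congr rfl
    intro h _
    rw [coeff_part]
    by_cases hh : y.coeff (g * h⁻¹) = 0
    · rw [hh, zero_mul, zero_mul]
    · rw [if_pos ((key h hh).symm.trans hg)]
  · symm
    apply Finset.sum_eq_zero
    intro h _
    rw [coeff_part]
    by_cases hh : y.coeff (g * h⁻¹) = 0
    · rw [hh, zero_mul]
    · rw [if_neg (fun e => hg ((key h hh).trans e)), mul_zero]

theorem part_mul_of_supp_one_right [Finite G] (c : G ⧸ N) {y : MonoidAlgebra ℂ G}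
    (hy : Supp N 1 y) (x : MonoidAlgebra ℂ G) : part N c (x * y) = part N c x * y := by
  classical
  cases nonempty_fintype G
  ext g
  rw [coeff_part, coeff_mul', coeff_mul']
  have key : ∀ h : G, y.coeff h ≠ 0 →
      (QuotientGroup.mk (g * h⁻¹) : G ⧸ N) = QuotientGroup.mk g := by
    intro h hh
    have e := hy _ hh
    rw [QuotientGroup.mk_mul, QuotientGroup.mk_inv, e, inv_one, mul_one]
  split_ifs with hg
  · apply Finset.sum_congr rfl
    intro h _
    rw [coeff_part]
    by_cases hh : y.coeff h = 0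
    · rw [hh, mul_zero, mul_zero]
    · rw [if_pos ((key h hh).trans hg)]
  · symm
    apply Finset.sum_eq_zero
    intro h _
    rw [coeff_part]
    by_cases hh : y.coeff h = 0
    · rw [hh, mul_zero]
    · rw [if_neg (fun e => hg ((key h hh).symm.trans e)), zero_mul]

/-- The coset parts of an element commuting with `ℂ[N]` commute with `ℂ[N]`. -/
theorem part_comm_iota [Finite G] (c : G ⧸ N) {f : MonoidAlgebra ℂ G}
    (hf : ∀ a : MonoidAlgebra ℂ N, iota N a * f = f * iota N a) (a : MonoidAlgebra ℂ N) :
    iota N a * part N c f = part N c f * iota N a := by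
  rw [← part_mul_of_supp_one_left N c (supp_iota N a), hf a,
    part_mul_of_supp_one_right N c (supp_iota N a)]

end Coset

/-! ### The regular matrix representation and idempotents -/

/-- The matrix of left multiplication by `y` in the basis of group elements. -/
noncomputable def regMat (y : MonoidAlgebra ℂ G) : Matrix G G ℂ :=
  fun g h => y.coeff (g * h⁻¹)

theorem regMat_mul [Fintype G] (x y : MonoidAlgebra ℂ G) :
    regMat (x * y) = regMat x * regMat y := by
  ext g h
  rw [Matrix.mul_apply]
  unfold regMat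
  rw [coeff_mul']
  apply Fintype.sum_equiv (Equiv.mulRight h)
  intro k
  show x.coeff (g * h⁻¹ * k⁻¹) * y.coeff k = x.coeff (g * (k * h)⁻¹) * y.coeff (k * h * h⁻¹)
  rw [mul_inv_rev, mul_inv_cancel_right, mul_assoc]

/-- An idempotent whose coefficient at the identity vanishes is zero. -/
theorem eq_zero_of_idem_of_coeff_one [Finite G] (y : MonoidAlgebra ℂ G) (hy : y * y = y)
    (h1 : y.coeff 1 = 0) : y = 0 := by
  classical
  cases nonempty_fintype G
  have hR : regMat y * regMat y = regMat y := by rw [← regMat_mul, hy]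
  have hdiag : ∀ g : G, regMat y g g = y.coeff 1 := fun g => by
    unfold regMat
    rw [mul_inv_cancel]
  have htr : (regMat y).trace = 0 := by
    simp only [Matrix.trace, Matrix.diag_apply, hdiag, h1, Finset.sum_const_zero]
  have hL : IsIdempotentElem (Matrix.toLin' (regMat y)) := by
    show Matrix.toLin' (regMat y) * Matrix.toLin' (regMat y) = _
    rw [Module.End.mul_eq_comp, ← Matrix.toLin'_mul, hR]
  have htr' : LinearMap.trace ℂ (G → ℂ) (Matrix.toLin' (regMat y)) = 0 := by
    rw [LinearMap.trace_eq_matrix_trace ℂ (Pi.basisFun ℂ G), LinearMap.toMatrix_eq_toMatrix',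
      LinearMap.toMatrix'_toLin', htr]
  have h0 := LinearMap.IsIdempotentElem.eq_zero_of_trace_eq_zero hL htr'
  have h2 : regMat y = 0 := by
    have := congrArg LinearMap.toMatrix' h0
    rwa [LinearMap.toMatrix'_toLin', map_zero] at this
  ext g
  have h3 := congrFun (congrFun h2 g) 1
  unfold regMat at h3
  simpa using h3

/-- An idempotent all of whose coefficients lie in the local ideal is zero. -/
theorem eq_zero_of_idem_of_memLocalIdeal [Finite G] {M : Ideal AlgInt} (hMp : M.IsPrime)
    (y : MonoidAlgebra ℂ G) (hy : y * y = y) (h : ∀ g, MemLocalIdeal M (y.coeff g)) : y = 0 := by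
  classical
  cases nonempty_fintype G
  have hR : regMat y * regMat y = regMat y := by rw [← regMat_mul, hy]
  have h1 := Cfsg.Agent.Lib.Helper77.IdemTrace.trace_eq_of_idem_congr hMp
    (0 : Matrix G G ℂ) (regMat y) (by simp) hR
    (fun i j => by simpa using memLocalRing_zero hMp)
    (fun i j => by simpa [regMat] using h (i * j⁻¹))
  apply eq_zero_of_idem_of_coeff_one y hy
  have hdiag : ∀ g : G, regMat y g g = y.coeff 1 := fun g => by
    unfold regMat
    rw [mul_inv_cancel]
  have h2 : (regMat y).trace = (Nat.card G : ℂ) * y.coeff 1 := by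
    simp only [Matrix.trace, Matrix.diag_apply, hdiag, Finset.sum_const, Finset.card_univ,
      nsmul_eq_mul, Nat.card_eq_fintype_card]
  rw [← h1, Matrix.trace_zero] at h2
  have hne : (Nat.card G : ℂ) ≠ 0 := Nat.cast_ne_zero.mpr Nat.card_pos.ne'
  exact (mul_eq_zero.mp h2.symm).resolve_left hne

/-- Left multiplication by an integral element preserves coefficients in the local ideal. -/
theorem coeff_mul_memLocalIdeal_left [Finite G] {M : Ideal AlgInt} (hMp : M.IsPrime)
    (a b : MonoidAlgebra ℂ G) (ha : ∀ g, MemLocalRing M (a.coeff g))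
    (hb : ∀ g, MemLocalIdeal M (b.coeff g)) (g : G) : MemLocalIdeal M ((a * b).coeff g) := by
  cases nonempty_fintype G
  rw [coeff_mul']
  apply memLocalIdeal_sum hMp
  intro x _
  exact memLocalIdeal_mul_left hMp (ha _) (hb x)

end Cfsg.Agent.Lib.Helper58.CosetAlg
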