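import Mathlib

/-!
# A pigeonhole lemma for group-graded products

`Wd H n` is the set of right-nested products of `n` elements of `⋃ c, H c`.  If `L c` are the
homogeneous pieces of a graded ring, `H c ⊆ L c` the pieces of a graded ideal, and `P` absorbs
`L c * H 1` and right multiplication by the `H c`, then every word of length `|Q|` lies in `P`.
-/

namespace Cfsg.Agent.Lib.Helper58.GradedNil

variable {R : Type*} [Ring R] {Q : Type*} [Group Q]

/-- Right-nested products of `n` homogeneous elements. -/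
def Wd (H : Q → Set R) : ℕ → Set R
  | 0 => {1}
  | (n + 1) => {w | ∃ w' ∈ Wd H n, ∃ c, ∃ a ∈ H c, w = w' * a}

theorem word_inv [DecidableEq Q] (H L : Q → Set R) (P : Set R)
    (hL1 : (1 : R) ∈ L 1)
    (hLL : ∀ c d u t, u ∈ L c → t ∈ L d → u * t ∈ L (c * d))
    (hLH : ∀ c d u a, u ∈ L c → a ∈ H d → u * a ∈ H (c * d))
    (hHL : ∀ c a, a ∈ H c → a ∈ L c)
    (hP1 : ∀ c u π, u ∈ L c → π ∈ H 1 → u * π ∈ P)
    (hP2 : ∀ w c a, w ∈ P → a ∈ H c → w * a ∈ P) :
    ∀ n, ∀ w ∈ Wd H n, w ∈ P ∨ ∃ (V : Finset Q) (d : Q), V.card = n + 1 ∧ w ∈ L d ∧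
      ∀ v ∈ V, ∃ u t, w = u * t ∧ u ∈ L v ∧ t ∈ L (v⁻¹ * d) := by
  intro n
  induction n with
  | zero =>
    intro w hw
    have hw1 : w = 1 := hw
    subst hw1
    right
    refine ⟨{1}, 1, by simp, hL1, ?_⟩
    intro v hv
    rw [Finset.mem_singleton] at hv
    subst hv
    refine ⟨1, 1, by simp, hL1, ?_⟩
    simpa using hL1
  | succ n ih =>
    intro w hw
    obtain ⟨w', hw', c, a, ha, rfl⟩ := hw
    rcases ih w' hw' with h | ⟨V, d, hcard, hwL, hV⟩
    · exact Or.inl (hP2 w' c a h ha)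
    · by_cases hdc : d * c ∈ V
      · left
        obtain ⟨u, t, rfl, hu, ht⟩ := hV (d * c) hdc
        have h1 : t * a ∈ H ((d * c)⁻¹ * d * c) := hLH _ _ t a ht ha
        have e : (d * c)⁻¹ * d * c = 1 := by group
        rw [e] at h1
        rw [mul_assoc]
        exact hP1 _ u (t * a) hu h1
      · right
        have hwa : w' * a ∈ L (d * c) := hLL d c w' a hwL (hHL c a ha)
        refine ⟨insert (d * c) V, d * c, ?_, hwa, ?_⟩
        · rw [Finset.card_insert_of_notMem hdc, hcard]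
        · intro v hv
          rcases Finset.mem_insert.mp hv with rfl | hv
          · refine ⟨w' * a, 1, by simp, hwa, ?_⟩
            simpa using hL1
          · obtain ⟨u, t, rfl, hu, ht⟩ := hV v hv
            refine ⟨u, t * a, by rw [mul_assoc], hu, ?_⟩
            have h1 := hLL _ _ t a ht (hHL c a ha)
            rwa [mul_assoc] at h1

theorem word_mem [Fintype Q] (H L : Q → Set R) (P : Set R)
    (hL1 : (1 : R) ∈ L 1)
    (hLL : ∀ c d u t, u ∈ L c → t ∈ L d → u * t ∈ L (c * d))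
    (hLH : ∀ c d u a, u ∈ L c → a ∈ H d → u * a ∈ H (c * d))
    (hHL : ∀ c a, a ∈ H c → a ∈ L c)
    (hP1 : ∀ c u π, u ∈ L c → π ∈ H 1 → u * π ∈ P)
    (hP2 : ∀ w c a, w ∈ P → a ∈ H c → w * a ∈ P) :
    ∀ w ∈ Wd H (Fintype.card Q), w ∈ P := by
  classical
  intro w hw
  rcases word_inv H L P hL1 hLL hLH hHL hP1 hP2 _ w hw with h | ⟨V, d, hcard, -, -⟩
  · exact h
  · have := Finset.card_le_univ V
    omega

theorem pow_mem_closure [Fintype Q] (H : Q → Set R) (x : Q → R) (hx : ∀ c, x c ∈ H c) (n : ℕ) :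
    (∑ c, x c) ^ n ∈ AddSubgroup.closure (Wd H n) := by
  induction n with
  | zero =>
    rw [pow_zero]
    exact AddSubgroup.subset_closure rfl
  | succ n ih =>
    rw [pow_succ]
    refine AddSubgroup.closure_induction
      (p := fun w _ => w * (∑ c, x c) ∈ AddSubgroup.closure (Wd H (n + 1))) ?_ ?_ ?_ ?_ ih
    · intro w hw
      rw [Finset.mul_sum]
      refine AddSubgroup.sum_mem _ fun c _ => ?_
      exact AddSubgroup.subset_closure ⟨w, hw, c, x c, hx c, rfl⟩
    · rw [zero_mul]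
      exact AddSubgroup.zero_mem _
    · intro a b _ _ ha hb
      rw [add_mul]
      exact AddSubgroup.add_mem _ ha hb
    · intro a _ ha
      rw [neg_mul]
      exact AddSubgroup.neg_mem _ ha

/-- Every `|Q|`-th power of a sum of homogeneous elements lies in the additive closure of `P`. -/
theorem pow_card_mem [Fintype Q] (H L : Q → Set R) (P : Set R)
    (hL1 : (1 : R) ∈ L 1)
    (hLL : ∀ c d u t, u ∈ L c → t ∈ L d → u * t ∈ L (c * d))
    (hLH : ∀ c d u a, u ∈ L c → a ∈ H d → u * a ∈ H (c * d))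
    (hHL : ∀ c a, a ∈ H c → a ∈ L c)
    (hP1 : ∀ c u π, u ∈ L c → π ∈ H 1 → u * π ∈ P)
    (hP2 : ∀ w c a, w ∈ P → a ∈ H c → w * a ∈ P)
    (x : Q → R) (hx : ∀ c, x c ∈ H c) :
    (∑ c, x c) ^ (Fintype.card Q) ∈ AddSubgroup.closure P :=
  AddSubgroup.closure_mono (word_mem H L P hL1 hLL hLH hHL hP1 hP2)
    (pow_mem_closure H x hx _)

end Cfsg.Agent.Lib.Helper58.GradedNil
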