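import Mathlib
import Cfsg.Prelude.Def_Blocks
import Cfsg.Agent.Lib.Helper58.CosetAlg
import Cfsg.Agent.Lib.Helper58.GradedNil
import Cfsg.Agent.Lib.Helper16.FR1
import Cfsg.Agent.Lib.Helper16.Normal

/-!
# Characters of a covered block lie under the covering block

If the block `B` of `G` covers the block `b` of the normal subgroup `N`, then every `θ ∈ b` is a
constituent of the restriction of some `χ ∈ B` (`cover_under`).

Proof: let `f = e_B`, `e = e_b`.  The coset parts of `f` commute with `ℂ[N]`; if `e_θ f = 0`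
for some `θ ∈ b`, the parts supported on `N` of products of coset parts lie in the radical of
`Z(ℂ[N]) e`, and a pigeonhole argument on words shows that the idempotent `e f` has all
coefficients in the local ideal, hence vanishes.
-/

namespace Cfsg.Agent.Lib.Helper58.CoverUnder

open Cfsg Cfsg.Agent.Lib.Helper77.LocalRing Cfsg.Agent.Lib.Helper77.CentralChar
  Cfsg.Agent.Lib.Helper77.ClassSum Cfsg.Agent.Lib.Helper77.BlockIdem
  Cfsg.Agent.Lib.Helper77.BPBasic Cfsg.Agent.Lib.Helper16.ZR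
  Cfsg.Agent.Lib.Helper16.FR1 Cfsg.Agent.Lib.Helper58.CosetAlg Cfsg.Agent.Lib.CT.Wedderburn
  Cfsg.Agent.Lib.Helper58

open Cfsg.Agent.Lib.Helper16.Normal (blockIdem_mul_self)

universe u

/-! ### Idempotents of single characters -/

section Single

set_option linter.unusedSectionVars false

variable {A : Type u} [Group A] [Finite A]

theorem single_mul (θ : IrrCharacter A) (z : MonoidAlgebra ℂ A) (hz : z ∈ Zc A) :
    blockIdem ({θ} : Set (IrrCharacter A)) * z
      = omega (θ : A → ℂ) z • blockIdem ({θ} : Set (IrrCharacter A)) := by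
  classical
  apply eq_of_omega_eq _ _ (Subalgebra.mul_mem _ (blockIdem_mem_center _) hz)
    (Subalgebra.smul_mem _ (blockIdem_mem_center _) _)
  intro ψ
  rw [omega_mul ψ.2 _ _ (blockIdem_mem_center _), omega_smul, omega_blockIdem]
  by_cases h : ψ ∈ ({θ} : Set (IrrCharacter A))
  · rw [if_pos h]
    have h' : ψ = θ := h
    subst h'
    ring
  · rw [if_neg h]
    ring

theorem single_ne_zero (θ : IrrCharacter A) : blockIdem ({θ} : Set (IrrCharacter A)) ≠ 0 := by
  classical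
  intro h
  have h1 := omega_blockIdem ({θ} : Set (IrrCharacter A)) θ
  rw [h, omega_zero, if_pos (Set.mem_singleton θ)] at h1
  exact zero_ne_one h1

theorem single_mul_block (b : Set (IrrCharacter A)) (θ : IrrCharacter A) (hθ : θ ∈ b) :
    blockIdem ({θ} : Set (IrrCharacter A)) * blockIdem b
      = blockIdem ({θ} : Set (IrrCharacter A)) := by
  classical
  rw [single_mul θ _ (blockIdem_mem_center b), omega_blockIdem, if_pos hθ, one_smul]

theorem blockIdem_eq_sum (s : Finset (IrrCharacter A)) :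
    blockIdem (↑s : Set (IrrCharacter A)) = ∑ θ ∈ s, blockIdem ({θ} : Set (IrrCharacter A)) := by
  classical
  apply eq_of_omega_eq _ _ (blockIdem_mem_center _)
    (Subalgebra.sum_mem _ fun θ _ => blockIdem_mem_center _)
  intro ψ
  rw [omega_sum, omega_blockIdem]
  have h1 : ∀ θ ∈ s, omega (ψ : A → ℂ) (blockIdem ({θ} : Set (IrrCharacter A)))
      = if ψ = θ then 1 else 0 := by
    intro θ _
    rw [omega_blockIdem]
    by_cases h : ψ = θ
    · rw [if_pos h, if_pos (show ψ ∈ ({θ} : Set (IrrCharacter A)) from h)]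
    · rw [if_neg h, if_neg (show ψ ∉ ({θ} : Set (IrrCharacter A)) from h)]
  rw [Finset.sum_congr rfl h1, Finset.sum_ite_eq]
  by_cases h : ψ ∈ s
  · rw [if_pos h, if_pos (Finset.mem_coe.mpr h)]
  · rw [if_neg h, if_neg (fun h' => h (Finset.mem_coe.mp h'))]

theorem pair_single_idem [Fintype A] (θ : IrrCharacter A) (φ : A → ℂ) :
    pair φ (blockIdem ({θ} : Set (IrrCharacter A)))
      = (θ : A → ℂ) 1 * classInner φ (θ : A → ℂ) := by
  classical
  have := finite_irrCharacter A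
  have := Fintype.ofFinite (IrrCharacter A)
  rw [pair_blockIdem, Finset.sum_eq_single θ]
  · rw [Set.indicator_of_mem (Set.mem_singleton θ)]
  · intro ψ _ hψ
    rw [Set.indicator_of_notMem]
    exact hψ
  · intro h
    exact absurd (Finset.mem_univ θ) h

/-- The coefficient at the identity through the regular character. -/
theorem coeff_one_eq_sum_pair [Fintype A] [Fintype (IrrCharacter A)] (y : MonoidAlgebra ℂ A) :
    y.coeff 1 = (Nat.card A : ℂ)⁻¹ *
      ∑ χ : IrrCharacter A, (χ : A → ℂ) 1 * pair (χ : A → ℂ) y := by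
  classical
  have key : ∀ g : A, (1 : MonoidAlgebra ℂ A).coeff g⁻¹ = (Nat.card A : ℂ)⁻¹ *
      ∑ χ : IrrCharacter A, (χ : A → ℂ) 1 * (χ : A → ℂ) g := by
    intro g
    rw [coeff_eq_sum_omega 1 (Subalgebra.one_mem _) g⁻¹]
    congr 1
    apply Finset.sum_congr rfl
    intro χ _
    rw [omega_one_irr χ.2, mul_one, inv_inv]
  have h1 : y.coeff 1 = ∑ g : A, y.coeff g * (1 : MonoidAlgebra ℂ A).coeff g⁻¹ := by
    rw [Finset.sum_eq_single 1]
    · simp [MonoidAlgebra.one_def]
    · intro g _ hg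
      have : (1 : MonoidAlgebra ℂ A).coeff g⁻¹ = 0 := by
        rw [MonoidAlgebra.one_def, MonoidAlgebra.coeff_single, Finsupp.single_apply, if_neg]
        intro h
        exact hg (inv_eq_one.mp h.symm)
      rw [this, mul_zero]
    · intro h
      exact absurd (Finset.mem_univ _) h
  rw [h1]
  simp only [key, pair_eq_sum, Finset.mul_sum]
  rw [Finset.sum_comm]
  apply Finset.sum_congr rfl
  intro χ _
  apply Finset.sum_congr rfl
  intro g _
  ring

end Single

/-! ### The graded pieces -/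

section Main

set_option linter.unusedSectionVars false

variable {G : Type u} [Group G] [Finite G] (N : Subgroup G) [N.Normal] {M : Ideal AlgInt}
  (hMp : M.IsPrime)

/-- Integral elements of `ℂ[G]` commuting with `ℂ[N]`. -/
def Lam : Set (MonoidAlgebra ℂ G) :=
  {a | a ∈ intSubring M hMp ∧ ∀ z : MonoidAlgebra ℂ N, iota N z * a = a * iota N z}

/-- Homogeneous elements of `Lam`. -/
def LamH (c : G ⧸ N) : Set (MonoidAlgebra ℂ G) := {a | a ∈ Lam N hMp ∧ Supp N c a}

/-- Homogeneous elements of `Lam` killed by the idempotent of `θ₁`. -/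
def GamH (θ₁ : IrrCharacter N) (c : G ⧸ N) : Set (MonoidAlgebra ℂ G) :=
  {a | a ∈ LamH N hMp c ∧ iota N (blockIdem ({θ₁} : Set (IrrCharacter N))) * a = 0}

/-- Products of a degree-one element of `GamH` and an element of `Lam`. -/
def PP (θ₁ : IrrCharacter N) : Set (MonoidAlgebra ℂ G) :=
  {w | ∃ π u, w = π * u ∧ π ∈ GamH N hMp θ₁ 1 ∧ u ∈ Lam N hMp}

theorem lam_mul {a a' : MonoidAlgebra ℂ G} (ha : a ∈ Lam N hMp) (ha' : a' ∈ Lam N hMp) :
    a * a' ∈ Lam N hMp := by
  refine ⟨Subring.mul_mem _ ha.1 ha'.1, fun z => ?_⟩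
  rw [← mul_assoc, ha.2, mul_assoc, ha'.2, mul_assoc]

theorem gam_one_spec (θ₁ : IrrCharacter N) {π : MonoidAlgebra ℂ G}
    (hπ : π ∈ GamH N hMp θ₁ 1) :
    ∃ z : MonoidAlgebra ℂ N, iota N z = π ∧ z ∈ Zc N ∧ z ∈ intSubring M hMp ∧
      omega (θ₁ : N → ℂ) z = 0 := by
  obtain ⟨⟨⟨hint, hcomm⟩, hsupp⟩, hkil⟩ := hπ
  obtain ⟨z, hz, hzc⟩ := exists_iota_of_supp_one N hsupp
  have hcen : z ∈ Zc N := by
    rw [Subalgebra.mem_center_iff]
    intro a
    apply iota_injective N
    rw [map_mul, map_mul, hz]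
    exact hcomm a
  refine ⟨z, hz, hcen, ?_, ?_⟩
  · intro n
    rw [hzc n]
    exact hint _
  · have h1 : iota N (blockIdem ({θ₁} : Set (IrrCharacter N)) * z) = iota N 0 := by
      rw [map_mul, hz, map_zero]
      exact hkil
    have h2 := iota_injective N h1
    rw [single_mul θ₁ z hcen] at h2
    exact (smul_eq_zero.mp h2).resolve_right (single_ne_zero θ₁)

theorem pow_card_mem_closure [Fintype (G ⧸ N)] (θ₁ : IrrCharacter N) (x : MonoidAlgebra ℂ G)
    (hx : ∀ c, part N c x ∈ GamH N hMp θ₁ c) :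
    x ^ Fintype.card (G ⧸ N) ∈ AddSubgroup.closure (PP N hMp θ₁) := by
  have hL1 : (1 : MonoidAlgebra ℂ G) ∈ LamH N hMp 1 :=
    ⟨⟨Subring.one_mem _, fun z => by rw [mul_one, one_mul]⟩, supp_one N⟩
  have hLL : ∀ c d u t, u ∈ LamH N hMp c → t ∈ LamH N hMp d → u * t ∈ LamH N hMp (c * d) := by
    rintro c d u t ⟨hu, hsu⟩ ⟨ht, hst⟩
    exact ⟨lam_mul N hMp hu ht, supp_mul N hsu hst⟩
  have hLH : ∀ c d u a, u ∈ LamH N hMp c → a ∈ GamH N hMp θ₁ d →
      u * a ∈ GamH N hMp θ₁ (c * d) := by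
    rintro c d u a ⟨hu, hsu⟩ ⟨⟨ha, hsa⟩, hk⟩
    refine ⟨⟨lam_mul N hMp hu ha, supp_mul N hsu hsa⟩, ?_⟩
    rw [← mul_assoc, hu.2, mul_assoc, hk, mul_zero]
  have hHL : ∀ c a, a ∈ GamH N hMp θ₁ c → a ∈ LamH N hMp c := fun c a ha => ha.1
  have hP1 : ∀ c u π, u ∈ LamH N hMp c → π ∈ GamH N hMp θ₁ 1 → u * π ∈ PP N hMp θ₁ := by
    rintro c u π ⟨hu, -⟩ hπ
    obtain ⟨z, hz, -⟩ := exists_iota_of_supp_one N hπ.1.2
    refine ⟨π, u, ?_, hπ, hu⟩
    rw [← hz, hu.2]
  have hP2 : ∀ w c a, w ∈ PP N hMp θ₁ → a ∈ GamH N hMp θ₁ c → w * a ∈ PP N hMp θ₁ := by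
    rintro w c a ⟨π, u, rfl, hπ, hu⟩ ha
    exact ⟨π, u * a, mul_assoc _ _ _, hπ, lam_mul N hMp hu ha.1.1⟩
  have h := GradedNil.pow_card_mem (GamH N hMp θ₁) (LamH N hMp) (PP N hMp θ₁) hL1 hLL hLH hHL
    hP1 hP2 (fun c => part N c x) hx
  rwa [sum_part] at h

/-! ### The filtration -/

/-- Elements which, modulo the local ideal, are integral and killed by the idempotents of the
characters in `s`. -/
def Vf (s : Finset (IrrCharacter N)) : Set (MonoidAlgebra ℂ G) :=
  {w | ∃ y v, w = y + v ∧ y ∈ intSubring M hMp ∧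
    (∀ θ ∈ s, iota N (blockIdem ({θ} : Set (IrrCharacter N))) * y = 0) ∧
    ∀ g, MemLocalIdeal M (v.coeff g)}

theorem vf_zero (s : Finset (IrrCharacter N)) : (0 : MonoidAlgebra ℂ G) ∈ Vf N hMp s :=
  ⟨0, 0, by simp, Subring.zero_mem _, fun θ _ => mul_zero _,
    fun g => by simpa using memLocalIdeal_zero hMp⟩

theorem vf_add {s : Finset (IrrCharacter N)} {w w' : MonoidAlgebra ℂ G} (h : w ∈ Vf N hMp s)
    (h' : w' ∈ Vf N hMp s) : w + w' ∈ Vf N hMp s := by
  obtain ⟨y, v, rfl, hy, hk, hv⟩ := h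
  obtain ⟨y', v', rfl, hy', hk', hv'⟩ := h'
  refine ⟨y + y', v + v', by abel, Subring.add_mem _ hy hy',
    fun θ hθ => by rw [mul_add, hk θ hθ, hk' θ hθ, add_zero], fun g => ?_⟩
  rw [MonoidAlgebra.coeff_add, Finsupp.add_apply]
  exact memLocalIdeal_add hMp (hv g) (hv' g)

theorem vf_neg {s : Finset (IrrCharacter N)} {w : MonoidAlgebra ℂ G} (h : w ∈ Vf N hMp s) :
    -w ∈ Vf N hMp s := by
  obtain ⟨y, v, rfl, hy, hk, hv⟩ := h
  refine ⟨-y, -v, by abel, Subring.neg_mem _ hy,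
    fun θ hθ => by rw [mul_neg, hk θ hθ, neg_zero], fun g => ?_⟩
  rw [MonoidAlgebra.coeff_neg, Finsupp.neg_apply]
  exact memLocalIdeal_neg (hv g)

theorem vf_lam_mul {s : Finset (IrrCharacter N)} {u w : MonoidAlgebra ℂ G}
    (hu : u ∈ Lam N hMp) (h : w ∈ Vf N hMp s) : u * w ∈ Vf N hMp s := by
  obtain ⟨y, v, rfl, hy, hk, hv⟩ := h
  refine ⟨u * y, u * v, mul_add _ _ _, Subring.mul_mem _ hu.1 hy, fun θ hθ => ?_,
    fun g => coeff_mul_memLocalIdeal_left hMp u v ((mem_intSubring M hMp).mp hu.1) hv g⟩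
  rw [← mul_assoc, hu.2, mul_assoc, hk θ hθ, mul_zero]

theorem vf_step [DecidableEq (IrrCharacter N)] (b : Set (IrrCharacter N)) (hb : IsPBlock M b)
    (θ₁ θ' : IrrCharacter N)
    (h1 : θ₁ ∈ b) (h' : θ' ∈ b) {s : Finset (IrrCharacter N)} {π w : MonoidAlgebra ℂ G}
    (hπ : π ∈ GamH N hMp θ₁ 1) (h : w ∈ Vf N hMp s) : π * w ∈ Vf N hMp (insert θ' s) := by
  obtain ⟨z, rfl, hzc, hzi, hz0⟩ := gam_one_spec N hMp θ₁ hπ
  obtain ⟨y, v, rfl, hy, hk, hv⟩ := h
  obtain ⟨r, hr⟩ : ∃ r : ℂ, r = omega (θ' : N → ℂ) z := ⟨_, rfl⟩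
  have hrR : MemLocalRing M r := by
    rw [hr]
    exact omega_memLocalRing hMp θ'.2 z hzc ((mem_intSubring M hMp).mp hzi)
  have hrI : MemLocalIdeal M r := by
    have := omega_sub_mem_of_sameBlock hMp θ'.2 θ₁.2 (sameBlock_of_mem hMp hb h' h1) z hzc
      ((mem_intSubring M hMp).mp hzi)
    rwa [hz0, sub_zero, ← hr] at this
  have hz'c : z - r • 1 ∈ Zc N :=
    Subalgebra.sub_mem _ hzc (Subalgebra.smul_mem _ (Subalgebra.one_mem _) _)
  have hiz' : iota N (z - r • 1) = iota N z - r • 1 := by rw [map_sub, map_smul, map_one]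
  refine ⟨iota N (z - r • 1) * y, r • y + iota N z * v, ?_, ?_, ?_, ?_⟩
  · rw [hiz', sub_mul, smul_mul_assoc, one_mul, mul_add]
    abel
  · refine Subring.mul_mem _ ?_ hy
    apply iota_mem_intSubring hMp
    exact Subring.sub_mem _ hzi (smul_mem_intSubring M hMp hrR (Subring.one_mem _))
  · intro θ hθ
    rw [← mul_assoc, ← map_mul]
    rcases Finset.mem_insert.mp hθ with rfl | hθ
    · rw [single_mul θ _ hz'c, omega_sub, omega_smul, omega_one_irr θ.2, mul_one, ← hr, sub_self,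
        zero_smul, map_zero, zero_mul]
    · rw [Subalgebra.mem_center_iff.mp hz'c (blockIdem _), map_mul, mul_assoc, hk θ hθ, mul_zero]
  · intro g
    rw [MonoidAlgebra.coeff_add, Finsupp.add_apply, MonoidAlgebra.coeff_smul, Finsupp.smul_apply,
      smul_eq_mul]
    exact memLocalIdeal_add hMp (memLocalIdeal_mul_right hMp hrI (hy g))
      (coeff_mul_memLocalIdeal_left hMp _ v
        ((mem_intSubring M hMp).mp (iota_mem_intSubring hMp N z hzi)) hv g)

theorem vf_closure [DecidableEq (IrrCharacter N)] (b : Set (IrrCharacter N))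
    (hb : IsPBlock M b) (θ₁ θ' : IrrCharacter N)
    (h1 : θ₁ ∈ b) (h' : θ' ∈ b) {s : Finset (IrrCharacter N)} {w₀ w : MonoidAlgebra ℂ G}
    (h0 : w₀ ∈ AddSubgroup.closure (PP N hMp θ₁)) (h : w ∈ Vf N hMp s) :
    w₀ * w ∈ Vf N hMp (insert θ' s) := by
  refine AddSubgroup.closure_induction
    (p := fun w₀ _ => w₀ * w ∈ Vf N hMp (insert θ' s)) ?_ ?_ ?_ ?_ h0
  · rintro _ ⟨π, u, rfl, hπ, hu⟩
    rw [mul_assoc]
    exact vf_step N hMp b hb θ₁ θ' h1 h' hπ (vf_lam_mul N hMp hu h)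
  · rw [zero_mul]
    exact vf_zero N hMp _
  · intro a b' _ _ ha hb'
    rw [add_mul]
    exact vf_add N hMp ha hb'
  · intro a _ ha
    rw [neg_mul]
    exact vf_neg N hMp ha

end Main

/-! ### The theorem -/

theorem cover_under {G : Type u} [Group G] [Fintype G] (p : ℕ) [Fact p.Prime]
    (M : Ideal AlgInt) (hM : IsPModular p M) (N : Subgroup G) [hN : N.Normal] [Fintype N]
    (B : Set (IrrCharacter G)) (hB : IsPBlock M B) (b : Set (IrrCharacter N))
    (hb : IsPBlock M b)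
    (hcov : ∃ χ ∈ B, ∃ θ ∈ b, classInner (fun n : N => (χ : G → ℂ) n) (θ : N → ℂ) ≠ 0)
    (θ : IrrCharacter N) (hθ : θ ∈ b) :
    ∃ χ ∈ B, classInner (fun n : N => (χ : G → ℂ) n) (θ : N → ℂ) ≠ 0 := by
  classical
  by_contra hcon
  push Not at hcon
  have hMp := isPrime_of_isPModular hM
  have : Fintype (G ⧸ N) := Fintype.ofFinite _
  have := finite_irrCharacter G
  have := Fintype.ofFinite (IrrCharacter G)
  obtain ⟨χ₀, hχ₀, θ₀, hθ₀, hne⟩ := hcov
  obtain ⟨f, hf⟩ : ∃ f : MonoidAlgebra ℂ G, f = blockIdem B := ⟨_, rfl⟩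
  have hfc : f ∈ Zc G := hf ▸ blockIdem_mem_center B
  have hfi : f ∈ intSubring M hMp := hf ▸ blockIdem_mem_intSubring hMp B hB
  have hff : f * f = f := by rw [hf]; exact blockIdem_mul_self B
  obtain ⟨eb, heb⟩ : ∃ eb : MonoidAlgebra ℂ N, eb = blockIdem b := ⟨_, rfl⟩
  have hebc : eb ∈ Zc N := heb ▸ blockIdem_mem_center b
  have hebi : eb ∈ intSubring M hMp := heb ▸ blockIdem_mem_intSubring hMp b hb
  have hebb : eb * eb = eb := by rw [heb]; exact blockIdem_mul_self b
  have hfcomm : ∀ a : MonoidAlgebra ℂ G, a * f = f * a := Subalgebra.mem_center_iff.mp hfc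
  -- the idempotent of `θ` kills `f`
  have hkill : iota N (blockIdem ({θ} : Set (IrrCharacter N))) * f = 0 := by
    apply eq_zero_of_idem_of_coeff_one
    · rw [mul_assoc, ← mul_assoc f, ← hfcomm, mul_assoc, hff, ← mul_assoc, ← map_mul,
        blockIdem_mul_self]
    · rw [coeff_one_eq_sum_pair]
      have h0 : ∀ χ : IrrCharacter G, (χ : G → ℂ) 1 *
          pair (χ : G → ℂ) (iota N (blockIdem ({θ} : Set (IrrCharacter N))) * f) = 0 := by
        intro χ
        rw [hfcomm, pair_mul_center χ.2 f _ hfc, hf, omega_blockIdem, pair_iota,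
          pair_single_idem]
        by_cases hχ : χ ∈ B
        · rw [hcon χ hχ]
          ring
        · rw [if_neg hχ]
          ring
      rw [Finset.sum_eq_zero fun χ _ => h0 χ, mul_zero]
  obtain ⟨x, hx⟩ : ∃ x : MonoidAlgebra ℂ G, x = iota N eb * f := ⟨_, rfl⟩
  have hxx : x * x = x := by
    rw [hx, mul_assoc, ← mul_assoc f, ← hfcomm, mul_assoc, hff, ← mul_assoc, ← map_mul, hebb]
  have hxi : x ∈ intSubring M hMp := by
    rw [hx]
    exact Subring.mul_mem _ (iota_mem_intSubring hMp N eb hebi) hfi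
  have hxcomm : ∀ z : MonoidAlgebra ℂ N, iota N z * x = x * iota N z := by
    intro z
    rw [hx, ← mul_assoc, ← map_mul, Subalgebra.mem_center_iff.mp hebc z, map_mul, mul_assoc,
      mul_assoc, hfcomm]
  have hxk : iota N (blockIdem ({θ} : Set (IrrCharacter N))) * x = 0 := by
    rw [hx, ← mul_assoc, ← map_mul, heb, single_mul_block b θ hθ, hkill]
  have hparts : ∀ c, part N c x ∈ GamH N hMp θ c := by
    intro c
    refine ⟨⟨⟨part_mem_intSubring N hMp c hxi, part_comm_iota N c hxcomm⟩, supp_part N c x⟩, ?_⟩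
    rw [← part_mul_of_supp_one_left N c (supp_iota N _), hxk]
    exact part_of_supp N (supp_zero N c)
  have hpow := pow_card_mem_closure N hMp θ x hparts
  have hind : ∀ s : Finset (IrrCharacter N), (∀ θ' ∈ s, θ' ∈ b) →
      x ∈ Vf N hMp (insert θ s) := by
    intro s
    induction s using Finset.induction_on with
    | empty =>
      intro _
      refine ⟨x, 0, by simp, hxi, ?_, fun g => by simpa using memLocalIdeal_zero hMp⟩
      intro θ' hθ'
      have h1 : θ' = θ := by simpa using hθ'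
      rw [h1]
      exact hxk
    | insert θ' s hθ's ih =>
      intro hs
      have h1 := ih (fun t ht => hs t (Finset.mem_insert_of_mem ht))
      have h2 := vf_closure N hMp b hb θ θ' hθ (hs θ' (Finset.mem_insert_self _ _)) hpow h1
      have h3 : x ^ Fintype.card (G ⧸ N) * x = x := by
        rw [← pow_succ]
        exact IsIdempotentElem.pow_succ_eq _ hxx
      rw [h3, Finset.insert_comm] at h2
      exact h2
  have := finite_irrCharacter N
  have hfin : b.Finite := Set.toFinite b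
  obtain ⟨y, v, hxyv, hy, hk, hv⟩ := hind hfin.toFinset (fun θ' h => hfin.mem_toFinset.mp h)
  have hby : iota N eb * y = 0 := by
    have h1 : eb = ∑ θ' ∈ hfin.toFinset, blockIdem ({θ'} : Set (IrrCharacter N)) := by
      rw [← blockIdem_eq_sum, heb, hfin.coe_toFinset]
    rw [h1, map_sum, Finset.sum_mul]
    exact Finset.sum_eq_zero fun θ' hθ' => hk θ' (Finset.mem_insert_of_mem hθ')
  have hxI : ∀ g, MemLocalIdeal M (x.coeff g) := by
    have e : x = iota N eb * v := by
      have e1 : x = iota N eb * x := by rw [hx, ← mul_assoc, ← map_mul, hebb]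
      rw [e1, hxyv, mul_add, hby, zero_add]
    intro g
    rw [e]
    exact coeff_mul_memLocalIdeal_left hMp _ v
      ((mem_intSubring M hMp).mp (iota_mem_intSubring hMp N eb hebi)) hv g
  have hx0 : x = 0 := eq_zero_of_idem_of_memLocalIdeal hMp x hxx hxI
  have h4 : pair (χ₀ : G → ℂ) (f * iota N (blockIdem ({θ₀} : Set (IrrCharacter N))))
      = (θ₀ : N → ℂ) 1 * classInner (fun n : N => (χ₀ : G → ℂ) n) (θ₀ : N → ℂ) := by
    rw [pair_mul_center χ₀.2 f _ hfc, hf, omega_blockIdem, if_pos hχ₀, one_mul, pair_iota,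
      pair_single_idem]
  have h5 : f * iota N (blockIdem ({θ₀} : Set (IrrCharacter N))) = 0 := by
    rw [← hfcomm, ← single_mul_block b θ₀ hθ₀, map_mul, mul_assoc, ← heb, ← hx, hx0, mul_zero]
  rw [h5, pair_zero] at h4
  exact hne ((mul_eq_zero.mp h4.symm).resolve_left (irr_apply_one_ne_zero θ₀.2))

end Cfsg.Agent.Lib.Helper58.CoverUnder
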