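import Mathlib
import Cfsg.Prelude.Def_Blocks
import Cfsg.Agent.Lib.Helper58.CoverUnder

/-!
# The idempotent matrix attached to a central idempotent and a normal subgroup

For a central integral idempotent `f` of `ℂ[G]` and `N ⊴ G`, the coset parts `F c` of `f`
commute with `ℂ[N]`.  If all `F c * F c⁻¹` act as units at `θ ∈ Irr(N)`, the matrix
`Emat N f θ` over `G ⧸ N` is idempotent with trace `|G:N| · Φ_θ(F 1)`.  Characters in the same
block give congruent matrices, hence the same trace (`Phi_part_one_eq`).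
-/

namespace Cfsg.Agent.Lib.Helper58.IdemMat

open Cfsg Cfsg.Agent.Lib.Helper77.LocalRing Cfsg.Agent.Lib.Helper77.CentralChar
  Cfsg.Agent.Lib.Helper77.ClassSum Cfsg.Agent.Lib.Helper77.BlockIdem
  Cfsg.Agent.Lib.Helper77.BPBasic Cfsg.Agent.Lib.Helper16.ZR
  Cfsg.Agent.Lib.Helper58.CosetAlg Cfsg.Agent.Lib.CT.Wedderburn
  Cfsg.Agent.Lib.Helper58.CoverUnder

universe u

set_option linter.unusedSectionVars false

section Local

variable {M : Ideal AlgInt}

theorem memLocalIdeal_div_sub_div (hMp : M.IsPrime) {n n' d d' : ℂ} (hn' : MemLocalRing M n')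
    (hd : MemLocalRing M d) (hd' : MemLocalRing M d') (hnn : MemLocalIdeal M (n - n'))
    (hdd : MemLocalIdeal M (d - d')) (hdu : ¬ MemLocalIdeal M d) (hdu' : ¬ MemLocalIdeal M d') :
    MemLocalIdeal M (n / d - n' / d') := by
  have hd0 : d ≠ 0 := by
    rintro rfl
    exact hdu (memLocalIdeal_zero hMp)
  have hd0' : d' ≠ 0 := by
    rintro rfl
    exact hdu' (memLocalIdeal_zero hMp)
  have e : n / d - n' / d' = ((n - n') * d' - n' * (d - d')) * d⁻¹ * d'⁻¹ := by
    field_simp
    ring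
  rw [e]
  exact memLocalIdeal_mul_right hMp (memLocalIdeal_mul_right hMp
    (memLocalIdeal_sub hMp (memLocalIdeal_mul_right hMp hnn hd')
      (memLocalIdeal_mul_left hMp hn' hdd)) (memLocalRing_inv hd hdu)) (memLocalRing_inv hd' hdu')

end Local

section Grade

variable {G : Type u} [Group G] [Finite G] (N : Subgroup G) [N.Normal]

theorem part_add (c : G ⧸ N) (x y : MonoidAlgebra ℂ G) :
    part N c (x + y) = part N c x + part N c y := by
  classical
  ext g
  rw [MonoidAlgebra.coeff_add, Finsupp.add_apply, coeff_part, coeff_part, coeff_part,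
    MonoidAlgebra.coeff_add, Finsupp.add_apply]
  split_ifs <;> simp

theorem part_zero (c : G ⧸ N) : part N c (0 : MonoidAlgebra ℂ G) = 0 :=
  part_of_supp N (supp_zero N c)

/-- `part N c` as an additive homomorphism. -/
noncomputable def partHom (c : G ⧸ N) : MonoidAlgebra ℂ G →+ MonoidAlgebra ℂ G where
  toFun := part N c
  map_zero' := part_zero N c
  map_add' := part_add N c

theorem part_sum {ι : Type*} (s : Finset ι) (z : ι → MonoidAlgebra ℂ G) (c : G ⧸ N) :
    part N c (∑ i ∈ s, z i) = ∑ i ∈ s, part N c (z i) :=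
  map_sum (partHom N c) z s

theorem part_mul_of_supp_right (e d : G ⧸ N) {y : MonoidAlgebra ℂ G} (hy : Supp N d y)
    (x : MonoidAlgebra ℂ G) : part N e (x * y) = part N (e * d⁻¹) x * y := by
  classical
  cases nonempty_fintype G
  ext g
  rw [coeff_part, coeff_mul', coeff_mul']
  have key : ∀ h : G, y.coeff h ≠ 0 →
      (QuotientGroup.mk (g * h⁻¹) : G ⧸ N) = QuotientGroup.mk g * d⁻¹ := by
    intro h hh
    have e1 := hy _ hh
    rw [QuotientGroup.mk_mul, QuotientGroup.mk_inv, e1]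
  split_ifs with hg
  · apply Finset.sum_congr rfl
    intro h _
    rw [coeff_part]
    by_cases hh : y.coeff h = 0
    · rw [hh, mul_zero, mul_zero]
    · rw [if_pos (by rw [key h hh, hg])]
  · symm
    apply Finset.sum_eq_zero
    intro h _
    rw [coeff_part]
    by_cases hh : y.coeff h = 0
    · rw [hh, mul_zero]
    · rw [if_neg, zero_mul]
      intro e1
      rw [key h hh] at e1
      exact hg (mul_right_cancel e1)

theorem part_mul [Fintype (G ⧸ N)] (e : G ⧸ N) (x y : MonoidAlgebra ℂ G) :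
    part N e (x * y) = ∑ d : G ⧸ N, part N (e * d⁻¹) x * part N d y := by
  conv_lhs => rw [← sum_part N y, Finset.mul_sum, part_sum]
  exact Finset.sum_congr rfl fun d _ => part_mul_of_supp_right N e d (supp_part N d y) x

/-- Restriction of coefficients to `N`. -/
noncomputable def res (a : MonoidAlgebra ℂ G) : MonoidAlgebra ℂ N :=
  ofFun (fun n : N => a.coeff (n : G))

theorem coeff_res (a : MonoidAlgebra ℂ G) (n : N) : (res N a).coeff n = a.coeff (n : G) := rfl

theorem res_iota (z : MonoidAlgebra ℂ N) : res N (iota N z) = z := by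
  ext n
  rw [coeff_res, coeff_iota_coe]

theorem iota_res {a : MonoidAlgebra ℂ G} (ha : Supp N 1 a) : iota N (res N a) = a := by
  obtain ⟨z, hz, -⟩ := exists_iota_of_supp_one N ha
  rw [← hz, res_iota]

theorem res_add (a a' : MonoidAlgebra ℂ G) : res N (a + a') = res N a + res N a' := by
  ext n
  rw [MonoidAlgebra.coeff_add, Finsupp.add_apply, coeff_res, coeff_res, coeff_res,
    MonoidAlgebra.coeff_add, Finsupp.add_apply]

theorem res_zero : res N (0 : MonoidAlgebra ℂ G) = 0 := by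
  ext n
  rw [coeff_res]
  simp

/-- `res N` as an additive homomorphism. -/
noncomputable def resHom : MonoidAlgebra ℂ G →+ MonoidAlgebra ℂ N where
  toFun := res N
  map_zero' := res_zero N
  map_add' := res_add N

theorem res_sum {ι : Type*} (s : Finset ι) (z : ι → MonoidAlgebra ℂ G) :
    res N (∑ i ∈ s, z i) = ∑ i ∈ s, res N (z i) :=
  map_sum (resHom N) z s

theorem res_mul {a a' : MonoidAlgebra ℂ G} (ha : Supp N 1 a) (ha' : Supp N 1 a') :
    res N (a * a') = res N a * res N a' := by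
  apply iota_injective N
  have h := supp_mul N ha ha'
  rw [mul_one] at h
  rw [map_mul, iota_res N ha, iota_res N ha', iota_res N h]

/-- The central character of `θ` evaluated on the `N`-part. -/
noncomputable def Phi (θ : N → ℂ) (a : MonoidAlgebra ℂ G) : ℂ := omega θ (res N a)

theorem Phi_sum (θ : N → ℂ) {ι : Type*} (s : Finset ι) (z : ι → MonoidAlgebra ℂ G) :
    Phi N θ (∑ i ∈ s, z i) = ∑ i ∈ s, Phi N θ (z i) := by
  unfold Phi
  rw [res_sum, omega_sum]

variable {M : Ideal AlgInt} (hMp : M.IsPrime)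

theorem lamH_congr {c d : G ⧸ N} (h : c = d) {a : MonoidAlgebra ℂ G} (ha : a ∈ LamH N hMp c) :
    a ∈ LamH N hMp d := h ▸ ha

theorem lamH_mul {c d : G ⧸ N} {a a' : MonoidAlgebra ℂ G} (ha : a ∈ LamH N hMp c)
    (ha' : a' ∈ LamH N hMp d) : a * a' ∈ LamH N hMp (c * d) :=
  ⟨lam_mul N hMp ha.1 ha'.1, supp_mul N ha.2 ha'.2⟩

theorem part_mem_lamH {f : MonoidAlgebra ℂ G} (hf : f ∈ Lam N hMp) (c : G ⧸ N) :
    part N c f ∈ LamH N hMp c :=
  ⟨⟨part_mem_intSubring N hMp c hf.1, part_comm_iota N c hf.2⟩, supp_part N c f⟩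

theorem lamH_res_center {a : MonoidAlgebra ℂ G} (ha : a ∈ LamH N hMp 1) : res N a ∈ Zc N := by
  rw [Subalgebra.mem_center_iff]
  intro z
  apply iota_injective N
  rw [map_mul, map_mul, iota_res N ha.2]
  exact ha.1.2 z

theorem lamH_res_int {a : MonoidAlgebra ℂ G} (ha : a ∈ LamH N hMp 1) :
    res N a ∈ intSubring M hMp := fun n => ha.1.1 _

theorem lamH_one_comm {a b : MonoidAlgebra ℂ G} (ha : a ∈ LamH N hMp 1) (hb : b ∈ Lam N hMp) :
    a * b = b * a := by
  rw [← iota_res N ha.2]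
  exact hb.2 _

theorem Phi_mul (θ : IrrCharacter N) {a a' : MonoidAlgebra ℂ G} (ha : a ∈ LamH N hMp 1)
    (ha' : Supp N 1 a') : Phi N θ (a * a') = Phi N θ a * Phi N θ a' := by
  unfold Phi
  rw [res_mul N ha.2 ha', omega_mul θ.2 _ _ (lamH_res_center N hMp ha)]

theorem Phi_memLocalRing (θ : IrrCharacter N) {a : MonoidAlgebra ℂ G}
    (ha : a ∈ LamH N hMp 1) : MemLocalRing M (Phi N θ a) :=
  omega_memLocalRing hMp θ.2 _ (lamH_res_center N hMp ha)
    ((mem_intSubring M hMp).mp (lamH_res_int N hMp ha))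

theorem Phi_sub_mem (θ θ' : IrrCharacter N) (hs : SameBlock M (θ : N → ℂ) (θ' : N → ℂ))
    {a : MonoidAlgebra ℂ G} (ha : a ∈ LamH N hMp 1) :
    MemLocalIdeal M (Phi N θ a - Phi N θ' a) :=
  omega_sub_mem_of_sameBlock hMp θ.2 θ'.2 hs _ (lamH_res_center N hMp ha)
    ((mem_intSubring M hMp).mp (lamH_res_int N hMp ha))

theorem Phi_symm (θ : IrrCharacter N) {c : G ⧸ N} {u v : MonoidAlgebra ℂ G}
    (hu : u ∈ LamH N hMp c) (hv : v ∈ LamH N hMp c⁻¹) (hne : Phi N θ (u * v) ≠ 0) :
    Phi N θ (v * u) = Phi N θ (u * v) := by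
  have hD : u * v ∈ LamH N hMp 1 := lamH_congr N hMp (mul_inv_cancel c) (lamH_mul N hMp hu hv)
  have hD' : v * u ∈ LamH N hMp 1 := lamH_congr N hMp (inv_mul_cancel c) (lamH_mul N hMp hv hu)
  have h1 : (u * v) * (u * v) = (v * u) * (u * v) := by
    calc (u * v) * (u * v) = u * (v * u) * v := by simp only [mul_assoc]
      _ = (v * u) * u * v := by rw [← lamH_one_comm N hMp hD' hu.1]
      _ = (v * u) * (u * v) := by rw [mul_assoc]
  have h2 := congrArg (Phi N θ) h1
  rw [Phi_mul N hMp θ hD hD.2, Phi_mul N hMp θ hD' hD.2] at h2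
  exact (mul_right_cancel₀ hne h2).symm

/-! ### The matrix -/

/-- The matrix of left multiplication by `f` on the `θ`-part of the centralizer of `ℂ[N]`. -/
noncomputable def Emat (f : MonoidAlgebra ℂ G) (θ : N → ℂ) : Matrix (G ⧸ N) (G ⧸ N) ℂ :=
  fun c' c => Phi N θ (part N (c' * c⁻¹) f * part N c f * part N c'⁻¹ f) /
    Phi N θ (part N c' f * part N c'⁻¹ f)

theorem Emat_idem [Fintype (G ⧸ N)] {f : MonoidAlgebra ℂ G} (hf : f ∈ Lam N hMp)
    (hff : f * f = f) (θ : IrrCharacter N)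
    (hne : ∀ c, Phi N θ (part N c f * part N c⁻¹ f) ≠ 0) :
    Emat N f θ * Emat N f θ = Emat N f θ := by
  have hF : ∀ c, part N c f ∈ LamH N hMp c := part_mem_lamH N hMp hf
  ext c'' c
  rw [Matrix.mul_apply]
  have key : ∀ c' : G ⧸ N, Emat N f θ c'' c' * Emat N f θ c' c =
      Phi N θ (part N (c'' * c'⁻¹) f * part N (c' * c⁻¹) f * part N c f * part N c''⁻¹ f) /
        Phi N θ (part N c'' f * part N c''⁻¹ f) := by
    intro c'
    obtain ⟨A, hA⟩ : ∃ A, A = part N (c'' * c'⁻¹) f := ⟨_, rfl⟩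
    obtain ⟨B, hB⟩ : ∃ B, B = part N (c' * c⁻¹) f * part N c f := ⟨_, rfl⟩
    have hAl : A ∈ LamH N hMp (c'' * c'⁻¹) := hA ▸ hF _
    have hBl : B ∈ LamH N hMp (c' * c⁻¹ * c) := hB ▸ lamH_mul N hMp (hF _) (hF _)
    have hX : A * part N c' f * part N c''⁻¹ f ∈ LamH N hMp 1 :=
      lamH_congr N hMp (by group) (lamH_mul N hMp (lamH_mul N hMp hAl (hF c')) (hF c''⁻¹))
    have hY : B * part N c'⁻¹ f ∈ LamH N hMp 1 :=
      lamH_congr N hMp (by group) (lamH_mul N hMp hBl (hF c'⁻¹))
    have hD' : part N c'⁻¹ f * part N c' f ∈ LamH N hMp 1 :=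
      lamH_congr N hMp (inv_mul_cancel c') (lamH_mul N hMp (hF c'⁻¹) (hF c'))
    have hZ : A * B * part N c''⁻¹ f ∈ LamH N hMp 1 :=
      lamH_congr N hMp (by group) (lamH_mul N hMp (lamH_mul N hMp hAl hBl) (hF c''⁻¹))
    have hXY : (A * part N c' f * part N c''⁻¹ f) * (B * part N c'⁻¹ f)
        = (part N c'⁻¹ f * part N c' f) * (A * B * part N c''⁻¹ f) := by
      calc (A * part N c' f * part N c''⁻¹ f) * (B * part N c'⁻¹ f)
          = A * part N c' f * (part N c''⁻¹ f * (B * part N c'⁻¹ f)) := by rw [mul_assoc]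
        _ = A * part N c' f * ((B * part N c'⁻¹ f) * part N c''⁻¹ f) := by
            rw [lamH_one_comm N hMp hY (hF c''⁻¹).1]
        _ = A * (part N c' f * (B * part N c'⁻¹ f)) * part N c''⁻¹ f := by
            simp only [mul_assoc]
        _ = A * ((B * part N c'⁻¹ f) * part N c' f) * part N c''⁻¹ f := by
            rw [lamH_one_comm N hMp hY (hF c').1]
        _ = (A * B) * (part N c'⁻¹ f * part N c' f) * part N c''⁻¹ f := by
            simp only [mul_assoc]
        _ = (part N c'⁻¹ f * part N c' f) * (A * B) * part N c''⁻¹ f := by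
            rw [lamH_one_comm N hMp hD' (lam_mul N hMp hAl.1 hBl.1)]
        _ = (part N c'⁻¹ f * part N c' f) * (A * B * part N c''⁻¹ f) := by
            simp only [mul_assoc]
    have h1 : Phi N θ (A * part N c' f * part N c''⁻¹ f) * Phi N θ (B * part N c'⁻¹ f)
        = Phi N θ (part N c' f * part N c'⁻¹ f) * Phi N θ (A * B * part N c''⁻¹ f) := by
      rw [← Phi_mul N hMp θ hX hY.2, hXY, Phi_mul N hMp θ hD' hZ.2,
        Phi_symm N hMp θ (hF c') (hF c'⁻¹) (hne c')]
    have e1 : Emat N f θ c'' c' = Phi N θ (A * part N c' f * part N c''⁻¹ f) /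
        Phi N θ (part N c'' f * part N c''⁻¹ f) := by
      unfold Emat
      rw [hA]
    have e2 : Emat N f θ c' c = Phi N θ (B * part N c'⁻¹ f) /
        Phi N θ (part N c' f * part N c'⁻¹ f) := by
      unfold Emat
      rw [hB]
    have e3 : part N (c'' * c'⁻¹) f * part N (c' * c⁻¹) f * part N c f * part N c''⁻¹ f
        = A * B * part N c''⁻¹ f := by
      rw [hA, hB]
      simp only [mul_assoc]
    rw [e1, e2, e3, div_mul_div_comm, h1]
    have hn1 := hne c'
    have hn2 := hne c''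
    field_simp
  rw [Finset.sum_congr rfl fun c' _ => key c', ← Finset.sum_div, ← Phi_sum]
  have h2 : ∑ c' : G ⧸ N, part N (c'' * c'⁻¹) f * part N (c' * c⁻¹) f * part N c f *
      part N c''⁻¹ f = part N (c'' * c⁻¹) f * part N c f * part N c''⁻¹ f := by
    rw [← Finset.sum_mul, ← Finset.sum_mul]
    congr 2
    have h3 := part_mul N (c'' * c⁻¹) f f
    rw [hff] at h3
    rw [h3]
    apply Fintype.sum_equiv (Equiv.mulRight c⁻¹)
    intro c'
    simp only [Equiv.coe_mulRight]
    congr 2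
    group
  rw [h2]
  rfl

theorem Emat_trace [Fintype (G ⧸ N)] {f : MonoidAlgebra ℂ G} (hf : f ∈ Lam N hMp)
    (θ : IrrCharacter N) (hne : ∀ c, Phi N θ (part N c f * part N c⁻¹ f) ≠ 0) :
    (Emat N f θ).trace = (Fintype.card (G ⧸ N) : ℂ) * Phi N θ (part N 1 f) := by
  have hF : ∀ c, part N c f ∈ LamH N hMp c := part_mem_lamH N hMp hf
  have hdiag : ∀ c : G ⧸ N, Emat N f θ c c = Phi N θ (part N 1 f) := by
    intro c
    have hD : part N c f * part N c⁻¹ f ∈ LamH N hMp 1 :=
      lamH_congr N hMp (mul_inv_cancel c) (lamH_mul N hMp (hF c) (hF c⁻¹))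
    unfold Emat
    rw [mul_inv_cancel, mul_assoc, Phi_mul N hMp θ (hF 1) hD.2, mul_div_assoc,
      div_self (hne c), mul_one]
  simp only [Matrix.trace, Matrix.diag_apply, hdiag, Finset.sum_const, Finset.card_univ,
    nsmul_eq_mul]

/-- Characters of `N` in the same block see the same value on the `N`-part of `f`, provided the
products `F c * F c⁻¹` are units at one of them. -/
theorem Phi_part_one_eq {f : MonoidAlgebra ℂ G} (hf : f ∈ Lam N hMp)
    (hff : f * f = f) (θ θ' : IrrCharacter N) (hs : SameBlock M (θ : N → ℂ) (θ' : N → ℂ))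
    (hunit : ∀ c, ¬ MemLocalIdeal M (Phi N θ' (part N c f * part N c⁻¹ f))) :
    Phi N θ (part N 1 f) = Phi N θ' (part N 1 f) := by
  classical
  have : Fintype (G ⧸ N) := Fintype.ofFinite _
  have hF : ∀ c, part N c f ∈ LamH N hMp c := part_mem_lamH N hMp hf
  have hD : ∀ c, part N c f * part N c⁻¹ f ∈ LamH N hMp 1 := fun c =>
    lamH_congr N hMp (mul_inv_cancel c) (lamH_mul N hMp (hF c) (hF c⁻¹))
  have hunit' : ∀ c, ¬ MemLocalIdeal M (Phi N θ (part N c f * part N c⁻¹ f)) := by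
    intro c h
    apply hunit c
    have h1 := memLocalIdeal_sub hMp h (Phi_sub_mem N hMp θ θ' hs (hD c))
    rwa [sub_sub_cancel] at h1
  have hne' : ∀ c, Phi N θ' (part N c f * part N c⁻¹ f) ≠ 0 := by
    intro c h
    apply hunit c
    rw [h]
    exact memLocalIdeal_zero hMp
  have hne : ∀ c, Phi N θ (part N c f * part N c⁻¹ f) ≠ 0 := by
    intro c h
    apply hunit' c
    rw [h]
    exact memLocalIdeal_zero hMp
  have hX : ∀ c' c : G ⧸ N, part N (c' * c⁻¹) f * part N c f * part N c'⁻¹ f ∈ LamH N hMp 1 :=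
    fun c' c => lamH_congr N hMp (by group)
      (lamH_mul N hMp (lamH_mul N hMp (hF (c' * c⁻¹)) (hF c)) (hF c'⁻¹))
  have htr := Cfsg.Agent.Lib.Helper77.IdemTrace.trace_eq_of_idem_congr hMp
    (Emat N f θ') (Emat N f θ) (Emat_idem N hMp hf hff θ' hne') (Emat_idem N hMp hf hff θ hne)
    (fun c' c => by
      unfold Emat
      rw [div_eq_mul_inv]
      exact memLocalRing_mul hMp (Phi_memLocalRing N hMp θ' (hX c' c))
        (memLocalRing_inv (Phi_memLocalRing N hMp θ' (hD c')) (hunit c')))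
    (fun c' c => by
      unfold Emat
      exact memLocalIdeal_div_sub_div hMp (Phi_memLocalRing N hMp θ' (hX c' c))
        (Phi_memLocalRing N hMp θ (hD c')) (Phi_memLocalRing N hMp θ' (hD c'))
        (Phi_sub_mem N hMp θ θ' hs (hX c' c)) (Phi_sub_mem N hMp θ θ' hs (hD c'))
        (hunit' c') (hunit c'))
  rw [Emat_trace N hMp hf θ' hne', Emat_trace N hMp hf θ hne] at htr
  have hcard : (Fintype.card (G ⧸ N) : ℂ) ≠ 0 := Nat.cast_ne_zero.mpr Fintype.card_ne_zero
  exact (mul_left_cancel₀ hcard htr).symm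

end Grade

end Cfsg.Agent.Lib.Helper58.IdemMat
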