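import Mathlib
import Cfsg.Prelude.Def_Blocks
import Cfsg.Agent.Lib.Helper58.IdemMat
import Cfsg.Agent.Lib.Helper16.FR2
import Cfsg.Agent.Lib.Helper16.Reynolds
import Cfsg.Agent.Lib.CT.Ops

/-!
# Isomorphic principal blocks (Alperin–Dade, character form)

`N ⊴ G` of index prime to `p`, `P ∈ Syl_p(G)`, `G = N C_G(P)`: restriction is a bijection from the
principal block of `G` onto the principal block of `N` (`alperin_dade`).
-/

namespace Cfsg.Agent.Lib.Helper58.AlperinDade

open Cfsg Cfsg.Agent.Lib.Helper77.LocalRing Cfsg.Agent.Lib.Helper77.CentralChar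
  Cfsg.Agent.Lib.Helper77.ClassSum Cfsg.Agent.Lib.Helper77.BlockIdem
  Cfsg.Agent.Lib.Helper77.BPBasic Cfsg.Agent.Lib.Helper16.ZR
  Cfsg.Agent.Lib.Helper58.CosetAlg Cfsg.Agent.Lib.CT.Wedderburn
  Cfsg.Agent.Lib.Helper58.CoverUnder Cfsg.Agent.Lib.Helper58.IdemMat

open Cfsg.Agent.Lib.Helper16.Normal (blockIdem_mul_self)
open Cfsg.Agent.Lib.CT.Ops (isIrrCharacter_one isCharacter_restrict)
open Cfsg.Agent.Lib.CT.Clifford (classInner_char_nat)

universe u

set_option linter.unusedSectionVars false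

/-! ### The value of `Φ_θ` on the `N`-part of a block idempotent -/

open Classical in
theorem Phi_part_one_blockIdem {G : Type u} [Group G] [Fintype G] (N : Subgroup G) [N.Normal]
    [Fintype N] {M : Ideal AlgInt} (hMp : M.IsPrime) [Fintype (IrrCharacter G)]
    (B : Set (IrrCharacter G)) (hB : blockIdem B ∈ Lam N hMp) (θ : IrrCharacter N) :
    Phi N θ (part N 1 (blockIdem B)) * (θ : N → ℂ) 1 * (Nat.card G : ℂ)
      = (Nat.card N : ℂ) * ∑ χ : IrrCharacter G, (if χ ∈ B then
          (χ : G → ℂ) 1 * classInner (fun n : N => (χ : G → ℂ) n) (θ : N → ℂ) else 0) := by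
  obtain ⟨f, hf⟩ : ∃ f : MonoidAlgebra ℂ G, f = blockIdem B := ⟨_, rfl⟩
  obtain ⟨e, he⟩ : ∃ e : MonoidAlgebra ℂ N, e = blockIdem ({θ} : Set (IrrCharacter N)) :=
    ⟨_, rfl⟩
  rw [← hf] at hB ⊢
  have hfc : f ∈ Zc G := hf ▸ blockIdem_mem_center B
  have hF1 : part N 1 f ∈ LamH N hMp 1 := part_mem_lamH N hMp hB 1
  have h1 : iota N e * part N 1 f = Phi N θ (part N 1 f) • iota N e := by
    conv_lhs => rw [← iota_res N hF1.2, ← map_mul, he,
      single_mul θ _ (lamH_res_center N hMp hF1), map_smul]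
    rw [he]
    rfl
  have h2 : (iota N e * part N 1 f).coeff 1 = (iota N e * f).coeff 1 := by
    rw [← part_mul_of_supp_one_left N 1 (supp_iota N e) f, coeff_part,
      if_pos (QuotientGroup.mk_one N)]
  obtain ⟨a, ha0, ha⟩ := irr_exists_apply_one_pos θ.2
  have h3 : (iota N e).coeff 1 = (Nat.card N : ℂ)⁻¹ * ((θ : N → ℂ) 1 * (θ : N → ℂ) 1) := by
    have h := coeff_iota_coe N e 1
    rw [OneMemClass.coe_one] at h
    rw [h, he, coeff_blockIdem]
    unfold blockCoeff
    rw [finsum_mem_singleton, ha]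
    simp
  have h4 : (iota N e * f).coeff 1 = (Nat.card G : ℂ)⁻¹ * ((θ : N → ℂ) 1 *
      ∑ χ : IrrCharacter G, (if χ ∈ B then
          (χ : G → ℂ) 1 * classInner (fun n : N => (χ : G → ℂ) n) (θ : N → ℂ) else 0)) := by
    rw [coeff_one_eq_sum_pair]
    congr 1
    rw [Finset.mul_sum]
    apply Finset.sum_congr rfl
    intro χ _
    rw [Subalgebra.mem_center_iff.mp hfc (iota N e), pair_mul_center χ.2 f _ hfc, hf,
      omega_blockIdem, pair_iota, he, pair_single_idem]
    split_ifs <;> ring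
  have h5 : (iota N e * part N 1 f).coeff 1 = Phi N θ (part N 1 f) * (iota N e).coeff 1 := by
    rw [h1, MonoidAlgebra.coeff_smul, Finsupp.smul_apply, smul_eq_mul]
  rw [h2, h4, h3] at h5
  have hθ1 : (θ : N → ℂ) 1 ≠ 0 := irr_apply_one_ne_zero θ.2
  have hN : (Nat.card N : ℂ) ≠ 0 := Nat.cast_ne_zero.mpr Nat.card_pos.ne'
  have hG : (Nat.card G : ℂ) ≠ 0 := Nat.cast_ne_zero.mpr Nat.card_pos.ne'
  field_simp at h5
  linear_combination -h5

/-! ### Restriction determined by the degree sum -/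

open Classical in
theorem exists_unique_of_sum {G : Type u} [Group G] [Fintype G] (N : Subgroup G) [Fintype N]
    [Fintype (IrrCharacter G)] [Fintype (IrrCharacter N)]
    (B : Set (IrrCharacter G)) (θ : IrrCharacter N)
    (hstar : ∑ χ : IrrCharacter G, (if χ ∈ B then
      (χ : G → ℂ) 1 * classInner (fun n : N => (χ : G → ℂ) n) (θ : N → ℂ) else 0)
        = (θ : N → ℂ) 1) :
    ∃ χ ∈ B, (∀ n : N, (χ : G → ℂ) n = (θ : N → ℂ) n) ∧
      ∀ χ' ∈ B, classInner (fun n : N => (χ' : G → ℂ) n) (θ : N → ℂ) ≠ 0 → χ' = χ := by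
  have hd : ∀ χ : IrrCharacter G, ∃ d : ℕ, 0 < d ∧ (χ : G → ℂ) 1 = d :=
    fun χ => irr_exists_apply_one_pos χ.2
  choose d hdpos hd using hd
  obtain ⟨dθ, hdθpos, hdθ⟩ := irr_exists_apply_one_pos θ.2
  have hexp : ∀ χ : IrrCharacter G, ∃ m : IrrCharacter N → ℕ,
      (∀ ψ : IrrCharacter N, classInner (fun n : N => (χ : G → ℂ) n) (ψ : N → ℂ) = m ψ) ∧
      ∀ n : N, (χ : G → ℂ) n = ∑ ψ : IrrCharacter N, (m ψ : ℂ) * (ψ : N → ℂ) n :=
    fun χ => Cfsg.Agent.Lib.Helper16.FR2.char_expand_nat _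
      (isCharacter_restrict N (isCharacter_of_irr χ.2))
  choose m hm hexp using hexp
  have hdψ : ∀ ψ : IrrCharacter N, ∃ e : ℕ, 0 < e ∧ (ψ : N → ℂ) 1 = e :=
    fun ψ => irr_exists_apply_one_pos ψ.2
  choose e hepos he using hdψ
  have hdeg : ∀ χ : IrrCharacter G, d χ = ∑ ψ : IrrCharacter N, m χ ψ * e ψ := by
    intro χ
    have h1 := hexp χ 1
    rw [OneMemClass.coe_one, hd χ] at h1
    simp only [he] at h1
    exact_mod_cast h1
  have hstarN : ∑ χ : IrrCharacter G, (if χ ∈ B then d χ * m χ θ else 0) = dθ := by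
    have h1 : ((∑ χ : IrrCharacter G, (if χ ∈ B then d χ * m χ θ else 0) : ℕ) : ℂ)
        = (dθ : ℂ) := by
      rw [← hdθ, ← hstar, Nat.cast_sum]
      apply Finset.sum_congr rfl
      intro χ _
      split_ifs
      · rw [hm χ θ, hd χ]
        push_cast
        ring
      · simp
    exact_mod_cast h1
  have hex : ∃ χ, χ ∈ B ∧ m χ θ ≠ 0 := by
    by_contra hcon
    push Not at hcon
    have h1 : ∑ χ : IrrCharacter G, (if χ ∈ B then d χ * m χ θ else 0) = 0 := by
      apply Finset.sum_eq_zero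
      intro χ _
      split_ifs with h
      · rw [hcon χ h, mul_zero]
      · rfl
    omega
  obtain ⟨χ, hχB, hmχ⟩ := hex
  have h1 : d χ * m χ θ ≤ dθ := by
    rw [← hstarN]
    have h := Finset.single_le_sum
      (f := fun χ : IrrCharacter G => if χ ∈ B then d χ * m χ θ else 0)
      (fun _ _ => Nat.zero_le _) (Finset.mem_univ χ)
    simpa [hχB] using h
  have h2 : m χ θ * e θ ≤ d χ := by
    rw [hdeg χ]
    exact Finset.single_le_sum (f := fun ψ => m χ ψ * e ψ) (fun _ _ => Nat.zero_le _)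
      (Finset.mem_univ θ)
  have heθ : e θ = dθ := by
    have h := (he θ).symm.trans hdθ
    exact_mod_cast h
  rw [heθ] at h2
  have hm1 : m χ θ = 1 := by
    by_contra hne
    have hm2 : 2 ≤ m χ θ := by omega
    have h3 : 2 * dθ ≤ d χ := le_trans (Nat.mul_le_mul_right _ hm2) h2
    have h4 : d χ * 2 ≤ dθ := le_trans (Nat.mul_le_mul_left _ hm2) h1
    omega
  have hdχ : d χ = dθ := by
    rw [hm1] at h1 h2
    omega
  refine ⟨χ, hχB, ?_, ?_⟩
  · intro n
    rw [hexp χ n, Finset.sum_eq_single θ]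
    · rw [hm1]
      simp
    · intro ψ _ hψ
      have hz : m χ ψ = 0 := by
        by_contra hne
        have h3 : m χ θ * e θ + m χ ψ * e ψ ≤ d χ := by
          rw [hdeg χ]
          have h := Finset.sum_le_sum_of_subset (f := fun ψ => m χ ψ * e ψ)
            (Finset.subset_univ ({θ, ψ} : Finset (IrrCharacter N)))
          rw [Finset.sum_pair (Ne.symm hψ)] at h
          exact h
        have h4 := hepos ψ
        have h5 : 1 ≤ m χ ψ * e ψ :=
          Nat.one_le_iff_ne_zero.mpr (Nat.mul_ne_zero hne (by omega))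
        rw [hm1, heθ] at h3
        omega
      rw [hz]
      simp
    · intro h
      exact absurd (Finset.mem_univ θ) h
  · intro χ' hχ'B hne'
    by_contra hneq
    have hm' : m χ' θ ≠ 0 := by
      intro h0
      apply hne'
      rw [hm χ' θ, h0]
      simp
    have h3 : d χ * m χ θ + d χ' * m χ' θ ≤ dθ := by
      rw [← hstarN]
      have h := Finset.sum_le_sum_of_subset
        (f := fun χ : IrrCharacter G => if χ ∈ B then d χ * m χ θ else 0)
        (Finset.subset_univ ({χ, χ'} : Finset (IrrCharacter G)))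
      rw [Finset.sum_pair (Ne.symm hneq)] at h
      simpa [hχB, hχ'B] using h
    have h4 := hdpos χ'
    have h5 : 1 ≤ d χ' * m χ' θ :=
      Nat.one_le_iff_ne_zero.mpr (Nat.mul_ne_zero (by omega) hm')
    rw [hm1, hdχ] at h3
    omega

/-! ### The principal block -/

section Principal

variable {G : Type u} [Group G] [Fintype G] (N : Subgroup G) [N.Normal] [Fintype N]
  {M : Ideal AlgInt}

theorem principal_isPBlock (A : Type u) [Group A] : IsPBlock M (principalBlock M A) :=
  ⟨⟨fun _ => 1, isIrrCharacter_one⟩, rfl⟩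

theorem one_mem_principal (hMp : M.IsPrime) (A : Type u) [Group A] :
    (⟨fun _ => 1, isIrrCharacter_one⟩ : IrrCharacter A) ∈ principalBlock M A :=
  sameBlock_refl hMp _

/-- The averaged sum of the elements of `N`. -/
noncomputable def avN : MonoidAlgebra ℂ G := iota N (ofFun (fun _ : N => (Nat.card N : ℂ)⁻¹))

theorem coeff_avN (g : G) [Decidable (g ∈ N)] :
    (avN N).coeff g = if g ∈ N then (Nat.card N : ℂ)⁻¹ else 0 := by
  split_ifs with h
  · have h1 := coeff_iota_coe N (ofFun (fun _ : N => (Nat.card N : ℂ)⁻¹)) ⟨g, h⟩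
    simpa [avN] using h1
  · exact coeff_iota_of_not_mem N _ g h

theorem avN_center : avN N ∈ Zc G := by
  classical
  rw [mem_center_iff]
  intro x g
  rw [coeff_avN, coeff_avN]
  have h : x * g * x⁻¹ ∈ N ↔ g ∈ N := by
    constructor
    · intro h
      have h1 := (inferInstance : N.Normal).conj_mem _ h x⁻¹
      simpa [mul_assoc] using h1
    · intro h
      exact (inferInstance : N.Normal).conj_mem g h x
  by_cases hg : g ∈ N
  · rw [if_pos hg, if_pos (h.mpr hg)]
  · rw [if_neg hg, if_neg (fun h' => hg (h.mp h'))]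

theorem pair_avN (χ : G → ℂ) :
    pair χ (avN N) = classInner (fun n : N => χ n) (fun _ => (1 : ℂ)) := by
  unfold avN
  rw [pair_iota, pair_ofFun]
  unfold classInner
  rw [Finset.mul_sum]
  apply Finset.sum_congr rfl
  intro n _
  simp

theorem aug_mul (x y : MonoidAlgebra ℂ G) :
    pair (fun _ => (1 : ℂ)) (x * y) = pair (fun _ => (1 : ℂ)) x * pair (fun _ => (1 : ℂ)) y := by
  rw [pair_eq_sum, pair_eq_sum, pair_eq_sum]
  simp only [mul_one, coeff_mul']
  have h1 : ∑ g : G, ∑ h : G, x.coeff (g * h⁻¹) * y.coeff h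
      = ∑ h : G, ∑ g : G, x.coeff g * y.coeff h := by
    rw [Finset.sum_comm]
    apply Finset.sum_congr rfl
    intro h _
    exact Fintype.sum_equiv (Equiv.mulRight h⁻¹) _ _ (fun g => rfl)
  rw [h1, Finset.sum_mul_sum, Finset.sum_comm]

theorem Phi_one {a : MonoidAlgebra ℂ G} (ha : Supp N 1 a) :
    Phi N (fun _ : N => (1 : ℂ)) a = pair (fun _ : G => (1 : ℂ)) a := by
  unfold Phi omega
  rw [div_one]
  conv_rhs => rw [← iota_res N ha, pair_iota]

variable (p : ℕ) [Fact p.Prime] (hM : IsPModular p M)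

include hM in
theorem principal_apply_centralizer (P : Sylow p G) (χ : IrrCharacter G)
    (hχ : χ ∈ principalBlock M G) (x : G)
    (hx : x ∈ Subgroup.centralizer ((P : Subgroup G) : Set G)) :
    MemLocalIdeal M ((χ : G → ℂ) x / (χ : G → ℂ) 1 - 1) := by
  have hMp := isPrime_of_isPModular hM
  have h1 := hχ x
  have hle : (P : Subgroup G) ≤ Subgroup.centralizer ({x} : Set G) := by
    intro q hq
    rw [Subgroup.mem_centralizer_iff]
    intro y hy
    rw [Set.mem_singleton_iff] at hy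
    subst hy
    exact (Subgroup.mem_centralizer_iff.mp hx q hq).symm
  have hidx : ¬ p ∣ (Subgroup.centralizer ({x} : Set G)).index :=
    fun h => P.not_dvd_index (h.trans (Subgroup.index_dvd_of_le hle))
  have hne : ¬ MemLocalIdeal M (((Subgroup.centralizer ({x} : Set G)).index : ℂ)) :=
    fun h => hidx ((memLocalIdeal_natCast_iff hM _).mp h)
  have e : centralChar (fun _ : G => (1 : ℂ)) x - centralChar (χ : G → ℂ) x
      = ((Subgroup.centralizer ({x} : Set G)).index : ℂ) *
        (1 - (χ : G → ℂ) x / (χ : G → ℂ) 1) := by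
    unfold centralChar
    ring
  rw [e] at h1
  rcases memLocalIdeal_or_of_mul hMp (memLocalRing_natCast hMp _) h1 with h | h
  · exact absurd h hne
  · exact memLocalIdeal_sub_comm h

theorem exists_rep (C : Subgroup G) (hsup : N ⊔ C = ⊤) (c : G ⧸ N) :
    ∃ x ∈ C, (QuotientGroup.mk x : G ⧸ N) = c := by
  obtain ⟨g, rfl⟩ := QuotientGroup.mk_surjective c
  have hg : g ∈ N ⊔ C := by
    rw [hsup]
    exact Subgroup.mem_top g
  obtain ⟨n, hn, x, hx, rfl⟩ := Subgroup.mem_sup_of_normal_left.mp hg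
  refine ⟨x, hx, ?_⟩
  rw [QuotientGroup.mk_mul, (QuotientGroup.eq_one_iff n).mpr hn, one_mul]

include hM in
theorem pair_avN_eq_zero (hidx : ¬ p ∣ N.index) (P : Sylow p G)
    (hsup : N ⊔ Subgroup.centralizer ((P : Subgroup G) : Set G) = ⊤)
    (χ : IrrCharacter G) (hχ : χ ∈ principalBlock M G)
    (hne1 : χ ≠ ⟨fun _ => 1, isIrrCharacter_one⟩) : pair (χ : G → ℂ) (avN N) = 0 := by
  classical
  have hMp := isPrime_of_isPModular hM
  have : Fintype (G ⧸ N) := Fintype.ofFinite _
  by_contra hne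
  choose xr hxC hxc using exists_rep N _ hsup
  obtain ⟨y, hy⟩ : ∃ y : MonoidAlgebra ℂ G,
      y = ∑ c : G ⧸ N, MonoidAlgebra.single (xr c) (1 : ℂ) := ⟨_, rfl⟩
  have h1 : avN N * y = (Nat.card N : ℂ)⁻¹ • ofFun (fun _ : G => (1 : ℂ)) := by
    ext g
    rw [hy, Finset.mul_sum, MonoidAlgebra.coeff_sum, Finsupp.finsetSum_apply,
      MonoidAlgebra.coeff_smul, Finsupp.smul_apply, coeff_ofFun, smul_eq_mul, mul_one]
    have h2 : ∀ c : G ⧸ N, (avN N * MonoidAlgebra.single (xr c) (1 : ℂ)).coeff g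
        = if (QuotientGroup.mk g : G ⧸ N) = c then (Nat.card N : ℂ)⁻¹ else 0 := by
      intro c
      rw [MonoidAlgebra.coeff_mul_single_apply, mul_one, coeff_avN]
      have h3 : g * (xr c)⁻¹ ∈ N ↔ (QuotientGroup.mk g : G ⧸ N) = c := by
        rw [← QuotientGroup.eq_one_iff, QuotientGroup.mk_mul, QuotientGroup.mk_inv, hxc c,
          mul_inv_eq_one]
      by_cases hc : (QuotientGroup.mk g : G ⧸ N) = c
      · rw [if_pos hc, if_pos (h3.mpr hc)]
      · rw [if_neg hc, if_neg (fun h => hc (h3.mp h))]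
    rw [Finset.sum_congr rfl fun c _ => h2 c, Finset.sum_ite_eq, if_pos (Finset.mem_univ _)]
  have h3 : pair (χ : G → ℂ) (avN N * y)
      = omega (χ : G → ℂ) (avN N) * ∑ c : G ⧸ N, (χ : G → ℂ) (xr c) := by
    rw [pair_mul_center χ.2 _ _ (avN_center N), hy, pair_sum]
    congr 1
    apply Finset.sum_congr rfl
    intro c _
    rw [pair_single, one_mul]
  have h4 : pair (χ : G → ℂ) ((Nat.card N : ℂ)⁻¹ • ofFun (fun _ : G => (1 : ℂ))) = 0 := by
    rw [pair_smul, pair_ofFun]
    have h5 := irr_orthonormal χ ⟨fun _ => 1, isIrrCharacter_one⟩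
    rw [if_neg hne1] at h5
    unfold classInner at h5
    have hG : (Nat.card G : ℂ)⁻¹ ≠ 0 := inv_ne_zero (Nat.cast_ne_zero.mpr Nat.card_pos.ne')
    have h6 := (mul_eq_zero.mp h5).resolve_left hG
    have h7 : ∑ g : G, (1 : ℂ) * (χ : G → ℂ) g = 0 := by
      rw [← h6]
      apply Finset.sum_congr rfl
      intro g _
      simp
    rw [h7, mul_zero]
  rw [h1, h4] at h3
  have hom : omega (χ : G → ℂ) (avN N) ≠ 0 := by
    unfold omega
    exact div_ne_zero hne (irr_apply_one_ne_zero χ.2)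
  have hsum : ∑ c : G ⧸ N, (χ : G → ℂ) (xr c) = 0 := (mul_eq_zero.mp h3.symm).resolve_left hom
  have h8 : MemLocalIdeal M (∑ c : G ⧸ N, ((χ : G → ℂ) (xr c) / (χ : G → ℂ) 1 - 1)) :=
    memLocalIdeal_sum hMp _ _ fun c _ => principal_apply_centralizer p hM P χ hχ (xr c) (hxC c)
  rw [Finset.sum_sub_distrib, ← Finset.sum_div, hsum, zero_div, zero_sub, Finset.sum_const,
    Finset.card_univ, nsmul_eq_mul, mul_one] at h8
  have h9 := (memLocalIdeal_natCast_iff hM _).mp (memLocalIdeal_neg_iff.mp h8)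
  apply hidx
  rwa [Subgroup.index_eq_card, Nat.card_eq_fintype_card]

include hM in
theorem avN_mul_principal (hidx : ¬ p ∣ N.index) (P : Sylow p G)
    (hsup : N ⊔ Subgroup.centralizer ((P : Subgroup G) : Set G) = ⊤) :
    avN N * blockIdem (principalBlock M G)
      = blockIdem ({⟨fun _ => 1, isIrrCharacter_one⟩} : Set (IrrCharacter G)) := by
  classical
  have hMp := isPrime_of_isPModular hM
  apply eq_of_omega_eq _ _ (Subalgebra.mul_mem _ (avN_center N) (blockIdem_mem_center _))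
    (blockIdem_mem_center _)
  intro ψ
  rw [omega_mul ψ.2 _ _ (avN_center N), omega_blockIdem, omega_blockIdem]
  by_cases h1 : ψ = ⟨fun _ => 1, isIrrCharacter_one⟩
  · subst h1
    rw [if_pos (one_mem_principal hMp G), if_pos (Set.mem_singleton _), mul_one]
    unfold omega
    rw [pair_avN, div_one]
    exact (irr_orthonormal (⟨fun _ => 1, isIrrCharacter_one⟩ : IrrCharacter N)
      ⟨fun _ => 1, isIrrCharacter_one⟩).trans (if_pos rfl)
  · rw [if_neg (show ψ ∉ ({⟨fun _ => 1, isIrrCharacter_one⟩} : Set (IrrCharacter G)) from h1)]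
    by_cases h2 : ψ ∈ principalBlock M G
    · rw [if_pos h2, mul_one]
      unfold omega
      rw [pair_avN_eq_zero N p hM hidx P hsup ψ h2 h1, zero_div]
    · rw [if_neg h2, mul_zero]

include hM in
theorem aug_part_principal (hidx : ¬ p ∣ N.index) (P : Sylow p G)
    (hsup : N ⊔ Subgroup.centralizer ((P : Subgroup G) : Set G) = ⊤) (c : G ⧸ N) :
    pair (fun _ : G => (1 : ℂ)) (part N c (blockIdem (principalBlock M G)))
      = (Nat.card N : ℂ) * (Nat.card G : ℂ)⁻¹ := by
  classical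
  obtain ⟨g, rfl⟩ := QuotientGroup.mk_surjective c
  have h1 : (avN N * blockIdem (principalBlock M G)).coeff g
      = (blockIdem ({⟨fun _ => 1, isIrrCharacter_one⟩} : Set (IrrCharacter G))).coeff g := by
    rw [avN_mul_principal N p hM hidx P hsup]
  rw [coeff_blockIdem] at h1
  have h2 : blockCoeff ({⟨fun _ => 1, isIrrCharacter_one⟩} : Set (IrrCharacter G)) g
      = (Nat.card G : ℂ)⁻¹ := by
    unfold blockCoeff
    rw [finsum_mem_singleton]
    simp
  rw [h2, coeff_mul'] at h1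
  rw [pair_eq_sum]
  have h3 : ∀ h : G, (avN N).coeff (g * h⁻¹) * (blockIdem (principalBlock M G)).coeff h
      = (Nat.card N : ℂ)⁻¹ *
        ((part N (QuotientGroup.mk g) (blockIdem (principalBlock M G))).coeff h * 1) := by
    intro h
    rw [coeff_avN, coeff_part, mul_one]
    have h4 : g * h⁻¹ ∈ N ↔ (QuotientGroup.mk h : G ⧸ N) = QuotientGroup.mk g := by
      rw [← QuotientGroup.eq_one_iff, QuotientGroup.mk_mul, QuotientGroup.mk_inv, mul_inv_eq_one,
        eq_comm]
    by_cases hc : (QuotientGroup.mk h : G ⧸ N) = QuotientGroup.mk g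
    · rw [if_pos hc, if_pos (h4.mpr hc)]
    · rw [if_neg hc, if_neg (fun h' => hc (h4.mp h')), zero_mul, mul_zero]
  rw [Finset.sum_congr rfl fun h _ => h3 h, ← Finset.mul_sum] at h1
  have hN : (Nat.card N : ℂ) ≠ 0 := Nat.cast_ne_zero.mpr Nat.card_pos.ne'
  rw [← h1]
  field_simp

include hM in
theorem Phi_one_unit (hidx : ¬ p ∣ N.index) (P : Sylow p G)
    (hsup : N ⊔ Subgroup.centralizer ((P : Subgroup G) : Set G) = ⊤) (c : G ⧸ N) :
    ¬ MemLocalIdeal M (Phi N (fun _ : N => (1 : ℂ))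
      (part N c (blockIdem (principalBlock M G)) *
        part N c⁻¹ (blockIdem (principalBlock M G)))) := by
  have hMp := isPrime_of_isPModular hM
  have hs : Supp N 1 (part N c (blockIdem (principalBlock M G)) *
      part N c⁻¹ (blockIdem (principalBlock M G))) := by
    have h := supp_mul N (supp_part N c (blockIdem (principalBlock M G)))
      (supp_part N c⁻¹ (blockIdem (principalBlock M G)))
    rwa [mul_inv_cancel] at h
  rw [Phi_one N hs, aug_mul, aug_part_principal N p hM hidx P hsup,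
    aug_part_principal N p hM hidx P hsup]
  have hq : ¬ MemLocalIdeal M ((N.index : ℕ) : ℂ) :=
    fun h => hidx ((memLocalIdeal_natCast_iff hM _).mp h)
  have hq0 : ((N.index : ℕ) : ℂ) ≠ 0 := by
    intro h
    apply hq
    rw [h]
    exact memLocalIdeal_zero hMp
  have hN : (Nat.card N : ℂ) ≠ 0 := Nat.cast_ne_zero.mpr Nat.card_pos.ne'
  have e : (Nat.card N : ℂ) * (Nat.card G : ℂ)⁻¹ = ((N.index : ℕ) : ℂ)⁻¹ := by
    rw [← Subgroup.index_mul_card N]
    push_cast
    field_simp
  rw [e]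
  exact not_memLocalIdeal_mul hMp (memLocalRing_inv (memLocalRing_natCast hMp _) hq)
    (not_memLocalIdeal_inv hMp (memLocalRing_natCast hMp _) hq)
    (not_memLocalIdeal_inv hMp (memLocalRing_natCast hMp _) hq)

open Classical in
include hM in
theorem star [Fintype (IrrCharacter G)] (hidx : ¬ p ∣ N.index) (P : Sylow p G)
    (hsup : N ⊔ Subgroup.centralizer ((P : Subgroup G) : Set G) = ⊤)
    (θ : IrrCharacter N) (hθ : θ ∈ principalBlock M N) :
    ∑ χ : IrrCharacter G, (if χ ∈ principalBlock M G then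
      (χ : G → ℂ) 1 * classInner (fun n : N => (χ : G → ℂ) n) (θ : N → ℂ) else 0)
        = (θ : N → ℂ) 1 := by
  have hMp := isPrime_of_isPModular hM
  have hf : blockIdem (principalBlock M G) ∈ Lam N hMp :=
    ⟨blockIdem_mem_intSubring hMp _ (principal_isPBlock G),
      fun z => Subalgebra.mem_center_iff.mp (blockIdem_mem_center _) _⟩
  have hA := Phi_part_one_eq N hMp hf (blockIdem_mul_self _) θ
    ⟨fun _ => 1, isIrrCharacter_one⟩ (sameBlock_symm hθ)
    (fun c => Phi_one_unit N p hM hidx P hsup c)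
  have hBθ := Phi_part_one_blockIdem N hMp (principalBlock M G) hf θ
  have hB1 := Phi_part_one_blockIdem N hMp (principalBlock M G) hf
    ⟨fun _ => 1, isIrrCharacter_one⟩
  have hT1 : ∑ χ : IrrCharacter G, (if χ ∈ principalBlock M G then
      (χ : G → ℂ) 1 * classInner (fun n : N => (χ : G → ℂ) n) (fun _ : N => (1 : ℂ)) else 0)
        = 1 := by
    rw [Finset.sum_eq_single (⟨fun _ => 1, isIrrCharacter_one⟩ : IrrCharacter G)]
    · rw [if_pos (one_mem_principal hMp G), one_mul]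
      exact (irr_orthonormal (⟨fun _ => 1, isIrrCharacter_one⟩ : IrrCharacter N)
        ⟨fun _ => 1, isIrrCharacter_one⟩).trans (if_pos rfl)
    · intro χ _ hχ
      split_ifs with h
      · rw [← pair_avN, pair_avN_eq_zero N p hM hidx P hsup χ h hχ, mul_zero]
      · rfl
    · intro h
      exact absurd (Finset.mem_univ _) h
  rw [hA] at hBθ
  have hB1' : Phi N (fun _ : N => (1 : ℂ)) (part N 1 (blockIdem (principalBlock M G))) *
      (Nat.card G : ℂ) = (Nat.card N : ℂ) := by
    have h := hB1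
    rw [hT1] at h
    simpa using h
  have hN : (Nat.card N : ℂ) ≠ 0 := Nat.cast_ne_zero.mpr Nat.card_pos.ne'
  have h3 : (Nat.card N : ℂ) * ∑ χ : IrrCharacter G, (if χ ∈ principalBlock M G then
      (χ : G → ℂ) 1 * classInner (fun n : N => (χ : G → ℂ) n) (θ : N → ℂ) else 0)
        = (Nat.card N : ℂ) * (θ : N → ℂ) 1 := by
    rw [← hBθ, ← hB1']
    ring
  exact mul_left_cancel₀ hN h3

end Principal

/-! ### The theorem -/

theorem alperin_dade {G : Type u} [Group G] [Finite G] (p : ℕ) [Fact p.Prime]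
    (M : Ideal AlgInt) (hM : IsPModular p M) (N : Subgroup G) [hN : N.Normal]
    (hidx : ¬ p ∣ N.index) (P : Sylow p G)
    (hsup : N ⊔ Subgroup.centralizer ((P : Subgroup G) : Set G) = ⊤) :
    (∀ χ ∈ principalBlock M G, ∃ θ ∈ principalBlock M ↥N,
        ∀ n : N, (χ : G → ℂ) n = (θ : N → ℂ) n) ∧
      ∀ θ ∈ principalBlock M ↥N, ∃! χ : IrrCharacter G,
        χ ∈ principalBlock M G ∧ ∀ n : N, (χ : G → ℂ) n = (θ : N → ℂ) n := by
  classical
  have hMp := isPrime_of_isPModular hM
  have : Fintype G := Fintype.ofFinite G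
  have : Fintype N := Fintype.ofFinite N
  have := finite_irrCharacter G
  have : Fintype (IrrCharacter G) := Fintype.ofFinite _
  have := finite_irrCharacter N
  have : Fintype (IrrCharacter N) := Fintype.ofFinite _
  have key : ∀ θ ∈ principalBlock M ↥N, ∃ χ ∈ principalBlock M G,
      (∀ n : N, (χ : G → ℂ) n = (θ : N → ℂ) n) ∧
      ∀ χ' ∈ principalBlock M G,
        classInner (fun n : N => (χ' : G → ℂ) n) (θ : N → ℂ) ≠ 0 → χ' = χ :=
    fun θ hθ => exists_unique_of_sum N (principalBlock M G) θ (star N p hM hidx P hsup θ hθ)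
  have hone : classInner (fun _ : N => (1 : ℂ)) (fun _ : N => (1 : ℂ)) = 1 :=
    (irr_orthonormal (⟨fun _ => 1, isIrrCharacter_one⟩ : IrrCharacter N)
      ⟨fun _ => 1, isIrrCharacter_one⟩).trans (if_pos rfl)
  constructor
  · intro χ hχ
    have hcov : ∃ χ ∈ principalBlock M G, ∃ θ ∈ principalBlock M ↥N,
        classInner (fun n : N => (χ : G → ℂ) n) (θ : N → ℂ) ≠ 0 :=
      ⟨⟨fun _ => 1, isIrrCharacter_one⟩, one_mem_principal hMp G,
        ⟨fun _ => 1, isIrrCharacter_one⟩, one_mem_principal hMp N, by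
          rw [hone]
          exact one_ne_zero⟩
    obtain ⟨θ, hθ, hne⟩ := Cfsg.Agent.Lib.Helper16.Reynolds.forall_cover hMp N hN
      (principalBlock M ↥N) (principal_isPBlock N) (principalBlock M G) (principal_isPBlock G)
      hcov χ hχ
    obtain ⟨χ₁, hχ₁, hres, huniq⟩ := key θ hθ
    refine ⟨θ, hθ, ?_⟩
    rw [huniq χ hχ hne]
    exact hres
  · intro θ hθ
    obtain ⟨χ₁, hχ₁, hres, huniq⟩ := key θ hθ
    refine ⟨χ₁, ⟨hχ₁, hres⟩, ?_⟩
    rintro χ' ⟨hχ', hres'⟩
    apply huniq χ' hχ'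
    have e : (fun n : N => (χ' : G → ℂ) n) = (θ : N → ℂ) := funext hres'
    rw [e, irr_orthonormal θ θ, if_pos rfl]
    exact one_ne_zero

end Cfsg.Agent.Lib.Helper58.AlperinDade
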