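import Mathlib
import Cfsg.Agent.Lib.Helper44.BCStmt

/-!
# S2362, piece BDDET: the determinant of a matrix in block form.
-/

set_option autoImplicit false

namespace Cfsg.Agent.Lib.Helper58.BCBDDET

open Matrix

universe u

theorem main : Cfsg.Agent.Lib.Helper44.BCStmt.BlockDet.{u} := by
  intro F _ ι _ _ D k₁ k₂ D₁ D₂ J h
  have h1 : Matrix.toLin' D = (J : (Fin k₁ ⊕ Fin k₂ → F) →ₗ[F] (ι → F)) ∘ₗ
      Matrix.toLin' (Matrix.fromBlocks D₁ 0 0 D₂) ∘ₗ
      (J.symm : (ι → F) →ₗ[F] (Fin k₁ ⊕ Fin k₂ → F)) := by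
    apply LinearMap.ext
    intro x
    obtain ⟨u, rfl⟩ := J.surjective x
    rw [LinearMap.comp_apply, LinearMap.comp_apply, LinearEquiv.coe_coe, LinearEquiv.coe_coe,
      LinearEquiv.symm_apply_apply, Matrix.toLin'_apply, Matrix.toLin'_apply, h u,
      Matrix.fromBlocks_mulVec]
    congr 1
    simp
  rw [← LinearMap.det_toLin' D, h1, LinearMap.det_conj, LinearMap.det_toLin',
    Matrix.det_fromBlocks_zero₁₂]

end Cfsg.Agent.Lib.Helper58.BCBDDET
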