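import Mathlib
import Cfsg.Agent.Lib.Helper88.CEStmt
import Cfsg.Agent.Lib.Helper87.FSSat
import Cfsg.Agent.Lib.Helper30.WNWSYL

/-!
# S5127, piece KCONJS: let `T` be strongly closed in the saturated `F`, `R ≤ S`, and
`κ ∈ Aut_F(R)` the identity on `R ∩ T`, moving every `y ∈ R` by an element of `T` centralizing
`R ∩ T`.  Then there are a map `χ` of `F` with source `N_S(R)` and `h ∈ S` with
`χ (κ y) = h χ(y) h⁻¹` on `R`.

Take `χ : N_S(R) → S` in `F` with `χ(R)` fully automized (saturation and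
`Helper87.FSSat.exists_extension_normalizer`) and apply WSYL (`Helper30.WNWSYL.main`) to
`χ κ χ⁻¹`.
-/

set_option autoImplicit false
set_option linter.style.haveILetI false

namespace Cfsg.Agent.Lib.Helper58.CEKCONJS

open Cfsg Cfsg.FusionSystem Cfsg.Agent.Lib.Helper88.FCStmt Cfsg.Agent.Lib.Helper88.CEStmt
  Cfsg.Agent.Lib.Helper88.WNStmt Cfsg.Agent.H85

universe u

/-- the transport step: for a map `θ'` of `F` on `R` with fully automized image. -/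
theorem core {Ω : Type u} [Group Ω] {S : Subgroup Ω} [Finite S] (p : ℕ) [Fact p.Prime]
    (hS : IsPGroup p S) (F : FusionSystem S) (T : Subgroup Ω) (hT : F.StronglyClosed T)
    (R : Subgroup Ω) (κ : MulAut R) (hκ : κ ∈ F.autGroup R)
    (ha : ∀ x : R, (x : Ω) ∈ T → κ x = x)
    (hb : ∀ y : R, (y : Ω)⁻¹ * ((κ y : R) : Ω) ∈ T ∧ ∀ x : R, (x : Ω) ∈ T →
      (y : Ω)⁻¹ * ((κ y : R) : Ω) * (x : Ω) = (x : Ω) * ((y : Ω)⁻¹ * ((κ y : R) : Ω)))
    (θ' : R →* Ω) (hθ' : θ' ∈ F.Hom R) (hfa' : F.IsFullyAutomized p θ'.range) :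
    ∃ h ∈ S, ∀ y : R, θ' (κ y) = h * θ' y * h⁻¹ := by
  classical
  obtain ⟨hTS, hsc⟩ := hT
  obtain ⟨e, he⟩ : ∃ e : R ≃* θ'.range, e = MonoidHom.ofInjective (F.injective_of_mem hθ') :=
    ⟨_, rfl⟩
  have hecoe : ∀ y : R, ((e y : θ'.range) : Ω) = θ' y := by
    intro y
    rw [he]
    rfl
  have hξ : MulAut.congr e κ ∈ F.autGroup θ'.range := by
    rw [he]
    exact Cfsg.Agent.Lib.Helper87.FSSat.congr_mem_autGroup F hθ' hκ
  have hξapply : ∀ y : R, ((MulAut.congr e κ (e y) : θ'.range) : Ω) = θ' (κ y) := by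
    intro y
    show ((e (κ (e.symm (e y))) : θ'.range) : Ω) = θ' (κ y)
    rw [MulEquiv.symm_apply_apply, hecoe]
  -- elements of `R` mapping into `T` lie in `T`, and conversely
  have hback : ∀ y : R, θ' y ∈ T → (y : Ω) ∈ T := by
    intro y hy
    have hle : Subgroup.zpowers (θ' y) ≤ θ'.range := by
      rw [Subgroup.zpowers_le]
      exact ⟨y, rfl⟩
    obtain ⟨φ, hφ, hφx⟩ := inv_mem' F hθ' hle
    have hleT : Subgroup.zpowers (θ' y) ≤ T := by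
      rw [Subgroup.zpowers_le]
      exact hy
    have h1 := hsc _ hleT φ hφ ⟨θ' y, Subgroup.mem_zpowers _⟩
    rw [hφx y (Subgroup.mem_zpowers _)] at h1
    exact h1
  have hfwd : ∀ x : R, (x : Ω) ∈ T → θ' x ∈ T := by
    intro x hx
    have hle : R ⊓ T ≤ R := inf_le_left
    exact hsc (R ⊓ T) inf_le_right _ (restrict_mem F hθ' hle) ⟨x, Subgroup.mem_inf.2 ⟨x.2, hx⟩⟩
  have h1 : ∀ x : θ'.range, (x : Ω) ∈ T → MulAut.congr e κ x = x := by
    intro x hx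
    obtain ⟨y, rfl⟩ := e.surjective x
    rw [hecoe] at hx
    have hyT : (y : Ω) ∈ T := hback y hx
    apply Subtype.ext
    rw [hξapply, ha y hyT, hecoe]
  have h2 : ∀ y : θ'.range, (y : Ω)⁻¹ * ((MulAut.congr e κ y : θ'.range) : Ω) ∈ T ∧
      ∀ x : θ'.range, (x : Ω) ∈ T →
        (y : Ω)⁻¹ * ((MulAut.congr e κ y : θ'.range) : Ω) * (x : Ω) =
          (x : Ω) * ((y : Ω)⁻¹ * ((MulAut.congr e κ y : θ'.range) : Ω)) := by
    intro y'
    obtain ⟨y, rfl⟩ := e.surjective y'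
    have hw := hb y
    have key : ((e y : θ'.range) : Ω)⁻¹ * ((MulAut.congr e κ (e y) : θ'.range) : Ω) =
        θ' (y⁻¹ * κ y) := by
      rw [hξapply, hecoe, map_mul, map_inv]
    rw [key]
    refine ⟨hfwd (y⁻¹ * κ y) (by
      rw [Subgroup.coe_mul, Subgroup.coe_inv]
      exact hw.1), ?_⟩
    intro x' hx'
    obtain ⟨x, rfl⟩ := e.surjective x'
    rw [hecoe] at hx' ⊢
    have hxT : (x : Ω) ∈ T := hback x hx'
    have h3 := hw.2 x hxT
    rw [← map_mul, ← map_mul]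
    congr 1
    apply Subtype.ext
    rw [Subgroup.coe_mul, Subgroup.coe_mul, Subgroup.coe_mul, Subgroup.coe_inv]
    exact h3
  obtain ⟨h, hhS, hh⟩ := Cfsg.Agent.Lib.Helper30.WNWSYL.main p hS F T ⟨hTS, hsc⟩ θ'.range hfa'
    (MulAut.congr e κ) hξ h1 h2
  refine ⟨h, hhS, fun y => ?_⟩
  have h4 := hh (e y)
  rw [hξapply, hecoe] at h4
  exact h4

theorem main : KConjS.{u} := by
  intro Ω _ S _ p _ hS F hF T hT R hR κ hκ ha hb
  classical
  obtain ⟨Q, ⟨θ, hθ, hθQ⟩, hfaQ, hrecQ⟩ := hF R hR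
  subst hθQ
  obtain ⟨χ₀, hχ₀, hχ₀r, ψ, hψ, hψR⟩ :=
    Cfsg.Agent.Lib.Helper87.FSSat.exists_extension_normalizer hS F hθ hfaQ hrecQ
  have hRN : R ≤ normalizerIn S R := fun x hx =>
    Subgroup.mem_inf.2 ⟨hR hx, Subgroup.le_normalizer hx⟩
  have hθ' : ψ.comp (Subgroup.inclusion hRN) ∈ F.Hom R := restrict_mem F hψ hRN
  have hθ'x : ∀ x : R, (ψ.comp (Subgroup.inclusion hRN)) x = χ₀ ⟨θ x, ⟨x, rfl⟩⟩ := by
    intro x
    exact hψR x (hRN x.2)
  have hrange : (ψ.comp (Subgroup.inclusion hRN)).range = θ.range := by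
    rw [← hχ₀r]
    ext y
    constructor
    · rintro ⟨x, rfl⟩
      exact ⟨⟨θ x, ⟨x, rfl⟩⟩, (hθ'x x).symm⟩
    · rintro ⟨⟨q, x, rfl⟩, rfl⟩
      exact ⟨x, hθ'x x⟩
  have hfa' : F.IsFullyAutomized p (ψ.comp (Subgroup.inclusion hRN)).range := by
    rw [hrange]
    exact hfaQ
  obtain ⟨h, hhS, hh⟩ := core p hS F T hT R κ hκ ha hb _ hθ' hfa'
  refine ⟨ψ, hψ, h, hhS, ?_⟩
  intro y hy hy'
  exact hh y

end Cfsg.Agent.Lib.Helper58.CEKCONJS
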