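import Mathlib
import Cfsg.Agent.Lib.Helper32.D8Stmt
import Cfsg.Agent.Lib.Helper58.D8LOCaa

/-!
# S3716 piece LOCzz (local pair sum of the `N`-class of `a * b` with itself)
-/

set_option autoImplicit false

namespace Cfsg.Agent.Lib.Helper58.D8LOCzz

open Cfsg
open Cfsg.Agent.Lib.Helper32
open Cfsg.Agent.Lib.Helper58.D8LOCaa

universe u

variable {G : Type u} [Group G] {T N : Subgroup G} {x y a b w : G}

theorem ab_eq_nf : a * b = nf x y a b w 0 0 1 1 0 := by simp [nf]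

/-- Conjugates of `a * b = nf 0 0 1 1 0` in normal form. -/
theorem conj_ab [Finite G] (hNF : D8Stmt.NF.{u}) (cfg : D8Stmt.Cfg T N x y a b w)
    (i j k l m : ℕ) :
    nf x y a b w i j k l m * nf x y a b w 0 0 1 1 0 * (nf x y a b w i j k l m)⁻¹ =
      nf x y a b w (2 * i) (2 * j) 1 1 0 := by
  rw [mul_inv_eq_iff_eq_mul]
  by_cases hm : m % 2 = 0
  · rw [nf_mul0 hNF cfg, nf_mul hNF cfg, if_pos hm]
    apply nf_eq cfg <;> (try split_ifs) <;> first | omega | contradiction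
  · rw [nf_mul0 hNF cfg, nf_mul hNF cfg, if_neg hm]
    apply nf_eq cfg <;> (try split_ifs) <;> first | omega | contradiction

/-- The enumeration of the `N`-class of `a * b`. -/
def Ez (x y a b w : G) : Fin 3 × Fin 3 → G :=
  fun p => nf x y a b w (p.1 : ℕ) (p.2 : ℕ) 1 1 0

theorem Ez_inj [Finite G] (hNF : D8Stmt.NF.{u}) (cfg : D8Stmt.Cfg T N x y a b w) :
    Function.Injective (Ez x y a b w) := by
  rintro ⟨i, j⟩ ⟨i', j'⟩ h
  have h1 := (nf_uniq hNF cfg h).1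
  have h2 := (nf_uniq hNF cfg h).2.1
  simp only at h1 h2
  refine Prod.ext (Fin.ext ?_) (Fin.ext ?_)
  · simp only
    omega
  · simp only
    omega

theorem ncl_ab [Fintype G] [DecidableEq G] (hNF : D8Stmt.NF.{u})
    (cfg : D8Stmt.Cfg T N x y a b w) :
    D8Stmt.ncl N (a * b) = Finset.univ.image (Ez x y a b w) := by
  ext v
  simp only [D8Stmt.ncl, Finset.mem_filter, Finset.mem_univ, true_and, Finset.mem_image]
  constructor
  · rintro ⟨n, hn, rfl⟩
    obtain ⟨i, j, k, l, m, rfl⟩ := (mem_N hNF cfg n).1 hn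
    have hc := conj_ab hNF cfg i j k l m
    rw [← ab_eq_nf] at hc
    rw [hc]
    refine ⟨(⟨2 * i % 3, Nat.mod_lt _ (by norm_num)⟩, ⟨2 * j % 3, Nat.mod_lt _ (by norm_num)⟩),
      ?_⟩
    apply nf_eq cfg <;> simp
  · rintro ⟨⟨i, j⟩, rfl⟩
    refine ⟨nf x y a b w (2 * i) (2 * j) 0 0 0, (mem_N hNF cfg _).2 ⟨_, _, _, _, _, rfl⟩, ?_⟩
    have hc := conj_ab hNF cfg (2 * i) (2 * j) 0 0 0
    rw [← ab_eq_nf] at hc
    rw [hc]
    apply nf_eq cfg <;> first | rfl | (simp only; omega)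

theorem main (hNF : D8Stmt.NF.{u}) : D8Stmt.LOCzz.{u} := by
  intro G _ _ T N x y a b w cfg f g hO
  classical
  have hω := om cfg f g hO
  have hinj := Ez_inj hNF cfg
  constructor
  · unfold D8Stmt.lsum
    rw [ncl_ab hNF cfg, Finset.sum_image (fun p _ q _ h => hinj h)]
    simp only [Finset.sum_image (fun p _ q _ h => hinj h)]
    simp only [Fintype.sum_prod_type, Ez, valP1 hNF cfg f g hO]
    simp [Fin.sum_univ_three]
    linear_combination
      (-9 * (1 + ((f ⟨x, x_mem⟩ : ℂˣ) : ℂ) ^ 2 + ((f ⟨x, x_mem⟩ : ℂˣ) : ℂ) ^ 4)) * hω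
  · unfold D8Stmt.lsum
    rw [ncl_ab hNF cfg, Finset.sum_image (fun p _ q _ h => hinj h)]
    simp only [Finset.sum_image (fun p _ q _ h => hinj h)]
    simp only [Fintype.sum_prod_type, Ez, valP2 hNF cfg f g hO]
    simp [Fin.sum_univ_three]
    linear_combination
      (-9 * (1 + ((f ⟨x, x_mem⟩ : ℂˣ) : ℂ) ^ 2 + ((f ⟨x, x_mem⟩ : ℂˣ) : ℂ) ^ 4)) * hω

end Cfsg.Agent.Lib.Helper58.D8LOCzz
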