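import Mathlib
import Cfsg.Agent.Lib.Helper31.ECStmt
import Cfsg.Agent.Lib.Helper47.Qs
import Cfsg.Agent.Lib.Helper21.Quasi

/-!
Piece QSB of S2860: `[K, Y] = K` for every nontrivial `p`-subgroup `Y`.
-/

set_option autoImplicit false
set_option linter.style.haveILetI false

namespace Cfsg.Agent.Lib.Helper58.ECQSB

open Cfsg Cfsg.Agent.Lib.Helper31.ECStmt

universe u

/-- A perfect subgroup equals its own commutator subgroup. -/
theorem commutator_self_of_perfect {X : Type*} [Group X] (K : Subgroup X)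
    (h : Group.IsPerfect ↥K) : ⁅K, K⁆ = K :=
  Subgroup.isPerfect_iff.mp h

theorem main : QSB.{u} := by
  intro hQSA X _ _ p _ K hcore hKn hq hpow Y hY hYne
  haveI : K.Normal := hKn
  have hperf : ⁅K, K⁆ = K := commutator_self_of_perfect K hq.1
  have hle : ⁅K, Y⁆ ≤ K := Subgroup.commutator_le_left K Y
  rcases Cfsg.Agent.Lib.Helper47.Qs.eq_or_le_centralizer hq hle
      (Cfsg.Agent.Lib.Helper47.Qs.le_normalizer_commutator K Y) with h | h
  · exact h
  · exfalso
    have hYC : Y ≤ Subgroup.centralizer (K : Set X) := by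
      apply Cfsg.Agent.Lib.Helper47.Qs.le_centralizer_of_commutator_le hperf
      rw [Subgroup.commutator_comm]; exact h
    obtain ⟨y, hy, hy1⟩ : ∃ y ∈ Y, y ≠ 1 := by
      by_contra hcon
      push Not at hcon
      exact hYne ((Subgroup.eq_bot_iff_forall Y).mpr hcon)
    obtain ⟨n, hn⟩ := hY ⟨y, hy⟩
    have hn' : y ^ p ^ n = 1 := by
      have := congrArg Subtype.val hn
      simpa using this
    have hKC : K ≤ Subgroup.centralizer (K : Set X) :=
      hQSA X p K hcore hKn hq hpow (Subgroup.centralizer (K : Set X)) inferInstance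
        ⟨y, hYC hy, hy1, n, hn'⟩
    have hbot : ⁅K, K⁆ = ⊥ := Subgroup.commutator_eq_bot_iff_le_centralizer.mpr hKC
    rw [hperf] at hbot
    haveI := Cfsg.Agent.Lib.Helper21.Quasi.nontrivial hq
    obtain ⟨k, hk⟩ := exists_ne (1 : ↥K)
    apply hk
    apply Subtype.ext
    have : (k : X) ∈ (⊥ : Subgroup X) := by rw [← hbot]; exact k.2
    exact Subgroup.mem_bot.mp this

end Cfsg.Agent.Lib.Helper58.ECQSB
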