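import Mathlib
import Cfsg.Agent.Lib.Helper3.M24BlkStmt
import Cfsg.Agent.Lib.Helper3.M24BlkData

/-!
# S5006 / I57: `r5` and `r7` commute with involutions of `M24`.
-/

set_option autoImplicit false
set_option maxRecDepth 100000

namespace Cfsg.Agent.Lib.Helper58.M24I57

open Cfsg Cfsg.Agent.Lib.Helper7.GolayBase Cfsg.Agent.Lib.Helper7.GolayPerm
  Cfsg.Agent.Lib.Helper3.M24Blk Cfsg.Agent.Lib.Helper3.M24BlkData
  Cfsg.Agent.Lib.Helper35.PermTab

/-- The involution commuting with `r5`. -/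
def u5 : G24 := mkG u5T u5T (by decide +kernel) (by decide +kernel)

/-- The involution commuting with `r7`. -/
def u7 : G24 := mkG u7T u7T (by decide +kernel) (by decide +kernel)

theorem eq_of_tab {a b : G24}
    (h : tab (a : Equiv.Perm GolayPt) = tab (b : Equiv.Perm GolayPt)) : a = b :=
  Subtype.ext (tab_injective h)

theorem tab_u5 : tab (u5 : Equiv.Perm GolayPt) = u5T := tab_mkG _ _ _ _
theorem tab_u7 : tab (u7 : Equiv.Perm GolayPt) = u7T := tab_mkG _ _ _ _
theorem tab_r15 : tab (r15 : Equiv.Perm GolayPt) = r15T := tab_mkG _ _ _ _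
theorem tab_r21 : tab (r21 : Equiv.Perm GolayPt) = r21T := tab_mkG _ _ _ _

theorem coe_r5 : (r5 : Equiv.Perm GolayPt) =
    (r15 : Equiv.Perm GolayPt) * (r15 : Equiv.Perm GolayPt) * (r15 : Equiv.Perm GolayPt) := by
  have h : r5 = r15 * r15 * r15 := by
    show r15 ^ 3 = _
    rw [pow_succ, pow_succ, pow_one]
  rw [h]; rfl

theorem coe_r7 : (r7 : Equiv.Perm GolayPt) =
    (r21 : Equiv.Perm GolayPt) * (r21 : Equiv.Perm GolayPt) * (r21 : Equiv.Perm GolayPt) := by
  have h : r7 = r21 * r21 * r21 := by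
    show r21 ^ 3 = _
    rw [pow_succ, pow_succ, pow_one]
  rw [h]; rfl

theorem tab_r5 : tab (r5 : Equiv.Perm GolayPt) = tmul (tmul r15T r15T) r15T := by
  rw [coe_r5, tab_mul, tab_mul, tab_r15]

theorem tab_r7 : tab (r7 : Equiv.Perm GolayPt) = tmul (tmul r21T r21T) r21T := by
  rw [coe_r7, tab_mul, tab_mul, tab_r21]

theorem order_two {u : G24} {T : List Nat} (hT : tab (u : Equiv.Perm GolayPt) = T)
    (h1 : tmul T T = idT) (h2 : T ≠ idT) : orderOf u = 2 := by
  apply orderOf_eq_prime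
  · rw [pow_two]
    apply eq_of_tab
    show tab ((u : Equiv.Perm GolayPt) * (u : Equiv.Perm GolayPt)) = tab (1 : Equiv.Perm GolayPt)
    rw [tab_mul, hT, h1, tab_one]
  · intro h
    apply h2
    rw [← hT, h]
    exact tab_one

theorem main : Cfsg.Agent.Lib.Helper3.M24BlkStmt.I57Stmt := by
  refine ⟨⟨u5, order_two tab_u5 (by decide +kernel) (by decide +kernel), ?_⟩,
    ⟨u7, order_two tab_u7 (by decide +kernel) (by decide +kernel), ?_⟩⟩
  · apply eq_of_tab
    show tab ((u5 : Equiv.Perm GolayPt) * (r5 : Equiv.Perm GolayPt)) =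
      tab ((r5 : Equiv.Perm GolayPt) * (u5 : Equiv.Perm GolayPt))
    rw [tab_mul, tab_mul, tab_u5, tab_r5]
    decide +kernel
  · apply eq_of_tab
    show tab ((u7 : Equiv.Perm GolayPt) * (r7 : Equiv.Perm GolayPt)) =
      tab ((r7 : Equiv.Perm GolayPt) * (u7 : Equiv.Perm GolayPt))
    rw [tab_mul, tab_mul, tab_u7, tab_r7]
    decide +kernel

end Cfsg.Agent.Lib.Helper58.M24I57
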