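import Cfsg.Agent.Lib.Helper68.M11UStmt

/-!
# S0420 / REGQ : a group of order 8 acting freely on the non-trivial elements of a group of
order 9 is transitive on them.
-/

set_option autoImplicit false
set_option linter.style.haveILetI false

namespace Cfsg.Agent.Lib.Helper58.MUREGQ

universe u

open Cfsg Cfsg.Agent.Lib.Helper68.M11UStmt

theorem card_ne_one {P : Type u} [Group P] [Finite P] :
    Nat.card {y : P // y ≠ 1} = Nat.card P - 1 := by
  classical
  haveI := Fintype.ofFinite P
  rw [Nat.card_eq_fintype_card, Nat.card_eq_fintype_card]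
  have h := Fintype.card_subtype_compl (fun y : P => y = 1)
  rw [Fintype.card_subtype_eq] at h
  exact h

theorem main : Cfsg.Agent.Lib.Helper68.M11UStmt.RegQ.{u} := by
  intro G _ _ P Q hP hQ hN hfree x hx x' hx' hx1 hx'1
  have hconj1 : ∀ q : G, q * x * q⁻¹ ≠ 1 := by
    intro q h
    apply hx1
    have h0 : x = q⁻¹ * (q * x * q⁻¹) * q := by group
    rw [h0, h]
    group
  let f : Q → {y : P // y ≠ 1} := fun q =>
    ⟨⟨(q : G) * x * (q : G)⁻¹, hN q q.2 x hx⟩, fun h => hconj1 q (congrArg Subtype.val h)⟩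
  have hinj : Function.Injective f := by
    intro q q' h
    have h1 : (q : G) * x * (q : G)⁻¹ = (q' : G) * x * (q' : G)⁻¹ :=
      congrArg (fun y : {y : P // y ≠ 1} => ((y : P) : G)) h
    by_contra hne
    have h2 : ((q' : G)⁻¹ * (q : G)) ≠ 1 := by
      intro h3
      apply hne
      apply Subtype.ext
      have h4 := congrArg (fun z => (q' : G) * z) h3
      simpa using h4
    have h3 : ((q' : G)⁻¹ * (q : G)) * x = x * ((q' : G)⁻¹ * (q : G)) := by
      calc ((q' : G)⁻¹ * (q : G)) * x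
          = (q' : G)⁻¹ * ((q : G) * x * (q : G)⁻¹) * (q : G) := by group
        _ = (q' : G)⁻¹ * ((q' : G) * x * (q' : G)⁻¹) * (q : G) := by rw [h1]
        _ = x * ((q' : G)⁻¹ * (q : G)) := by group
    exact hx1 (hfree _ (Q.mul_mem (Q.inv_mem q'.2) q.2) h2 x hx h3)
  have hcard : Nat.card Q = Nat.card {y : P // y ≠ 1} := by
    rw [hQ, card_ne_one, hP]
  have hbij : Function.Bijective f := (Nat.bijective_iff_injective_and_card f).mpr ⟨hinj, hcard⟩
  obtain ⟨q, hq⟩ := hbij.2 ⟨⟨x', hx'⟩, fun h => hx'1 (congrArg Subtype.val h)⟩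
  exact ⟨q, q.2, congrArg (fun y : {y : P // y ≠ 1} => ((y : P) : G)) hq⟩

end Cfsg.Agent.Lib.Helper58.MUREGQ
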