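import Cfsg.Agent.Lib.Helper68.M11UStmt

/-!
# S0420 / SHARP4 : a group of order 7920 on 11 points whose non-trivial elements fix at most
three points is sharply 4-transitive.
-/

set_option autoImplicit false

namespace Cfsg.Agent.Lib.Helper58.MUSHARP4

universe u

open Cfsg Cfsg.Agent.Lib.Helper68.M11UStmt

theorem main : Cfsg.Agent.Lib.Helper68.M11UStmt.Sharp4.{u} := by
  classical
  intro G _ _ Ω _ _ hG hΩ hfix p p' hp hp'
  have hfour : ∀ h : G, (∀ i, h • p i = p i) → h = 1 := by
    intro h hh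
    by_contra hne
    have h3 := hfix h hne
    have hinj : Function.Injective (fun i : Fin 4 => (⟨p i, hh i⟩ : MulAction.fixedBy Ω h)) := by
      intro i j hij
      exact hp (congrArg Subtype.val hij)
    have h4 : Nat.card (Fin 4) ≤ Nat.card (MulAction.fixedBy Ω h) :=
      Nat.card_le_card_of_injective _ hinj
    rw [Nat.card_eq_fintype_card, Fintype.card_fin] at h4
    exact absurd (le_trans h4 h3) (by norm_num)
  let Φ : G → (Fin 4 ↪ Ω) := fun g => ⟨fun i => g • p i, (MulAction.injective g).comp hp⟩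
  have hΦinj : Function.Injective Φ := by
    intro g g' h
    have h1 : ∀ i, g • p i = g' • p i := fun i => congrFun (congrArg (fun e : Fin 4 ↪ Ω => ⇑e) h) i
    have h2 : g'⁻¹ * g = 1 := by
      apply hfour
      intro i
      rw [mul_smul, h1 i, inv_smul_smul]
    calc g = g' * (g'⁻¹ * g) := by group
      _ = g' := by rw [h2, mul_one]
  have hcard : Nat.card G = Nat.card (Fin 4 ↪ Ω) := by
    rw [hG, Nat.card_eq_fintype_card, Fintype.card_embedding_eq, hΩ, Fintype.card_fin]
    rfl
  have hbij : Function.Bijective Φ := (Nat.bijective_iff_injective_and_card Φ).mpr ⟨hΦinj, hcard⟩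
  obtain ⟨g, hg⟩ := hbij.2 ⟨p', hp'⟩
  have hg' : ∀ i, g • p i = p' i := fun i => congrFun (congrArg (fun e : Fin 4 ↪ Ω => ⇑e) hg) i
  refine ⟨g, hg', ?_⟩
  intro g' hg2
  apply hΦinj
  apply Function.Embedding.ext
  intro i
  show g' • p i = g • p i
  rw [hg2 i, hg' i]

end Cfsg.Agent.Lib.Helper58.MUSHARP4
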