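import Cfsg.Agent.Lib.Helper68.M11UStmt

/-!
# S0420 / STEINER : the blocks `s ∪ {e s}` form a `G`-invariant Steiner system `S(4, 5, 11)`.
-/

set_option autoImplicit false

namespace Cfsg.Agent.Lib.Helper58.MUSTEINER

universe u

open Cfsg Cfsg.Agent.Lib.Helper68.M11UStmt

theorem main : Cfsg.Agent.Lib.Helper68.M11UStmt.SteinerOfThird.{u} := by
  intro G _ Ω _ _ _ e he1 he2 he3
  refine ⟨{b | ∃ s : Finset Ω, s.card = 4 ∧ b = insert (e s) s}, ⟨?_, ?_⟩, ?_⟩
  · rintro b ⟨s, hs, rfl⟩
    rw [Finset.card_insert_of_notMem (he1 s hs), hs]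
  · intro s hs
    refine ⟨insert (e s) s, ⟨⟨s, hs, rfl⟩, Finset.subset_insert _ _⟩, ?_⟩
    rintro b' ⟨⟨s', hs', rfl⟩, hsub⟩
    have hcard5 : (insert (e s') s').card = 5 := by
      rw [Finset.card_insert_of_notMem (he1 s' hs'), hs']
    have hsd : (insert (e s') s' \ s).card = 1 := by
      rw [Finset.card_sdiff_of_subset hsub, hcard5, hs]
    obtain ⟨d₀, hd₀⟩ := Finset.card_eq_one.mp hsd
    have hd₀mem : d₀ ∈ insert (e s') s' \ s := by rw [hd₀]; exact Finset.mem_singleton_self _
    rw [Finset.mem_sdiff] at hd₀mem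
    have hb' : insert (e s') s' = insert d₀ s := by
      have h1 : insert (e s') s' = (insert (e s') s' \ s) ∪ s :=
        (Finset.sdiff_union_of_subset hsub).symm
      rw [h1, hd₀]
      exact (Finset.insert_eq d₀ s).symm
    have hs_eq : s = (insert (e s') s').erase d₀ := by
      rw [hb', Finset.erase_insert hd₀mem.2]
    by_cases hcase : d₀ = e s'
    · have hss' : s = s' := by
        rw [hs_eq, hcase, Finset.erase_insert (he1 s' hs')]
      rw [hss']
    · have hd₀s' : d₀ ∈ s' := by
        rcases Finset.mem_insert.mp hd₀mem.1 with h | h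
        · exact absurd h hcase
        · exact h
      have hs_eq2 : s = insert (e s') (s'.erase d₀) := by
        rw [hs_eq, Finset.erase_insert_of_ne (fun h => hcase h.symm)]
      have hes : e s = d₀ := by
        rw [hs_eq2]
        exact he2 s' hs' d₀ hd₀s'
      rw [hb', hes]
  · rintro g b ⟨s, hs, rfl⟩
    refine ⟨s.image (fun x => g • x), ?_, ?_⟩
    · rw [Finset.card_image_of_injective _ (MulAction.injective g), hs]
    · rw [Finset.image_insert, he3 g s hs]

end Cfsg.Agent.Lib.Helper58.MUSTEINER
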