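import Mathlib
import Cfsg.Agent.Lib.Helper44.PGStmt
import Cfsg.Agent.Lib.Helper42.SpOrdC

/-!
# S2474 piece SPSUM: block sum of two symplectic matrices, padded with the identity
-/

set_option autoImplicit false

namespace Cfsg.Agent.Lib.Helper58.PGSPSUM

open Matrix
open Cfsg.Agent.Lib.Helper42.SpOrdC

universe u

theorem main : Cfsg.Agent.Lib.Helper44.PGStmt.SpSum.{u} := by
  intro F _ a b n hn X₁ X₂
  obtain ⟨d, rfl⟩ := Nat.exists_eq_add_of_le hn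
  have hmem : blk (blk (X₁ : Matrix (Fin a ⊕ Fin a) (Fin a ⊕ Fin a) F)
      (X₂ : Matrix (Fin b ⊕ Fin b) (Fin b ⊕ Fin b) F))
      (1 : Matrix (Fin d ⊕ Fin d) (Fin d ⊕ Fin d) F) ∈
      Matrix.symplecticGroup (Fin (a + b + d)) F :=
    blk_mem _ _ (blk_mem _ _ X₁.2 X₂.2) (one_mem _)
  have hpow : ∀ j : ℕ, blk (blk (X₁ : Matrix (Fin a ⊕ Fin a) (Fin a ⊕ Fin a) F)
      (X₂ : Matrix (Fin b ⊕ Fin b) (Fin b ⊕ Fin b) F))
      (1 : Matrix (Fin d ⊕ Fin d) (Fin d ⊕ Fin d) F) ^ j =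
      blk (blk ((X₁ : Matrix (Fin a ⊕ Fin a) (Fin a ⊕ Fin a) F) ^ j)
      ((X₂ : Matrix (Fin b ⊕ Fin b) (Fin b ⊕ Fin b) F) ^ j))
      (1 : Matrix (Fin d ⊕ Fin d) (Fin d ⊕ Fin d) F) := by
    intro j
    rw [blk_pow, blk_pow, one_pow]
  have hsm : ∀ (j : ℕ) (c : F), blk (blk (X₁ : Matrix (Fin a ⊕ Fin a) (Fin a ⊕ Fin a) F)
      (X₂ : Matrix (Fin b ⊕ Fin b) (Fin b ⊕ Fin b) F))
      (1 : Matrix (Fin d ⊕ Fin d) (Fin d ⊕ Fin d) F) ^ j = c • 1 →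
      (X₁ : Matrix (Fin a ⊕ Fin a) (Fin a ⊕ Fin a) F) ^ j = c • 1 ∧
      (X₂ : Matrix (Fin b ⊕ Fin b) (Fin b ⊕ Fin b) F) ^ j = c • 1 := by
    intro j c h
    rw [hpow] at h
    have e1 : (c • 1 : Matrix (Fin (a + b + d) ⊕ Fin (a + b + d))
        (Fin (a + b + d) ⊕ Fin (a + b + d)) F)
        = blk (c • (1 : Matrix (Fin (a + b) ⊕ Fin (a + b)) (Fin (a + b) ⊕ Fin (a + b)) F))
          (c • (1 : Matrix (Fin d ⊕ Fin d) (Fin d ⊕ Fin d) F)) := by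
      rw [blk_smul, blk_one]
    rw [e1] at h
    have h2 := (blk_inj _ _ _ _ h).1
    have e2 : (c • 1 : Matrix (Fin (a + b) ⊕ Fin (a + b)) (Fin (a + b) ⊕ Fin (a + b)) F)
        = blk (c • (1 : Matrix (Fin a ⊕ Fin a) (Fin a ⊕ Fin a) F))
          (c • (1 : Matrix (Fin b ⊕ Fin b) (Fin b ⊕ Fin b) F)) := by
      rw [blk_smul, blk_one]
    rw [e2] at h2
    exact blk_inj _ _ _ _ h2
  refine ⟨⟨_, hmem⟩, ?_, ?_⟩
  · intro j
    rw [sp_pow_eq_one_iff, sp_pow_eq_one_iff X₁, sp_pow_eq_one_iff X₂]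
    show blk (blk (X₁ : Matrix (Fin a ⊕ Fin a) (Fin a ⊕ Fin a) F)
      (X₂ : Matrix (Fin b ⊕ Fin b) (Fin b ⊕ Fin b) F))
      (1 : Matrix (Fin d ⊕ Fin d) (Fin d ⊕ Fin d) F) ^ j = 1 ↔ _
    constructor
    · intro h
      have h1 := hsm j 1 (by rw [h, one_smul])
      simpa using h1
    · rintro ⟨h1, h2⟩
      rw [hpow, h1, h2, blk_one, blk_one]
  · intro j c h
    exact hsm j c h

end Cfsg.Agent.Lib.Helper58.PGSPSUM
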