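import Mathlib
import Cfsg.Agent.Lib.Helper44.PGStmt
import Cfsg.Agent.Lib.Helper40.SSConj

/-!
# S2474 piece SQFU: a matrix of `p`-power order commuting with `T` is trivial when the
characteristic polynomial of `T` is squarefree.

Route: a vector `v` whose annihilator is generated by the characteristic polynomial (grown from
`0` by adding kernel vectors of the missing irreducible factors); it is cyclic by a dimension
count, so `U - 1 = h(T)`; `(U - 1) ^ p = 0` gives `charpoly ∣ h ^ p`, hence `charpoly ∣ h`.
-/

set_option autoImplicit false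

namespace Cfsg.Agent.Lib.Helper58.PGSQFU

open Matrix Polynomial

universe u

section
variable {F : Type u} [Field F] {κ : Type} [Fintype κ] [DecidableEq κ]

theorem exists_ker (T : Matrix κ κ F) (f : F[X]) (hf : Irreducible f) (hd : f ∣ T.charpoly) :
    ∃ w : κ → F, w ≠ 0 ∧ (aeval T f) *ᵥ w = 0 := by
  obtain ⟨v, hv, hPv⟩ := Cfsg.Agent.Lib.Helper40.SSConj.exists_ker_of_dvd_charpoly
    (Matrix.toLin' T) f hf (by rw [Matrix.charpoly_toLin']; exact hd)
  refine ⟨v, hv, ?_⟩
  have h := Polynomial.aeval_algHom_apply
      (Matrix.toLinAlgEquiv' (R := F) (n := κ)).toAlgHom T f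
  have h2 : aeval (Matrix.toLin' T) f = Matrix.toLin' (aeval T f) := h
  rw [h2, Matrix.toLin'_apply] at hPv
  exact hPv

theorem comm_aeval (T D : Matrix κ κ F) (h : D * T = T * D) (g : F[X]) :
    D * aeval T g = aeval T g * D := by
  induction g using Polynomial.induction_on' with
  | add p q hp hq => rw [map_add, mul_add, add_mul, hp, hq]
  | monomial n a =>
    rw [Polynomial.aeval_monomial]
    have hc : Commute D (T ^ n) := Commute.pow_right h n
    exact (Commute.mul_right (Algebra.commute_algebraMap_right a D) hc).eq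

theorem exists_vec (T : Matrix κ κ F) (hsq : Squarefree T.charpoly) :
    ∃ v : κ → F, ∀ g : F[X], (aeval T g) *ᵥ v = 0 → T.charpoly ∣ g := by
  have hχ0 : T.charpoly ≠ 0 := (Matrix.charpoly_monic T).ne_zero
  have key : ∀ n : ℕ, ∀ (v : κ → F) (m : F[X]),
      (∀ g : F[X], (aeval T g) *ᵥ v = 0 ↔ m ∣ g) →
      T.charpoly.natDegree ≤ m.natDegree + n →
      ∃ v' : κ → F, ∀ g : F[X], (aeval T g) *ᵥ v' = 0 → T.charpoly ∣ g := by
    intro n
    induction n with
    | zero =>
      intro v m hm hdeg
      have hmχ : m ∣ T.charpoly :=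
        (hm _).1 (by rw [Matrix.aeval_self_charpoly, Matrix.zero_mulVec])
      have hass : Associated m T.charpoly :=
        Polynomial.associated_of_dvd_of_natDegree_le hmχ hχ0 (by simpa using hdeg)
      exact ⟨v, fun g hg => hass.symm.dvd.trans ((hm g).1 hg)⟩
    | succ n ih =>
      intro v m hm hdeg
      have hmχ : m ∣ T.charpoly :=
        (hm _).1 (by rw [Matrix.aeval_self_charpoly, Matrix.zero_mulVec])
      by_cases hχm : T.charpoly ∣ m
      · exact ⟨v, fun g hg => hχm.trans ((hm g).1 hg)⟩
      · obtain ⟨c, hc⟩ := hmχ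
        have hc0 : c ≠ 0 := by
          rintro rfl
          rw [mul_zero] at hc
          exact hχ0 hc
        have hm0 : m ≠ 0 := by
          rintro rfl
          rw [zero_mul] at hc
          exact hχ0 hc
        have hcu : ¬ IsUnit c := by
          intro hu
          apply hχm
          rw [hc]
          exact (hu.mul_right_dvd).2 dvd_rfl
        obtain ⟨f, hf, hfc⟩ := WfDvdMonoid.exists_irreducible_factor hcu hc0
        have hfχ : f ∣ T.charpoly := by
          rw [hc]
          exact hfc.mul_left m
        obtain ⟨w, hw0, hw⟩ := exists_ker T f hf hfχ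
        have hfm : ¬ f ∣ m := by
          intro hfm
          have h1 : f * f ∣ T.charpoly := by
            rw [hc]
            exact mul_dvd_mul hfm hfc
          exact hf.not_isUnit (hsq f h1)
        have hcop : IsCoprime f m := (Irreducible.coprime_iff_not_dvd hf).2 hfm
        apply ih (v + w) (m * f)
        · intro g
          constructor
          · intro hg
            have h1 : (aeval T g) *ᵥ v = - ((aeval T g) *ᵥ w) := by
              rw [Matrix.mulVec_add] at hg
              exact eq_neg_of_add_eq_zero_left hg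
            have h2 : (aeval T (f * g)) *ᵥ v = 0 := by
              have e1 : aeval T f * aeval T g = aeval T g * aeval T f := by
                rw [← map_mul, ← map_mul, mul_comm]
              rw [map_mul, ← Matrix.mulVec_mulVec, h1, Matrix.mulVec_neg, Matrix.mulVec_mulVec,
                e1, ← Matrix.mulVec_mulVec, hw, Matrix.mulVec_zero, neg_zero]
            have h3 : m ∣ g := hcop.symm.dvd_of_dvd_mul_left ((hm _).1 h2)
            have h4 : (aeval T g) *ᵥ v = 0 := (hm g).2 h3
            have h5 : (aeval T g) *ᵥ w = 0 := by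
              rw [h4] at h1
              exact neg_eq_zero.1 h1.symm
            have h6 : f ∣ g := by
              by_contra hfg
              obtain ⟨a, b, hab⟩ := (Irreducible.coprime_iff_not_dvd hf).2 hfg
              apply hw0
              have h7 : (aeval T (a * f + b * g)) *ᵥ w = w := by
                rw [hab]
                simp
              rw [map_add, map_mul, map_mul, Matrix.add_mulVec, ← Matrix.mulVec_mulVec,
                ← Matrix.mulVec_mulVec, hw, h5, Matrix.mulVec_zero, Matrix.mulVec_zero,
                add_zero] at h7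
              exact h7.symm
            exact hcop.symm.mul_dvd h3 h6
          · rintro ⟨k, rfl⟩
            rw [Matrix.mulVec_add]
            have e1 : (aeval T (m * f * k)) *ᵥ v = 0 := (hm _).2 ⟨f * k, by ring⟩
            have e2 : (aeval T (m * f * k)) *ᵥ w = 0 := by
              have e3 : m * f * k = (m * k) * f := by ring
              rw [e3, map_mul, ← Matrix.mulVec_mulVec, hw, Matrix.mulVec_zero]
            rw [e1, e2, add_zero]
        · rw [Polynomial.natDegree_mul hm0 hf.ne_zero]
          have h8 := hf.natDegree_pos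
          omega
  exact key T.charpoly.natDegree 0 1 (fun g => by simp) (by simp)

theorem exists_poly (T : Matrix κ κ F) (v : κ → F)
    (hv : ∀ g : F[X], (aeval T g) *ᵥ v = 0 → T.charpoly ∣ g) (u : κ → F) :
    ∃ g : F[X], (aeval T g) *ᵥ v = u := by
  obtain ⟨n, hn⟩ : ∃ n : ℕ, n = Fintype.card κ := ⟨_, rfl⟩
  let ψ : (Polynomial.degreeLT F n) →ₗ[F] (κ → F) :=
    { toFun := fun g => (aeval T (g : F[X])) *ᵥ v
      map_add' := by
        intro a b
        simp [Matrix.add_mulVec]
      map_smul' := by
        intro c a
        simp [Matrix.smul_mulVec] }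
  have hinj : Function.Injective ψ := by
    rw [← LinearMap.ker_eq_bot, LinearMap.ker_eq_bot']
    intro g hg
    have h1 : T.charpoly ∣ (g : F[X]) := hv _ hg
    have h2 : (g : F[X]).degree < n := Polynomial.mem_degreeLT.1 g.2
    by_contra hne
    have hne' : (g : F[X]) ≠ 0 := fun h => hne (Subtype.ext h)
    have h3 := Polynomial.degree_le_of_dvd h1 hne'
    rw [Matrix.charpoly_degree_eq_dim, ← hn] at h3
    exact absurd (lt_of_le_of_lt h3 h2) (lt_irrefl _)
  let ψ' : (Fin n → F) →ₗ[F] (κ → F) := ψ ∘ₗ (Polynomial.degreeLTEquiv F n).symm.toLinearMap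
  have hinj' : Function.Injective ψ' := hinj.comp (Polynomial.degreeLTEquiv F n).symm.injective
  have hfr : Module.finrank F (Fin n → F) = Module.finrank F (κ → F) := by
    rw [Module.finrank_fin_fun, Module.finrank_fintype_fun_eq_card, hn]
  have hsurj' : Function.Surjective ψ' :=
    (LinearMap.injective_iff_surjective_of_finrank_eq_finrank hfr).1 hinj'
  obtain ⟨x, hx⟩ := hsurj' u
  exact ⟨(((Polynomial.degreeLTEquiv F n).symm x : Polynomial.degreeLT F n) : F[X]), hx⟩

end

theorem main : Cfsg.Agent.Lib.Helper44.PGStmt.SqfreeUnip.{u} := by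
  intro F _ p _ _ κ _ _ T U hsq hcomm hU
  rcases isEmpty_or_nonempty κ with hκ | hκ
  · exact Subsingleton.elim _ _
  have hc : Commute U (1 : Matrix κ κ F) := Commute.one_right U
  have hDp : (U - 1) ^ p = 0 := by
    rw [sub_pow_char_of_commute p hc, hU, one_pow, sub_self]
  have hDT : (U - 1) * T = T * (U - 1) := by
    rw [sub_mul, mul_sub, hcomm, one_mul, mul_one]
  obtain ⟨v, hv⟩ := exists_vec T hsq
  have hsurj := exists_poly T v hv
  obtain ⟨h, hh⟩ := hsurj ((U - 1) *ᵥ v)
  have hD : U - 1 = aeval T h := by
    apply Matrix.toLin'.injective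
    apply LinearMap.ext
    intro u
    obtain ⟨g, rfl⟩ := hsurj u
    have e1 : aeval T g * aeval T h = aeval T h * aeval T g := by
      rw [← map_mul, ← map_mul, mul_comm]
    rw [Matrix.toLin'_apply, Matrix.toLin'_apply, Matrix.mulVec_mulVec,
      comm_aeval T (U - 1) hDT g, ← Matrix.mulVec_mulVec, ← hh, Matrix.mulVec_mulVec,
      Matrix.mulVec_mulVec, e1]
  have h1 : (aeval T (h ^ p)) *ᵥ v = 0 := by
    rw [map_pow, ← hD, hDp, Matrix.zero_mulVec]
  have h2 : T.charpoly ∣ h :=
    (hsq.dvd_pow_iff_dvd (Fact.out : p.Prime).ne_zero).1 (hv _ h1)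
  have h3 : aeval T h = 0 := by
    obtain ⟨k, rfl⟩ := h2
    rw [map_mul, Matrix.aeval_self_charpoly, zero_mul]
  rw [h3] at hD
  exact sub_eq_zero.1 hD

end Cfsg.Agent.Lib.Helper58.PGSQFU
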