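import Mathlib
import Cfsg.Agent.Lib.Helper85.PPStmt
import Cfsg.Agent.S5077

/-!
Piece SAT of S5113: the system `E` over `T` (index `p`) is saturated.
-/

set_option autoImplicit false
set_option linter.style.haveILetI false

namespace Cfsg.Agent.Lib.Helper58.PPSAT

open Cfsg Cfsg.FusionSystem Cfsg.Agent.Lib.Helper85.PPStmt

universe u v

theorem main (hFA : SatFA.{u, v}) (hRec : SatRec.{u, v}) (hFN : FNConj.{u}) (hKD : KeyDec.{u})
    (hSH : StarHyp.{u}) : SatMain.{u, v} := by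
  intro Ω _ S _ p _ hS F hF A _ δ T hDD hprime hrig E hE P hPT
  have hTS : T ≤ S := hDD.le
  have hPS : P ≤ S := hPT.trans hTS
  obtain ⟨Q0, ⟨χ, hχ, hχr⟩, hQ0⟩ := Cfsg.Agent.S5077.exists_fullyNormalized F hPS
  obtain ⟨s, ψ, hψ, hχψ⟩ := hKD Ω S p hS F hF P χ hχ
  have hQT : ψ.range ≤ T := by
    rintro _ ⟨x, rfl⟩
    have h1 : (x : Ω)⁻¹ * ψ x ∈ T := hDD.hyp (hSH Ω S F p P ψ hψ x)
    have h2 : (x : Ω) * ((x : Ω)⁻¹ * ψ x) ∈ T := T.mul_mem (hPT x.2) h1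
    simpa using h2
  have hQfn : F.IsFullyNormalized ψ.range := by
    refine hFN Ω S F Q0 ψ.range (s : Ω)⁻¹ (S.inv_mem s.2) hQ0 (fun x => ?_)
    rw [inv_inv, ← hχr]
    constructor
    · rintro ⟨y, rfl⟩
      exact ⟨y, hχψ y⟩
    · rintro ⟨y, hy⟩
      refine ⟨y, ?_⟩
      have h1 := hχψ y
      rw [hy] at h1
      have h2 : (s : Ω)⁻¹ * ((s : Ω) * x * (s : Ω)⁻¹) * (s : Ω) =
          (s : Ω)⁻¹ * ((s : Ω) * ψ y * (s : Ω)⁻¹) * (s : Ω) := by rw [h1]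
      have h3 : x = ψ y := by
        have e1 : (s : Ω)⁻¹ * ((s : Ω) * x * (s : Ω)⁻¹) * (s : Ω) = x := by group
        have e2 : (s : Ω)⁻¹ * ((s : Ω) * ψ y * (s : Ω)⁻¹) * (s : Ω) = ψ y := by group
        rw [e1, e2] at h2
        exact h2
      exact h3.symm
  have hψE : ψ ∈ E.Hom P := by
    rw [hE P ψ]
    refine ⟨hPT, 1, T.one_mem, ψ, hψ, fun x => ?_⟩
    simp
  refine ⟨ψ.range, ⟨ψ, hψE, rfl⟩, ?_, ?_⟩
  · exact hFA Ω S p hS F hF A δ T hDD hprime hrig E hE ψ.range hQT hQfn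
  · exact hRec Ω S p hS F hF A δ T hDD hprime hrig E hE ψ.range hQT hQfn

end Cfsg.Agent.Lib.Helper58.PPSAT
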