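import Mathlib
import Cfsg.Agent.Lib.Helper78.PRQDefs
import Cfsg.Agent.Lib.Helper78.PRQC1
import Cfsg.Agent.Lib.Helper1.PRQSylow
import Cfsg.Agent.Lib.Helper82.PRQPkg
import Cfsg.Agent.Lib.Helper82.PRQThree
import Cfsg.Agent.Lib.CT.PairCount
import Cfsg.Agent.Lib.CT.Kernel
import Cfsg.Agent.Lib.CT.Ops
import Cfsg.Agent.Lib.CT.Wedderburn
import Cfsg.Agent.Lib.CT.NormOne
import Cfsg.Agent.Lib.Helper81.Basic
import Cfsg.Agent.Lib.Helper81.Expand

/-!
# S0998, piece FIVE: a simple group of order `15 * 2 ^ b` has `b ≤ 2`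
-/

set_option autoImplicit false
set_option linter.unusedSectionVars false
set_option linter.style.haveILetI false

namespace Cfsg.Agent.Lib.Helper58.PRQFive

open Cfsg Cfsg.Agent.Lib.Helper78.PRQDefs
open Cfsg.Agent.Lib.CT

open scoped ComplexConjugate

universe u

variable {G : Type u} [Group G] [Finite G]

/-- The sum of a character over a subgroup is a natural multiple of the order. -/
theorem sum_subgroup_nat (H : Subgroup G) [Fintype H] {Φ : G → ℂ} (hΦ : IsCharacter G Φ) :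
    ∃ n : ℕ, ∑ x : H, Φ (x : G) = (Nat.card H : ℂ) * (n : ℂ) :=
  PairCount.char_sum_subgroup hΦ H

/-- Nontrivial irreducible characters of a simple group are faithful. -/
theorem eq_one_of_apply_eq [IsSimpleGroup G] (χ : IrrCharacter G)
    (hχ : ¬ ∀ g : G, (χ : G → ℂ) g = 1) (g : G)
    (hg : (χ : G → ℂ) g = (χ : G → ℂ) 1) : g = 1 := by
  classical
  letI : Fintype G := Fintype.ofFinite G
  have hcχ := Wedderburn.isCharacter_of_irr χ.2
  obtain ⟨N, hN, hmem⟩ := Kernel.exists_normal_ker hcχ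
  rcases hN.eq_bot_or_eq_top with h | h
  · have h1 := (hmem g).mpr hg
    rw [h] at h1
    exact Subgroup.mem_bot.mp h1
  · exfalso
    apply hχ
    have hall : ∀ x : G, (χ : G → ℂ) x = (χ : G → ℂ) 1 := fun x =>
      (hmem x).mp (by rw [h]; exact Subgroup.mem_top x)
    have horth := Cfsg.Agent.Lib.Helper81.Basic.irr_orth χ χ
    rw [if_pos rfl] at horth
    simp only [hall] at horth
    rw [Finset.sum_const, Finset.card_univ, ← Nat.card_eq_fintype_card, nsmul_eq_mul] at horth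
    have hne : (Nat.card G : ℂ) ≠ 0 := by
      exact_mod_cast Nat.card_pos.ne'
    have h1 : (χ : G → ℂ) 1 * (χ : G → ℂ) 1 = 1 :=
      mul_left_cancel₀ hne (by rw [horth, mul_one])
    rw [← Wedderburn.char_natCast_charDegree hcχ] at h1
    have h2 : charDegree (χ : G → ℂ) * charDegree (χ : G → ℂ) = 1 := by
      exact_mod_cast h1
    have h3 : charDegree (χ : G → ℂ) = 1 := Nat.eq_one_of_mul_eq_one_left h2
    intro x
    rw [hall x, ← Wedderburn.char_natCast_charDegree hcχ, h3]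
    norm_num

/-- An irreducible character vanishing on `P ∖ 1` has degree divisible by `|P|`. -/
theorem dvd_deg_of_vanish (p : ℕ) (P : Subgroup G) (hP : Nat.card P = p) (ψ : IrrCharacter G)
    (hv : ∀ u : G, u ∈ P → u ≠ 1 → (ψ : G → ℂ) u = 0) : p ∣ charDegree (ψ : G → ℂ) := by
  classical
  letI : Fintype P := Fintype.ofFinite P
  obtain ⟨n, hn⟩ := sum_subgroup_nat P (Wedderburn.isCharacter_of_irr ψ.2)
  have h1 : ∑ x : P, (ψ : G → ℂ) (x : G) = (ψ : G → ℂ) 1 := by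
    rw [Finset.sum_eq_single (1 : P)]
    · simp
    · intro x _ hx
      exact hv x x.2 (fun h => hx (Subtype.ext h))
    · intro h; exact absurd (Finset.mem_univ _) h
  rw [h1, ← Wedderburn.char_natCast_charDegree (Wedderburn.isCharacter_of_irr ψ.2), hP] at hn
  refine ⟨n, ?_⟩
  exact_mod_cast hn

/-- The quadratic relation forcing the value `3` or `-1`. -/
theorem quad (t : ℂ) (h : t * conj t = 3 + 2 * t) : t = 3 ∨ t = -1 := by
  rw [Complex.mul_conj] at h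
  have him : t.im = 0 := by
    have := congrArg Complex.im h
    simp at this
    linarith
  have hre := congrArg Complex.re h
  simp [Complex.normSq_apply, him] at hre
  have h0 : (t.re - 3) * (t.re + 1) = 0 := by nlinarith
  rcases mul_eq_zero.mp h0 with h1 | h1
  · left
    apply Complex.ext
    · simp; linarith
    · simp [him]
  · right
    apply Complex.ext
    · simp; linarith
    · simp [him]

/-- Splitting a sum over all irreducible characters along `X = {τ, χ}`, `Y = {θ1, θ2}`. -/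
theorem sum_split [Fintype (IrrCharacter G)] [DecidableEq (IrrCharacter G)]
    (X Y : Finset (IrrCharacter G)) (τ χ θ1 θ2 : IrrCharacter G) (hX : X = {τ, χ})
    (hY : Y = {θ1, θ2}) (hτχ : χ ≠ τ) (hθ : θ1 ≠ θ2) (hd : ∀ ψ ∈ X, ψ ∉ Y)
    {M : Type*} [AddCommMonoid M] (f : IrrCharacter G → M) :
    ∑ ψ, f ψ = f τ + f χ + (f θ1 + f θ2) + ∑ ψ ∈ (X ∪ Y)ᶜ, f ψ := by
  rw [← Finset.sum_add_sum_compl (X ∪ Y) f, Finset.sum_union (Finset.disjoint_left.mpr hd), hX, hY,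
    Finset.sum_pair hτχ.symm, Finset.sum_pair hθ]

/-- The structure of the non-exceptional characters in the `5`-package. -/
theorem structX [DecidableEq (IrrCharacter G)] (P : Subgroup G) (X Y : Finset (IrrCharacter G))
    (εX : IrrCharacter G → ℤ)
    (h : Pkg 5 P 2 X Y εX (-1)) (τ : IrrCharacter G) (hτ : ∀ g, (τ : G → ℂ) g = 1) (hτX : τ ∈ X)
    (hY : ∀ θ ∈ Y, charDegree (θ : G → ℂ) = 3) :
    ∃ χ : IrrCharacter G, χ ≠ τ ∧ X = {τ, χ} ∧ charDegree (χ : G → ℂ) = 4 ∧ εX χ = -1 ∧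
      ∀ θ ∈ Y, ∀ g : G, ¬ 5 ∣ orderOf g → (χ : G → ℂ) g = 1 + (θ : G → ℂ) g := by
  obtain ⟨a, b, hab, hXab⟩ := Finset.card_eq_two.mp h.cardX
  obtain ⟨χ, hχτ, hX⟩ : ∃ χ : IrrCharacter G, χ ≠ τ ∧ X = {τ, χ} := by
    rw [hXab] at hτX
    rcases Finset.mem_insert.mp hτX with h1 | h1
    · exact ⟨b, by rw [h1]; exact hab.symm, by rw [hXab, h1]⟩
    · rw [Finset.mem_singleton] at h1
      exact ⟨a, by rw [h1]; exact hab, by rw [hXab, h1, Finset.pair_comm]⟩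
  have hχX : χ ∈ X := by rw [hX]; simp
  have hYcard : Y.card = 2 := by rw [h.cardY]
  obtain ⟨θ, hθ⟩ : ∃ θ, θ ∈ Y := by
    apply Finset.card_pos.mp
    rw [hYcard]; norm_num
  have hdegτ : charDegree (τ : G → ℂ) = 1 := by simp [charDegree, hτ]
  have hετ : εX τ = 1 := by
    rcases h.signX τ hτX with h1 | h1
    · exact h1
    · have := h.degX τ hτX
      rw [hdegτ, h1] at this
      exact absurd this (by decide)
  have hrel : ∀ g : G, ¬ 5 ∣ orderOf g →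
      -(θ : G → ℂ) g = 1 + (εX χ : ℂ) * (χ : G → ℂ) g := by
    intro g hg
    have := h.rel θ hθ g hg
    rw [hX, Finset.sum_pair hχτ.symm, hετ, hτ] at this
    push_cast at this
    linear_combination this
  have hχ1 : (χ : G → ℂ) 1 = (charDegree (χ : G → ℂ) : ℂ) :=
    (Wedderburn.char_natCast_charDegree (Wedderburn.isCharacter_of_irr χ.2)).symm
  have hθ1 : (θ : G → ℂ) 1 = 3 := by
    rw [← Wedderburn.char_natCast_charDegree (Wedderburn.isCharacter_of_irr θ.2), hY θ hθ]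
    norm_num
  have h1 := hrel 1 (by simp)
  rw [hχ1, hθ1] at h1
  have h2 : εX χ * (charDegree (χ : G → ℂ) : ℤ) = -4 := by
    have : ((εX χ * (charDegree (χ : G → ℂ) : ℤ) : ℤ) : ℂ) = ((-4 : ℤ) : ℂ) := by
      push_cast
      linear_combination -h1
    exact_mod_cast this
  have hεχ : εX χ = -1 := by
    rcases h.signX χ hχX with h3 | h3
    · rw [h3] at h2
      omega
    · exact h3
  have hdegχ : charDegree (χ : G → ℂ) = 4 := by
    rw [hεχ] at h2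
    omega
  refine ⟨χ, hχτ, hX, hdegχ, hεχ, ?_⟩
  intro θ' hθ' g hg
  have e1 := hrel g hg
  rw [hεχ] at e1
  push_cast at e1
  rw [← h.agreeY θ hθ θ' hθ' g hg]
  linear_combination e1

/-- Decomposition of `θ1 * conj θ1`. -/
theorem decomp [Fintype G] [Fintype (IrrCharacter G)] [DecidableEq (IrrCharacter G)]
    (P : Subgroup G) (hP : Nat.card P = 5)
    (X Y : Finset (IrrCharacter G)) (εX : IrrCharacter G → ℤ)
    (h : Pkg 5 P 2 X Y εX (-1)) (τ χ θ1 θ2 : IrrCharacter G) (hτ : ∀ g, (τ : G → ℂ) g = 1)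
    (hχτ : χ ≠ τ) (hX : X = {τ, χ}) (hdegχ : charDegree (χ : G → ℂ) = 4) (hεχ : εX χ = -1)
    (hθ12 : θ1 ≠ θ2) (hY : Y = {θ1, θ2})
    (hdegY : ∀ θ ∈ Y, charDegree (θ : G → ℂ) = 3) :
    ∃ θ' ∈ Y, ∃ ψ5 : IrrCharacter G, charDegree (ψ5 : G → ℂ) = 5 ∧
      ∀ g : G, (θ1 : G → ℂ) g * (θ1 : G → ℂ) g⁻¹ = 1 + (θ' : G → ℂ) g + (ψ5 : G → ℂ) g := by
  have hθ1Y : θ1 ∈ Y := by rw [hY]; simp
  have hθ2Y : θ2 ∈ Y := by rw [hY]; simp
  have hχX : χ ∈ X := by rw [hX]; simp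
  have hcθ1 := Wedderburn.isCharacter_of_irr θ1.2
  have hΘ : IsCharacter G ((θ1 : G → ℂ) * fun g => (θ1 : G → ℂ) g⁻¹) :=
    Ops.isCharacter_mul hcθ1 (Ops.isCharacter_inv_arg hcθ1)
  obtain ⟨c, hc, hsum⟩ := NormOne.exists_mult_sum hΘ
  have hΘg : ∀ g : G, (θ1 : G → ℂ) g * (θ1 : G → ℂ) g⁻¹ =
      ∑ ψ : IrrCharacter G, (c ψ : ℂ) * (ψ : G → ℂ) g := by
    intro g
    have := congrFun hsum g
    simpa [Finset.sum_apply] using this
  -- the multiplicity of the trivial character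
  have hcτ : c τ = 1 := by
    have h1 := hc τ
    rw [classInner] at h1
    have h2 : ∑ g : G, ((θ1 : G → ℂ) * fun g => (θ1 : G → ℂ) g⁻¹) g * conj ((τ : G → ℂ) g) =
        (Nat.card G : ℂ) := by
      have := Helper81.Basic.irr_orth θ1 θ1
      rw [if_pos rfl] at this
      rw [← this]
      refine Finset.sum_congr rfl fun g _ => ?_
      simp [hτ]
    have hne : (Nat.card G : ℂ) ≠ 0 := by
      exact_mod_cast Nat.card_pos.ne'
    rw [h2, inv_mul_cancel₀ hne] at h1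
    exact_mod_cast h1.symm
  -- the characters outside the block
  have hout : ∀ ψ ∈ (X ∪ Y)ᶜ, ψ ∉ X ∧ ψ ∉ Y := by
    intro ψ hψ
    rw [Finset.mem_compl, Finset.mem_union] at hψ
    exact ⟨fun h => hψ (Or.inl h), fun h => hψ (Or.inr h)⟩
  have hout5 : ∀ ψ ∈ (X ∪ Y)ᶜ, 5 ∣ charDegree (ψ : G → ℂ) := by
    intro ψ hψ
    exact dvd_deg_of_vanish 5 P hP ψ (h.vanish ψ (hout ψ hψ).1 (hout ψ hψ).2)
  -- degrees
  have hdeg : ∀ ψ : IrrCharacter G, (ψ : G → ℂ) 1 = (charDegree (ψ : G → ℂ) : ℂ) := fun ψ =>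
    (Wedderburn.char_natCast_charDegree (Wedderburn.isCharacter_of_irr ψ.2)).symm
  have hdegτ : charDegree (τ : G → ℂ) = 1 := by simp [charDegree, hτ]
  have hnat : ∑ ψ : IrrCharacter G, c ψ * charDegree (ψ : G → ℂ) = 9 := by
    have h1 := hΘg 1
    rw [inv_one] at h1
    simp only [hdeg] at h1
    rw [hdegY θ1 hθ1Y] at h1
    have h2 : (3 : ℕ) * 3 = ∑ ψ : IrrCharacter G, c ψ * charDegree (ψ : G → ℂ) := by
      exact_mod_cast h1
    omega
  have hsplit := sum_split X Y τ χ θ1 θ2 hX hY hχτ hθ12 h.disj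
    (fun ψ => c ψ * charDegree (ψ : G → ℂ))
  beta_reduce at hsplit
  rw [hnat, hcτ, hdegτ, hdegχ, hdegY θ1 hθ1Y, hdegY θ2 hθ2Y] at hsplit
  have hD5 : 5 ∣ ∑ ψ ∈ (X ∪ Y)ᶜ, c ψ * charDegree (ψ : G → ℂ) :=
    Finset.dvd_sum fun ψ hψ => Dvd.dvd.mul_left (hout5 ψ hψ) _
  obtain ⟨k, hk⟩ := hD5
  have hcases : (k = 0 ∧ c χ = 2 ∧ c θ1 = 0 ∧ c θ2 = 0) ∨
      (k = 1 ∧ c χ = 0 ∧ c θ1 + c θ2 = 1) := by omega
  -- pointwise splitting
  have hpt : ∀ g : G, (θ1 : G → ℂ) g * (θ1 : G → ℂ) g⁻¹ =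
      1 + (c χ : ℂ) * (χ : G → ℂ) g + ((c θ1 : ℂ) * (θ1 : G → ℂ) g + (c θ2 : ℂ) * (θ2 : G → ℂ) g) +
        ∑ ψ ∈ (X ∪ Y)ᶜ, (c ψ : ℂ) * (ψ : G → ℂ) g := by
    intro g
    rw [hΘg g, sum_split X Y τ χ θ1 θ2 hX hY hχτ hθ12 h.disj
      (fun ψ => (c ψ : ℂ) * (ψ : G → ℂ) g)]
    rw [hcτ, hτ]
    push_cast
    ring
  rcases hcases with ⟨hk0, hcχ, hc1, hc2⟩ | ⟨hk1, hcχ, hc12⟩
  · -- case (A): impossible
    exfalso
    haveI : Nontrivial P := Finite.one_lt_card_iff_nontrivial.mp (by rw [hP]; norm_num)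
    obtain ⟨u, hu⟩ := exists_ne (1 : P)
    have hu1 : (u : G) ≠ 1 := fun h => hu (Subtype.ext h)
    have e1 := hpt (u : G)
    rw [hcχ, hc1, hc2, h.valX χ hχX u u.2 hu1, hεχ,
      Finset.sum_eq_zero (fun ψ hψ => by
        rw [h.vanish ψ (hout ψ hψ).1 (hout ψ hψ).2 u u.2 hu1, mul_zero]),
      Wedderburn.char_apply_inv hcθ1, Complex.mul_conj] at e1
    have e2 : Complex.normSq ((θ1 : G → ℂ) u) = -1 := by
      have : ((Complex.normSq ((θ1 : G → ℂ) u) : ℝ) : ℂ) = ((-1 : ℝ) : ℂ) := by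
        rw [e1]; push_cast; ring
      exact_mod_cast this
    have := Complex.normSq_nonneg ((θ1 : G → ℂ) u)
    linarith
  · -- case (B)
    subst hk1
    have hD : ∑ ψ ∈ (X ∪ Y)ᶜ, c ψ * charDegree (ψ : G → ℂ) = 5 := by rw [hk]
    obtain ⟨ψ5, hψ5, hne5⟩ : ∃ ψ5 ∈ (X ∪ Y)ᶜ, c ψ5 * charDegree (ψ5 : G → ℂ) ≠ 0 := by
      by_contra hcon
      push Not at hcon
      rw [Finset.sum_eq_zero hcon] at hD
      omega
    have hle5 : c ψ5 * charDegree (ψ5 : G → ℂ) ≤ 5 := by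
      rw [← hD]
      exact Finset.single_le_sum (f := fun ψ => c ψ * charDegree (ψ : G → ℂ))
        (fun _ _ => Nat.zero_le _) hψ5
    obtain ⟨m, hm⟩ := hout5 ψ5 hψ5
    have hcm : c ψ5 = 1 ∧ m = 1 := by
      rw [hm] at hne5 hle5
      have h1 : c ψ5 ≠ 0 := fun h0 => hne5 (by rw [h0, zero_mul])
      have h2 : m ≠ 0 := fun h0 => hne5 (by rw [h0, mul_zero, mul_zero])
      have h3 : c ψ5 * m ≤ 1 := by nlinarith
      have h4 : c ψ5 ≤ c ψ5 * m := Nat.le_mul_of_pos_right _ (Nat.pos_of_ne_zero h2)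
      have h5 : m ≤ c ψ5 * m := Nat.le_mul_of_pos_left _ (Nat.pos_of_ne_zero h1)
      omega
    have hdeg5 : charDegree (ψ5 : G → ℂ) = 5 := by rw [hm, hcm.2]
    have hothers : ∀ ψ ∈ (X ∪ Y)ᶜ, ψ ≠ ψ5 → c ψ = 0 := by
      intro ψ hψ hne
      have h1 := Finset.add_sum_erase _ (fun ψ => c ψ * charDegree (ψ : G → ℂ)) hψ5
      beta_reduce at h1
      rw [hD, hcm.1, hdeg5] at h1
      have h2 : ∑ ψ ∈ ((X ∪ Y)ᶜ).erase ψ5, c ψ * charDegree (ψ : G → ℂ) = 0 := by omega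
      have h3 := (Finset.sum_eq_zero_iff.mp h2) ψ (Finset.mem_erase.mpr ⟨hne, hψ⟩)
      have h4 := Wedderburn.irr_charDegree_pos ψ.2
      rcases Nat.mul_eq_zero.mp h3 with h5 | h5
      · exact h5
      · omega
    have hOsum : ∀ g : G, ∑ ψ ∈ (X ∪ Y)ᶜ, (c ψ : ℂ) * (ψ : G → ℂ) g = (ψ5 : G → ℂ) g := by
      intro g
      rw [Finset.sum_eq_single_of_mem ψ5 hψ5 (fun ψ hψ hne => by
        rw [hothers ψ hψ hne]; simp), hcm.1]
      simp
    have hc12' : (c θ1 = 1 ∧ c θ2 = 0) ∨ (c θ1 = 0 ∧ c θ2 = 1) := by omega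
    rcases hc12' with ⟨hc1, hc2⟩ | ⟨hc1, hc2⟩
    · refine ⟨θ1, hθ1Y, ψ5, hdeg5, fun g => ?_⟩
      rw [hpt g, hOsum g, hcχ, hc1, hc2]
      push_cast
      ring
    · refine ⟨θ2, hθ2Y, ψ5, hdeg5, fun g => ?_⟩
      rw [hpt g, hOsum g, hcχ, hc1, hc2]
      push_cast
      ring

/-- [FIVE] A simple group of order `15 * 2 ^ b` has `b ≤ 2`. -/
theorem five {G : Type u} [Group G] [Finite G] [IsSimpleGroup G] (hG : ¬ IsCyclic G) (b : ℕ)
    (hG' : Nat.card G = 5 * 3 * 2 ^ b) : b ≤ 2 := by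
  classical
  haveI : Fact (Nat.Prime 5) := ⟨by norm_num⟩
  haveI : Fact (Nat.Prime 3) := ⟨by norm_num⟩
  haveI : Fact (Nat.Prime 2) := ⟨by norm_num⟩
  letI : Fintype G := Fintype.ofFinite G
  haveI : Finite (IrrCharacter G) := Cfsg.Agent.Lib.Helper81.Expand.finite_irr
  letI : Fintype (IrrCharacter G) := Fintype.ofFinite _
  obtain ⟨P5⟩ : Nonempty (Sylow 5 G) := inferInstance
  obtain ⟨P3⟩ : Nonempty (Sylow 3 G) := inferInstance
  obtain ⟨Q⟩ : Nonempty (Sylow 2 G) := inferInstance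
  obtain ⟨hP5, hC5, e5, he5, he5_1, he5_dvd, -⟩ := Cfsg.Agent.Lib.Helper1.PRQSylow.sylow_data hG 5 2 3 b (by norm_num)
    (by norm_num) (by norm_num) (by norm_num) (by norm_num) (by norm_num) hG' P5
  have hG'' : Nat.card G = 3 * 5 * 2 ^ b := by rw [hG']
  obtain ⟨hP3, hC3, e3, he3, he3_1, he3_dvd, -⟩ := Cfsg.Agent.Lib.Helper1.PRQSylow.sylow_data hG 3 2 5 b (by norm_num)
    (by norm_num) (by norm_num) (by norm_num) (by norm_num) (by norm_num) hG'' P3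
  have he3_2 : e3 = 2 := by
    have := Nat.le_of_dvd (by norm_num) he3_dvd
    omega
  obtain ⟨X, Y, εX, ε, h5⟩ := Cfsg.Agent.Lib.Helper82.PRQPkg.exists_pkg 5 (by norm_num) P5 hP5 hC5 e5 he5
  obtain ⟨hτX, hdegY, -, hcase⟩ := Cfsg.Agent.Lib.Helper78.PRQC1.c1 hG 5 2 3 b (by norm_num) (by norm_num) (by norm_num)
    (by norm_num) (by norm_num) (by norm_num) hG' (by norm_num) (by norm_num)
    (P5 : Subgroup G) e5 he5_1 he5_dvd X Y εX ε h5
  have he5_2 : e5 = 2 ∧ ε = -1 := by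
    rcases hcase with ⟨-, h3⟩ | ⟨h1, h2⟩
    · rw [h3] at he5_dvd
      norm_num at he5_dvd
    · exact ⟨by omega, h1⟩
  obtain ⟨hee, hεε⟩ := he5_2
  rw [hee, hεε] at h5
  let τ : IrrCharacter G := ⟨fun _ => 1, Ops.isIrrCharacter_one⟩
  have hτ : ∀ g : G, (τ : G → ℂ) g = 1 := fun _ => rfl
  obtain ⟨χ, hχτ, hX, hdegχ, hεχ, hrelχ⟩ :=
    structX (P5 : Subgroup G) X Y εX h5 τ hτ (hτX τ hτ) hdegY
  have hYcard : Y.card = 2 := by rw [h5.cardY]
  obtain ⟨θ1, θ2, hθ12, hY⟩ := Finset.card_eq_two.mp hYcard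
  have hθ1Y : θ1 ∈ Y := by rw [hY]; simp
  obtain ⟨θ', hθ'Y, ψ5, hdeg5, hΘ⟩ := decomp (P5 : Subgroup G) hP5 X Y εX h5 τ χ θ1 θ2 hτ hχτ hX
    hdegχ hεχ hθ12 hY hdegY
  -- the `3`-package
  obtain ⟨X3, Y3, εX3, ε3, h3⟩ := Cfsg.Agent.Lib.Helper82.PRQPkg.exists_pkg 3 (by norm_num) P3 hP3 hC3 e3 he3
  rw [he3_2] at h3
  have hrel3 := Cfsg.Agent.Lib.Helper82.PRQThree.three_rel (P3 : Subgroup G) hP3 X3 Y3 εX3 ε3 h3 τ χ ψ5 hτ
    (by rw [hdegχ]; norm_num) (by rw [hdegχ]; norm_num) (by rw [hdeg5]; norm_num)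
    (by rw [hdeg5, hdegχ])
  have hcθ1 := Wedderburn.isCharacter_of_irr θ1.2
  have hθ1one : (θ1 : G → ℂ) 1 = 3 := by
    rw [← Wedderburn.char_natCast_charDegree hcθ1, hdegY θ1 hθ1Y]
    norm_num
  -- values on `2`-elements
  have hval : ∀ g : G, g ∈ (Q : Subgroup G) → g ≠ 1 → (θ1 : G → ℂ) g = -1 := by
    intro g hgQ hg1
    obtain ⟨k, hk⟩ := (IsPGroup.iff_orderOf.mp Q.isPGroup') ⟨g, hgQ⟩
    have hk' : orderOf g = 2 ^ k := by
      rw [← hk]
      exact (Subgroup.orderOf_mk g hgQ).symm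
    have h5reg : ¬ 5 ∣ orderOf g := by
      rw [hk']
      intro hd
      have := (Nat.prime_dvd_prime_iff_eq (by norm_num) (by norm_num)).mp
        (Nat.Prime.dvd_of_dvd_pow (by norm_num) hd)
      omega
    have h3reg : ¬ 3 ∣ orderOf g := by
      rw [hk']
      intro hd
      have := (Nat.prime_dvd_prime_iff_eq (by norm_num) (by norm_num)).mp
        (Nat.Prime.dvd_of_dvd_pow (by norm_num) hd)
      omega
    have e1 : (χ : G → ℂ) g = 1 + (θ1 : G → ℂ) g := hrelχ θ1 hθ1Y g h5reg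
    have e2 : (ψ5 : G → ℂ) g = 1 + (χ : G → ℂ) g := hrel3 g h3reg
    have e3 : (θ' : G → ℂ) g = (θ1 : G → ℂ) g := h5.agreeY θ' hθ'Y θ1 hθ1Y g h5reg
    have e4 := hΘ g
    rw [Wedderburn.char_apply_inv hcθ1, e3, e2, e1] at e4
    have e5 : (θ1 : G → ℂ) g * conj ((θ1 : G → ℂ) g) = 3 + 2 * (θ1 : G → ℂ) g := by
      rw [e4]; ring
    rcases quad _ e5 with h | h
    · exfalso
      apply hg1
      refine eq_one_of_apply_eq θ1 ?_ g ?_
      · intro hall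
        rw [hall g] at h
        norm_num at h
      · rw [h, hθ1one]
    · exact h
  -- the sum over a Sylow `2`-subgroup
  letI : Fintype (Q : Subgroup G) := Fintype.ofFinite _
  obtain ⟨n, hn⟩ := sum_subgroup_nat (Q : Subgroup G) hcθ1
  have hsum : ∑ x : (Q : Subgroup G), (θ1 : G → ℂ) (x : G) =
      4 - (Nat.card (Q : Subgroup G) : ℂ) := by
    rw [← Finset.add_sum_erase Finset.univ _ (Finset.mem_univ (1 : (Q : Subgroup G)))]
    have hrest : ∑ x ∈ (Finset.univ : Finset (Q : Subgroup G)).erase 1, (θ1 : G → ℂ) (x : G) =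
        ∑ x ∈ (Finset.univ : Finset (Q : Subgroup G)).erase 1, (-1 : ℂ) :=
      Finset.sum_congr rfl (fun x hx => hval x x.2
        (fun h => (Finset.ne_of_mem_erase hx) (Subtype.ext h)))
    rw [hrest, Finset.sum_const, Finset.card_erase_of_mem (Finset.mem_univ _), Finset.card_univ,
      Nat.card_eq_fintype_card, Subgroup.coe_one, hθ1one]
    have hpos : 1 ≤ Fintype.card (Q : Subgroup G) := Fintype.card_pos
    rw [nsmul_eq_mul, Nat.cast_sub hpos]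
    push_cast
    ring
  rw [hsum] at hn
  have hdvd4 : Nat.card (Q : Subgroup G) * (n + 1) = 4 := by
    have : ((Nat.card (Q : Subgroup G) * (n + 1) : ℕ) : ℂ) = ((4 : ℕ) : ℂ) := by
      push_cast
      linear_combination -hn
    exact_mod_cast this
  have h2b : 2 ^ b ∣ Nat.card (Q : Subgroup G) :=
    Sylow.pow_dvd_card_of_pow_dvd_card Q (by rw [hG']; exact Dvd.intro_left _ rfl)
  have h2b4 : 2 ^ b ∣ 4 := h2b.trans (Dvd.intro _ hdvd4)
  have hle : 2 ^ b ≤ 2 ^ 2 := Nat.le_of_dvd (by norm_num) h2b4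
  exact (Nat.pow_le_pow_iff_right (by norm_num)).mp hle

end Cfsg.Agent.Lib.Helper58.PRQFive
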