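import Mathlib
import Cfsg.Prelude.Def_Blocks
import Cfsg.Agent.Lib.Helper58.IdemMat
import Cfsg.Agent.Lib.Helper58.AlperinDade
import Cfsg.Agent.Lib.Helper15.DetChar
import Cfsg.Agent.Lib.Helper81.Irr

/-!
# Relative Schur lemma for characters restricting irreducibly to a subgroup

If `ψ ∈ Irr(G)` restricts irreducibly to the subgroup `N`, every element `a` of `ℂ[G]` commuting
with `N` acts as the scalar `omega ψ a`; hence `omega ψ` is multiplicative on such elements
(`pair_mul_rel`, `omega_mul_rel`), and takes algebraic integer values on those with integer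
coefficients (`isIntegral_omega_rel`).  Also: restrictions to intermediate subgroups are
irreducible (`isIrrCharacter_restrict_of_le`).
-/

set_option autoImplicit false
set_option linter.unusedSectionVars false
set_option linter.style.haveILetI false

namespace Cfsg.Agent.Lib.Helper58.RelSchur

open Cfsg Cfsg.Agent.Lib.Helper77.LocalRing Cfsg.Agent.Lib.Helper77.CentralChar
  Cfsg.Agent.Lib.Helper77.ClassSum Cfsg.Agent.Lib.Helper77.BlockIdem
  Cfsg.Agent.Lib.Helper58.CosetAlg

universe u

variable {G : Type u} [Group G]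

section Rep

variable {V : Type*} [AddCommGroup V] [Module ℂ V] [FiniteDimensional ℂ V]
  (ρ : Representation ℂ G V)

/-- Relative Schur lemma: if the restriction of `ρ` to `N` is irreducible, an element of the
group algebra commuting with `N` acts as a scalar. -/
theorem asAlgebraHom_rel (N : Subgroup G)
    (hirr : Representation.IsIrreducible (ρ.comp N.subtype : Representation ℂ N V))
    (z : MonoidAlgebra ℂ G)
    (hz : ∀ n : N, MonoidAlgebra.of ℂ G (n : G) * z = z * MonoidAlgebra.of ℂ G (n : G)) :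
    ρ.asAlgebraHom z = omega ρ.character z • LinearMap.id := by
  let σ : Representation ℂ N V := ρ.comp N.subtype
  have hσ : σ.IsIrreducible := hirr
  have hcomm : ∀ n : N, (ρ.asAlgebraHom z) ∘ₗ σ n = σ n ∘ₗ (ρ.asAlgebraHom z) := by
    intro n
    have h2 := congrArg ρ.asAlgebraHom (hz n)
    rw [map_mul, map_mul, Representation.asAlgebraHom_of] at h2
    exact h2.symm
  let f : Representation.IntertwiningMap σ σ := ⟨ρ.asAlgebraHom z, hcomm⟩
  obtain ⟨c, hc⟩ :=
    (Representation.IsIrreducible.algebraMap_intertwiningMap_bijective_of_isAlgClosed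
      (ρ := σ)).2 f
  have hc' : ρ.asAlgebraHom z = c • LinearMap.id := by
    have h3 : f.toLinearMap = c • LinearMap.id := by
      rw [← hc]
      ext v
      simp
    exact h3
  have htr : pair ρ.character z = c * ρ.character 1 := by
    rw [← trace_asAlgebraHom, hc', map_smul, Representation.char_one, smul_eq_mul]
    congr 1
    exact LinearMap.trace_id ℂ V
  have h1 : ρ.character 1 ≠ 0 := by
    have h := character_one_ne_zero σ
    rw [Representation.char_one] at h ⊢
    exact h
  rw [hc']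
  congr 1
  unfold omega
  rw [htr]
  field_simp

theorem pair_mul_of_rel (N : Subgroup G)
    (hirr : Representation.IsIrreducible (ρ.comp N.subtype : Representation ℂ N V))
    (z w : MonoidAlgebra ℂ G)
    (hz : ∀ n : N, MonoidAlgebra.of ℂ G (n : G) * z = z * MonoidAlgebra.of ℂ G (n : G)) :
    pair ρ.character (z * w) = omega ρ.character z * pair ρ.character w := by
  rw [← trace_asAlgebraHom, map_mul, asAlgebraHom_rel ρ N hirr z hz, ← trace_asAlgebraHom]
  rw [smul_mul_assoc, map_smul, smul_eq_mul]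
  rfl

/-- If the restriction to `N` is irreducible, so is the restriction to any `J ≥ N`. -/
theorem irr_restrict_of_le (N J : Subgroup G) (hNJ : N ≤ J)
    (hirr : Representation.IsIrreducible (ρ.comp N.subtype : Representation ℂ N V)) :
    Representation.IsIrreducible (ρ.comp J.subtype : Representation ℂ J V) := by
  rw [Cfsg.Agent.Lib.Helper81.Irr.irr_iff] at hirr ⊢
  obtain ⟨hV, h⟩ := hirr
  exact ⟨hV, fun U hU => h U fun g v hv => hU ⟨g, hNJ g.2⟩ v hv⟩

end Rep

section Char

variable [Finite G]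

/-- A representation affording `ψ` restricts irreducibly to `N` when `ψ` restricted to `N` is an
irreducible character. -/
theorem exists_rep_restrict_irr {ψ : G → ℂ} (hψ : IsIrrCharacter G ψ) (N : Subgroup G)
    (hN : IsIrrCharacter N (fun x : N => ψ x)) :
    ∃ (n : ℕ) (ρ : Representation ℂ G (Fin n → ℂ)), ρ.character = ψ ∧
      Representation.IsIrreducible (ρ.comp N.subtype : Representation ℂ N (Fin n → ℂ)) := by
  obtain ⟨n, ρ, -, rfl⟩ := hψ
  refine ⟨n, ρ, rfl, ?_⟩
  exact Cfsg.Agent.Lib.Helper15.DetChar.isIrreducible_of_isIrrCharacter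
    (ρ.comp N.subtype : Representation ℂ N (Fin n → ℂ)) hN

/-- For `ψ ∈ Irr(G)` restricting irreducibly to `N` and `z` commuting with `N`:
`ψ(z w) = ω_ψ(z) ψ(w)`. -/
theorem pair_mul_rel {ψ : G → ℂ} (hψ : IsIrrCharacter G ψ) (N : Subgroup G)
    (hN : IsIrrCharacter N (fun x : N => ψ x)) (z w : MonoidAlgebra ℂ G)
    (hz : ∀ n : N, MonoidAlgebra.of ℂ G (n : G) * z = z * MonoidAlgebra.of ℂ G (n : G)) :
    pair ψ (z * w) = omega ψ z * pair ψ w := by
  obtain ⟨n, ρ, rfl, hirr⟩ := exists_rep_restrict_irr hψ N hN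
  exact pair_mul_of_rel ρ N hirr z w hz

theorem omega_mul_rel {ψ : G → ℂ} (hψ : IsIrrCharacter G ψ) (N : Subgroup G)
    (hN : IsIrrCharacter N (fun x : N => ψ x)) (z w : MonoidAlgebra ℂ G)
    (hz : ∀ n : N, MonoidAlgebra.of ℂ G (n : G) * z = z * MonoidAlgebra.of ℂ G (n : G)) :
    omega ψ (z * w) = omega ψ z * omega ψ w := by
  unfold omega
  rw [pair_mul_rel hψ N hN z w hz]
  unfold omega
  ring

/-- Restrictions to intermediate subgroups are irreducible characters. -/
theorem isIrrCharacter_restrict_of_le {ψ : G → ℂ} (hψ : IsIrrCharacter G ψ) (N J : Subgroup G)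
    (hNJ : N ≤ J) (hN : IsIrrCharacter N (fun x : N => ψ x)) :
    IsIrrCharacter J (fun y : J => ψ y) := by
  obtain ⟨n, ρ, rfl, hirr⟩ := exists_rep_restrict_irr hψ N hN
  exact Cfsg.Agent.Lib.Helper81.Irr.isIrrCharacter_of_irr
    (ρ.comp J.subtype : Representation ℂ J (Fin n → ℂ)) (irr_restrict_of_le ρ N J hNJ hirr)

end Char


/-! ### Elements commuting with `N` -/

section Cen

variable [Finite G]

/-- Elements whose coefficients are invariant under conjugation by `N` commute with `N`. -/
theorem comm_of_of_coeff_inv (N : Subgroup G) (a : MonoidAlgebra ℂ G)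
    (h : ∀ n ∈ N, ∀ g : G, a.coeff (n * g * n⁻¹) = a.coeff g) (n : N) :
    MonoidAlgebra.of ℂ G (n : G) * a = a * MonoidAlgebra.of ℂ G (n : G) := by
  ext k
  rw [MonoidAlgebra.of_apply]
  simp only [MonoidAlgebra.coeff_single_mul_apply, MonoidAlgebra.coeff_mul_single_apply,
    one_mul, mul_one]
  have := h n n.2 ((n : G)⁻¹ * k)
  rw [← this]
  congr 1
  group

theorem comm_iota_of_comm_of (N : Subgroup G) (a : MonoidAlgebra ℂ G)
    (h : ∀ n : N, MonoidAlgebra.of ℂ G (n : G) * a = a * MonoidAlgebra.of ℂ G (n : G))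
    (z : MonoidAlgebra ℂ N) : iota N z * a = a * iota N z := by
  induction z using MonoidAlgebra.induction_on with
  | of n =>
    rw [MonoidAlgebra.of_apply, iota_single]
    have := h n
    rwa [MonoidAlgebra.of_apply] at this
  | add x y hx hy => rw [map_add, add_mul, mul_add, hx, hy]
  | smul r x hx => rw [map_smul, smul_mul_assoc, mul_smul_comm, hx]

theorem comm_of_of_comm_iota (N : Subgroup G) (a : MonoidAlgebra ℂ G)
    (h : ∀ z : MonoidAlgebra ℂ N, iota N z * a = a * iota N z) (n : N) :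
    MonoidAlgebra.of ℂ G (n : G) * a = a * MonoidAlgebra.of ℂ G (n : G) := by
  have := h (MonoidAlgebra.of ℂ N n)
  rwa [MonoidAlgebra.of_apply, iota_single] at this

/-- The subalgebra of elements commuting with `N`. -/
noncomputable def Cen (N : Subgroup G) : Subalgebra ℂ (MonoidAlgebra ℂ G) :=
  Subalgebra.centralizer ℂ (Set.range fun n : N => MonoidAlgebra.of ℂ G (n : G))

theorem mem_cen {N : Subgroup G} {z : MonoidAlgebra ℂ G} :
    z ∈ Cen N ↔
      ∀ n : N, MonoidAlgebra.of ℂ G (n : G) * z = z * MonoidAlgebra.of ℂ G (n : G) := by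
  unfold Cen
  rw [Subalgebra.mem_centralizer_iff]
  constructor
  · intro h n
    exact h _ ⟨n, rfl⟩
  · rintro h _ ⟨n, rfl⟩
    exact h n

/-- The relative central character as a ring homomorphism on the centralizer of `N`. -/
noncomputable def omegaRel {ψ : G → ℂ} (hψ : IsIrrCharacter G ψ) (N : Subgroup G)
    (hN : IsIrrCharacter N (fun x : N => ψ x)) : Cen N →+* ℂ where
  toFun z := omega ψ (z : MonoidAlgebra ℂ G)
  map_one' := omega_one_irr hψ
  map_mul' z w := omega_mul_rel hψ N hN z w (mem_cen.mp z.2)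
  map_zero' := omega_zero ψ
  map_add' z w := omega_add ψ z w

/-- Integrality of the relative central character on integral elements commuting with `N`. -/
theorem isIntegral_omega_rel {ψ : G → ℂ} (hψ : IsIrrCharacter G ψ) (N : Subgroup G)
    (hN : IsIrrCharacter N (fun x : N => ψ x)) (z : MonoidAlgebra ℂ G)
    (hz : ∀ n : N, MonoidAlgebra.of ℂ G (n : G) * z = z * MonoidAlgebra.of ℂ G (n : G))
    (hint : ∀ g : G, ∃ k : ℤ, z.coeff g = k) : IsIntegral ℤ (omega ψ z) := by
  have hint' : IsIntegral ℤ z := isIntegral_of_int_coeff z hint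
  let Z := Cen N
  have h1 : IsIntegral ℤ (⟨z, mem_cen.mpr hz⟩ : Z) := by
    have := (isIntegral_algHom_iff (Z.val.restrictScalars ℤ)
      (show Function.Injective (Z.val.restrictScalars ℤ) from Subtype.val_injective)
      (x := (⟨z, mem_cen.mpr hz⟩ : Z))).mp
    exact this hint'
  exact h1.map (omegaRel hψ N hN).toIntAlgHom

/-! ### Orbit sums -/

open Classical in
/-- The sum of the `N`-conjugates of `x`. -/
noncomputable def orbSum (N : Subgroup G) (x : G) : MonoidAlgebra ℂ G :=
  ofFun (fun g => if ∃ n : N, (n : G) * x * (n : G)⁻¹ = g then 1 else 0)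

theorem orbSum_int (N : Subgroup G) (x g : G) : ∃ k : ℤ, (orbSum N x).coeff g = k := by
  classical
  unfold orbSum
  rw [coeff_ofFun]
  split_ifs
  · exact ⟨1, by simp⟩
  · exact ⟨0, by simp⟩

theorem orbSum_comm (N : Subgroup G) (x : G) (n : N) :
    MonoidAlgebra.of ℂ G (n : G) * orbSum N x = orbSum N x * MonoidAlgebra.of ℂ G (n : G) := by
  classical
  apply comm_of_of_coeff_inv
  intro m hm g
  unfold orbSum
  rw [coeff_ofFun, coeff_ofFun]
  have : (∃ n : N, (n : G) * x * (n : G)⁻¹ = m * g * m⁻¹) ↔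
      (∃ n : N, (n : G) * x * (n : G)⁻¹ = g) := by
    constructor
    · rintro ⟨n, hn⟩
      refine ⟨⟨m, hm⟩⁻¹ * n, ?_⟩
      have e : ((⟨m, hm⟩⁻¹ * n : N) : G) = m⁻¹ * (n : G) := rfl
      rw [e]
      calc m⁻¹ * (n : G) * x * (m⁻¹ * (n : G))⁻¹ = m⁻¹ * ((n : G) * x * (n : G)⁻¹) * m := by group
        _ = g := by rw [hn]; group
    · rintro ⟨n, rfl⟩
      refine ⟨⟨m, hm⟩ * n, ?_⟩
      have e : ((⟨m, hm⟩ * n : N) : G) = m * (n : G) := rfl
      rw [e]
      group
  simp only [this]

theorem orbSum_supp (N : Subgroup G) [N.Normal] (x : G) :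
    Supp N (QuotientGroup.mk x) (orbSum N x) := by
  classical
  intro g hg
  unfold orbSum at hg
  rw [coeff_ofFun] at hg
  split_ifs at hg with h
  · obtain ⟨n, rfl⟩ := h
    rw [QuotientGroup.mk_mul, QuotientGroup.mk_mul, QuotientGroup.mk_inv,
      (QuotientGroup.eq_one_iff (n : G)).mpr n.2]
    simp
  · exact absurd rfl hg

theorem pair_one_orbSum (N : Subgroup G) (x : G) :
    pair (fun _ : G => (1 : ℂ)) (orbSum N x)
      = (Set.ncard {g : G | ∃ n : N, (n : G) * x * (n : G)⁻¹ = g} : ℂ) := by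
  classical
  cases nonempty_fintype G
  unfold orbSum
  rw [pair_ofFun]
  simp only [mul_one]
  have hs : {g : G | ∃ n : N, (n : G) * x * (n : G)⁻¹ = g}
      = ↑(Finset.univ.filter (fun g : G => ∃ n : N, (n : G) * x * (n : G)⁻¹ = g)) := by
    ext g
    simp
  rw [hs, Set.ncard_coe_finset, Finset.card_filter]
  push_cast
  apply Finset.sum_congr rfl
  intro g _
  congr

/-- If `x` centralizes a Sylow `p`-subgroup of `N`, the number of `N`-conjugates of `x` is prime
to `p`. -/
theorem not_dvd_ncard_orbit (N : Subgroup G) (p : ℕ) [Fact p.Prime] (P : Sylow p N) (x : G)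
    (hx : x ∈ Subgroup.centralizer (((P : Subgroup N).map N.subtype : Subgroup G) : Set G)) :
    ¬ p ∣ Set.ncard {g : G | ∃ n : N, (n : G) * x * (n : G)⁻¹ = g} := by
  letI : MulAction N G :=
    { smul := fun n g => (n : G) * g * (n : G)⁻¹
      one_smul := fun g => by
        show ((1 : N) : G) * g * ((1 : N) : G)⁻¹ = g
        simp
      mul_smul := fun a b g => by
        show ((a * b : N) : G) * g * ((a * b : N) : G)⁻¹
          = (a : G) * ((b : G) * g * (b : G)⁻¹) * (a : G)⁻¹
        simp only [Subgroup.coe_mul]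
        group }
  have h1 : MulAction.orbit N x = {g : G | ∃ n : N, (n : G) * x * (n : G)⁻¹ = g} := by
    ext g
    rw [MulAction.mem_orbit_iff]
    rfl
  have h2 : (MulAction.stabilizer N x).index = (MulAction.orbit N x).ncard :=
    MulAction.index_stabilizer N x
  have h3 : (P : Subgroup N) ≤ MulAction.stabilizer N x := by
    intro n hn
    rw [MulAction.mem_stabilizer_iff]
    show (n : G) * x * (n : G)⁻¹ = x
    have := Subgroup.mem_centralizer_iff.mp hx (n : G) ⟨n, hn, rfl⟩
    rw [this]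
    group
  intro hdvd
  rw [← h1, ← h2] at hdvd
  exact P.not_dvd_index (hdvd.trans (Subgroup.index_dvd_of_le h3))

end Cen

/-! ### Roots of unity modulo the local ideal -/

section Roots

variable {M : Ideal AlgInt} {p : ℕ}

/-- Frobenius: `y ^ (p ^ n) ≡ 1` implies `y ≡ 1` modulo the local ideal. -/
theorem memLocalIdeal_sub_one_of_pow (hM : IsPModular p M) {y : ℂ} (hy : MemLocalRing M y)
    (n : ℕ) (h : MemLocalIdeal M (y ^ p ^ n - 1)) : MemLocalIdeal M (y - 1) := by
  have hMp := isPrime_of_isPModular hM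
  have hp : p.Prime := hM.1
  obtain ⟨r, hr⟩ := exists_add_pow_prime_pow_eq hp (⟨y, hy⟩ : localSubring M hMp)
    (-1 : localSubring M hMp) n
  have hr' : (y - 1) ^ p ^ n = y ^ p ^ n + (-1) ^ p ^ n + (p : ℂ) * y * (-1) * (r : ℂ) := by
    have h1 := congrArg (fun z : localSubring M hMp => (z : ℂ)) hr
    simp only [Subring.coe_add, Subring.coe_mul, Subring.coe_pow, Subring.coe_neg,
      Subring.coe_one, Subring.coe_natCast] at h1
    rw [← h1]
    ring
  have hsign : MemLocalIdeal M ((-1 : ℂ) ^ p ^ n + 1) := by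
    rcases neg_one_pow_eq_or ℂ (p ^ n) with h1 | h1
    · have hev : Even (p ^ n) := by
        by_contra hodd
        rw [Nat.not_even_iff_odd] at hodd
        rw [hodd.neg_one_pow] at h1
        norm_num at h1
      have hp2 : p = 2 := (Nat.Prime.even_iff hp).mp (Nat.even_pow.mp hev).1
      have e : ((-1 : ℂ) ^ p ^ n + 1) = ((p : ℕ) : ℂ) := by
        rw [h1, hp2]
        norm_num
      rw [e]
      exact memLocalIdeal_natCast_of_dvd hM dvd_rfl
    · rw [h1]
      simpa using memLocalIdeal_zero hMp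
  have hpy : MemLocalIdeal M ((p : ℂ) * y * (-1) * (r : ℂ)) := by
    have h1 : MemLocalIdeal M ((p : ℂ)) := memLocalIdeal_natCast_of_dvd hM dvd_rfl
    exact memLocalIdeal_mul_right hMp (memLocalIdeal_mul_right hMp
      (memLocalIdeal_mul_right hMp h1 hy) (memLocalRing_neg (memLocalRing_one hMp))) r.2
  have hpow : MemLocalIdeal M ((y - 1) ^ p ^ n) := by
    have e : (y - 1) ^ p ^ n
        = (y ^ p ^ n - 1) + ((-1) ^ p ^ n + 1) + (p : ℂ) * y * (-1) * (r : ℂ) := by
      rw [hr']
      ring
    rw [e]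
    exact memLocalIdeal_add hMp (memLocalIdeal_add hMp h hsign) hpy
  exact memLocalIdeal_of_pow hMp (memLocalRing_sub hMp hy (memLocalRing_one hMp)) _ hpow

/-- Roots of unity of order prime to `p` are distinct modulo the local ideal. -/
theorem root_unique (hM : IsPModular p M) {m : ℕ} (hm : ¬ p ∣ m) {ζ ζ' : ℂ} (hζ : ζ ^ m = 1)
    (hζ' : ζ' ^ m = 1) (h : MemLocalIdeal M (ζ - ζ')) : ζ = ζ' := by
  have hMp := isPrime_of_isPModular hM
  have hm0 : 0 < m := Nat.pos_of_ne_zero (by rintro rfl; exact hm (dvd_zero p))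
  have hζint : IsIntegral ℤ ζ := IsIntegral.of_pow hm0 (by rw [hζ]; exact isIntegral_one)
  have hζ'int : IsIntegral ℤ ζ' := IsIntegral.of_pow hm0 (by rw [hζ']; exact isIntegral_one)
  by_contra hne
  have hinv : ζ * ζ ^ (m - 1) = 1 := by
    rw [← pow_succ', Nat.sub_add_cancel hm0, hζ]
  obtain ⟨ω, hω⟩ : ∃ ω : ℂ, ω = ζ' * ζ ^ (m - 1) := ⟨_, rfl⟩
  have hωm : ω ^ m = 1 := by
    rw [hω, mul_pow, hζ', one_mul, ← pow_mul, mul_comm, pow_mul, hζ, one_pow]
  have hωloc : MemLocalRing M ω := by
    rw [hω]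
    exact memLocalRing_of_isIntegral hMp (hζ'int.mul (hζint.pow _))
  have hω1 : ω ≠ 1 := by
    intro h1
    apply hne
    calc ζ = ζ * ω := by rw [h1, mul_one]
      _ = ζ' * (ζ * ζ ^ (m - 1)) := by rw [hω]; ring
      _ = ζ' := by rw [hinv, mul_one]
  have h1ω : MemLocalIdeal M (1 - ω) := by
    have e : 1 - ω = (ζ - ζ') * ζ ^ (m - 1) := by
      rw [hω, sub_mul, hinv]
    rw [e]
    exact memLocalIdeal_mul_right hMp h (memLocalRing_of_isIntegral hMp (hζint.pow _))
  have hpow : ∀ i : ℕ, MemLocalIdeal M (1 - ω ^ i) := by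
    intro i
    induction i with
    | zero => simpa using memLocalIdeal_zero hMp
    | succ i ih =>
      have e : 1 - ω ^ (i + 1) = (1 - ω ^ i) + ω ^ i * (1 - ω) := by ring
      rw [e]
      exact memLocalIdeal_add hMp ih
        (memLocalIdeal_mul_left hMp (memLocalRing_pow hMp hωloc i) h1ω)
  have hgeom : ∑ i ∈ Finset.range m, ω ^ i = 0 := by
    have := geom_sum_mul ω m
    rw [hωm, sub_self] at this
    exact (mul_eq_zero.mp this).resolve_right (sub_ne_zero.mpr hω1)
  have hmI : MemLocalIdeal M (m : ℂ) := by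
    have e : (m : ℂ) = ∑ i ∈ Finset.range m, (1 - ω ^ i) := by
      rw [Finset.sum_sub_distrib, hgeom, sub_zero]
      simp
    rw [e]
    exact memLocalIdeal_sum hMp _ _ (fun i _ => hpow i)
  exact hm ((memLocalIdeal_natCast_iff hM m).mp hmI)

/-- An element congruent to an `m`-th root of unity modulo the local ideal. -/
theorem exists_root (hMp : M.IsPrime) {m : ℕ} (hm0 : 0 < m) {y : ℂ} (hy : MemLocalRing M y)
    (h : MemLocalIdeal M (y ^ m - 1)) : ∃ ζ : ℂ, ζ ^ m = 1 ∧ MemLocalIdeal M (y - ζ) := by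
  have prim := Complex.isPrimitiveRoot_exp m hm0.ne'
  have hfac := congrArg (Polynomial.eval y) (Polynomial.X_pow_sub_one_eq_prod hm0 prim)
  simp only [Polynomial.eval_sub, Polynomial.eval_pow, Polynomial.eval_X, Polynomial.eval_one,
    Polynomial.eval_prod, Polynomial.eval_C] at hfac
  by_contra hcon
  push Not at hcon
  rw [hfac] at h
  refine not_memLocalIdeal_prod hMp _ _ ?_ ?_ h
  · intro ζ hζ
    have hζm : ζ ^ m = 1 := (Polynomial.mem_nthRootsFinset hm0 1).mp hζ
    exact memLocalRing_sub hMp hy (memLocalRing_of_isIntegral hMp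
      (IsIntegral.of_pow hm0 (by rw [hζm]; exact isIntegral_one)))
  · intro ζ hζ
    exact hcon ζ ((Polynomial.mem_nthRootsFinset hm0 1).mp hζ)

end Roots

end Cfsg.Agent.Lib.Helper58.RelSchur
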