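import Mathlib
import Cfsg.Prelude.Def_Blocks
import Cfsg.Agent.Lib.Helper58.RelSchur
import Cfsg.Agent.Lib.CT.LinChar

/-!
# Extensions of principal block characters when `G = N C_G(P)`

Let `N ⊴ G`, `P ∈ Syl_p(N)` and `G = N C_G(P)`.  If `θ` in the principal block of `N` extends
to `G`, then some extension `χ` of `θ` restricts into the principal block of every `J` with
`N ≤ J ≤ G` (`exists_ext_principal`).

Proof: for an extension `ψ`, the relative central character `omega ψ` on the integral elements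
commuting with `N` is congruent, on each coset `c` of `N`, to `t c` times the augmentation, where
`t` is multiplicative modulo the local ideal.  Lifting `t` to a linear character `β` of `G/N` of
order prime to `p`, the extension `χ = ψ β⁻¹` has relative central character congruent to the
augmentation.
-/

set_option autoImplicit false
set_option linter.unusedSectionVars false
set_option linter.style.haveILetI false

namespace Cfsg.Agent.Lib.Helper58.PrincExt

open Cfsg Cfsg.Agent.Lib.Helper77.LocalRing Cfsg.Agent.Lib.Helper77.CentralChar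
  Cfsg.Agent.Lib.Helper77.ClassSum Cfsg.Agent.Lib.Helper77.BlockIdem
  Cfsg.Agent.Lib.Helper58.CosetAlg Cfsg.Agent.Lib.Helper58.RelSchur
  Cfsg.Agent.Lib.Helper58.CoverUnder Cfsg.Agent.Lib.Helper58.IdemMat

universe u

section Main

variable {G : Type u} [Group G] [Finite G] (N : Subgroup G) [N.Normal] {M : Ideal AlgInt}

/-- Homogeneous elements with integer coefficients commuting with `N`. -/
def LamZ (c : G ⧸ N) : Set (MonoidAlgebra ℂ G) :=
  {a | (∀ g : G, ∃ k : ℤ, a.coeff g = k) ∧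
    (∀ n : N, MonoidAlgebra.of ℂ G (n : G) * a = a * MonoidAlgebra.of ℂ G (n : G)) ∧ Supp N c a}

theorem lamZ_lamH (hMp : M.IsPrime) {c : G ⧸ N} {a : MonoidAlgebra ℂ G} (ha : a ∈ LamZ N c) :
    a ∈ LamH N hMp c := by
  refine ⟨⟨?_, comm_iota_of_comm_of N a ha.2.1⟩, ha.2.2⟩
  intro g
  obtain ⟨k, hk⟩ := ha.1 g
  rw [hk]
  exact memLocalRing_intCast hMp k

theorem pair_one_memLocalRing (hMp : M.IsPrime) {a : MonoidAlgebra ℂ G}
    (ha : ∀ g : G, ∃ k : ℤ, a.coeff g = k) :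
    MemLocalRing M (pair (fun _ : G => (1 : ℂ)) a) := by
  cases nonempty_fintype G
  rw [pair_eq_sum]
  refine memLocalRing_sum hMp _ _ fun g _ => ?_
  obtain ⟨k, hk⟩ := ha g
  rw [hk, mul_one]
  exact memLocalRing_intCast hMp k

theorem one_mem_lamZ : (1 : MonoidAlgebra ℂ G) ∈ LamZ N 1 := by
  classical
  refine ⟨fun g => ?_, fun n => by rw [mul_one, one_mul], supp_one N⟩
  rw [MonoidAlgebra.one_def, MonoidAlgebra.coeff_single, Finsupp.single_apply]
  split_ifs
  · exact ⟨1, by simp⟩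
  · exact ⟨0, by simp⟩

/-- On integral elements supported on `N` and commuting with `N`, the relative central
character of an extension of a principal block character is congruent to the augmentation. -/
theorem omega_sub_aug_mem (hMp : M.IsPrime) (θ : IrrCharacter N) (hθ : θ ∈ principalBlock M N)
    (ψ : IrrCharacter G) (hψ : ∀ x : N, (ψ : G → ℂ) x = (θ : N → ℂ) x)
    {x : MonoidAlgebra ℂ G} (hx : x ∈ LamH N hMp 1) :
    MemLocalIdeal M (omega (ψ : G → ℂ) x - pair (fun _ : G => (1 : ℂ)) x) := by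
  classical
  cases nonempty_fintype G
  letI : Fintype N := Fintype.ofFinite N
  have h1 : omega (ψ : G → ℂ) x = Phi N (θ : N → ℂ) x := by
    unfold Phi omega
    conv_lhs => rw [← iota_res N hx.2, pair_iota]
    have e : (fun n : N => (ψ : G → ℂ) n) = (θ : N → ℂ) := funext hψ
    have e1 : (ψ : G → ℂ) 1 = (θ : N → ℂ) 1 := hψ 1
    rw [e, e1]
  have h2 : MemLocalIdeal M (Phi N (fun _ : N => (1 : ℂ)) x - Phi N (θ : N → ℂ) x) :=
    Phi_sub_mem N hMp ⟨fun _ => 1, Cfsg.Agent.Lib.CT.Ops.isIrrCharacter_one⟩ θ hθ hx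
  rw [Cfsg.Agent.Lib.Helper58.AlperinDade.Phi_one N hx.2] at h2
  rw [h1]
  exact memLocalIdeal_sub_comm h2

/-- The multiplier attached to a coset. -/
noncomputable def tt (ψ : IrrCharacter G) (u : G ⧸ N → MonoidAlgebra ℂ G) (k : G ⧸ N → ℕ)
    (c : G ⧸ N) : ℂ := omega (ψ : G → ℂ) (u c) / (k c : ℂ)

variable {p : ℕ} (hM : IsPModular p M) (θ : IrrCharacter N) (hθ : θ ∈ principalBlock M N)
  (ψ : IrrCharacter G) (hψ : ∀ x : N, (ψ : G → ℂ) x = (θ : N → ℂ) x)

include hψ in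
theorem restrict_irr : IsIrrCharacter N (fun x : N => (ψ : G → ℂ) x) := by
  have e : (fun x : N => (ψ : G → ℂ) x) = (θ : N → ℂ) := funext hψ
  rw [e]
  exact θ.2

include hM hψ in
theorem omega_local {c : G ⧸ N} {a : MonoidAlgebra ℂ G} (ha : a ∈ LamZ N c) :
    MemLocalRing M (omega (ψ : G → ℂ) a) :=
  memLocalRing_of_isIntegral (isPrime_of_isPModular hM)
    (isIntegral_omega_rel ψ.2 N (restrict_irr N θ ψ hψ) a ha.2.1 ha.1)

include hM hθ hψ in
theorem prod2_mem {c d : G ⧸ N} (hcd : c * d = 1) {a b : MonoidAlgebra ℂ G}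
    (ha : a ∈ LamZ N c) (hb : b ∈ LamZ N d) :
    MemLocalIdeal M (omega (ψ : G → ℂ) a * omega (ψ : G → ℂ) b
      - pair (fun _ : G => (1 : ℂ)) a * pair (fun _ : G => (1 : ℂ)) b) := by
  cases nonempty_fintype G
  have hMp := isPrime_of_isPModular hM
  have hab : a * b ∈ LamH N hMp 1 := by
    refine ⟨lam_mul N hMp (lamZ_lamH N hMp ha).1 (lamZ_lamH N hMp hb).1, ?_⟩
    have := supp_mul N ha.2.2 hb.2.2
    rwa [hcd] at this
  have h := omega_sub_aug_mem N hMp θ hθ ψ hψ hab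
  rwa [omega_mul_rel ψ.2 N (restrict_irr N θ ψ hψ) a b ha.2.1,
    Cfsg.Agent.Lib.Helper58.AlperinDade.aug_mul] at h

include hM hθ hψ in
theorem prod3_mem {c d e : G ⧸ N} (hcde : c * d * e = 1) {a b f : MonoidAlgebra ℂ G}
    (ha : a ∈ LamZ N c) (hb : b ∈ LamZ N d) (hf : f ∈ LamZ N e) :
    MemLocalIdeal M (omega (ψ : G → ℂ) a * omega (ψ : G → ℂ) b * omega (ψ : G → ℂ) f
      - pair (fun _ : G => (1 : ℂ)) a * pair (fun _ : G => (1 : ℂ)) b
        * pair (fun _ : G => (1 : ℂ)) f) := by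
  cases nonempty_fintype G
  have hMp := isPrime_of_isPModular hM
  have habf : a * b * f ∈ LamH N hMp 1 := by
    refine ⟨lam_mul N hMp (lam_mul N hMp (lamZ_lamH N hMp ha).1 (lamZ_lamH N hMp hb).1)
      (lamZ_lamH N hMp hf).1, ?_⟩
    have := supp_mul N (supp_mul N ha.2.2 hb.2.2) hf.2.2
    rwa [hcde] at this
  have hcomm : ∀ n : N, MonoidAlgebra.of ℂ G (n : G) * (a * b)
      = a * b * MonoidAlgebra.of ℂ G (n : G) := by
    intro n
    rw [← mul_assoc, ha.2.1 n, mul_assoc, hb.2.1 n, mul_assoc]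
  have h := omega_sub_aug_mem N hMp θ hθ ψ hψ habf
  rwa [omega_mul_rel ψ.2 N (restrict_irr N θ ψ hψ) (a * b) f hcomm,
    omega_mul_rel ψ.2 N (restrict_irr N θ ψ hψ) a b ha.2.1,
    Cfsg.Agent.Lib.Helper58.AlperinDade.aug_mul,
    Cfsg.Agent.Lib.Helper58.AlperinDade.aug_mul] at h

variable (u : G ⧸ N → MonoidAlgebra ℂ G) (hu : ∀ c, u c ∈ LamZ N c)
  (k : G ⧸ N → ℕ) (hk : ∀ c, pair (fun _ : G => (1 : ℂ)) (u c) = (k c : ℂ))
  (hkp : ∀ c, ¬ p ∣ k c)

include hM hθ hψ hu hk hkp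

theorem k_not_mem (c : G ⧸ N) : ¬ MemLocalIdeal M (k c : ℂ) :=
  fun h => hkp c ((memLocalIdeal_natCast_iff hM _).mp h)

theorem k_inv_local (c : G ⧸ N) : MemLocalRing M (k c : ℂ)⁻¹ :=
  memLocalRing_inv (memLocalRing_natCast (isPrime_of_isPModular hM) _)
    (k_not_mem N hM θ hθ ψ hψ u hu k hk hkp c)

theorem k_ne_zero (c : G ⧸ N) : (k c : ℂ) ≠ 0 := by
  intro h
  apply k_not_mem N hM θ hθ ψ hψ u hu k hk hkp c
  rw [h]
  exact memLocalIdeal_zero (isPrime_of_isPModular hM)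

theorem tt_local (c : G ⧸ N) : MemLocalRing M (tt N ψ u k c) := by
  unfold tt
  rw [div_eq_mul_inv]
  exact memLocalRing_mul (isPrime_of_isPModular hM) (omega_local N hM θ ψ hψ (hu c))
    (k_inv_local N hM θ hθ ψ hψ u hu k hk hkp c)

theorem tt_mul_inv (c : G ⧸ N) :
    MemLocalIdeal M (tt N ψ u k c * tt N ψ u k c⁻¹ - 1) := by
  have hMp := isPrime_of_isPModular hM
  have h := prod2_mem N hM θ hθ ψ hψ (mul_inv_cancel c) (hu c) (hu c⁻¹)
  rw [hk, hk] at h
  have hk1 := k_ne_zero N hM θ hθ ψ hψ u hu k hk hkp c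
  have hk2 := k_ne_zero N hM θ hθ ψ hψ u hu k hk hkp c⁻¹
  have e : tt N ψ u k c * tt N ψ u k c⁻¹ - 1
      = (omega (ψ : G → ℂ) (u c) * omega (ψ : G → ℂ) (u c⁻¹) - (k c : ℂ) * (k c⁻¹ : ℂ))
        * (k c : ℂ)⁻¹ * (k c⁻¹ : ℂ)⁻¹ := by
    unfold tt
    field_simp
  rw [e]
  exact memLocalIdeal_mul_right hMp (memLocalIdeal_mul_right hMp h
    (k_inv_local N hM θ hθ ψ hψ u hu k hk hkp c)) (k_inv_local N hM θ hθ ψ hψ u hu k hk hkp c⁻¹)

theorem tt_not_mem (c : G ⧸ N) : ¬ MemLocalIdeal M (tt N ψ u k c) := by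
  have hMp := isPrime_of_isPModular hM
  intro h
  have h1 := tt_mul_inv N hM θ hθ ψ hψ u hu k hk hkp c
  have h2 := memLocalIdeal_mul_right hMp h (tt_local N hM θ hθ ψ hψ u hu k hk hkp c⁻¹)
  exact not_memLocalIdeal_of_sub_one hMp h1 h2

theorem omega_sub_tt_mem {c : G ⧸ N} {a : MonoidAlgebra ℂ G} (ha : a ∈ LamZ N c) :
    MemLocalIdeal M (omega (ψ : G → ℂ) a
      - tt N ψ u k c * pair (fun _ : G => (1 : ℂ)) a) := by
  have hMp := isPrime_of_isPModular hM
  have h := prod2_mem N hM θ hθ ψ hψ (mul_inv_cancel c) ha (hu c⁻¹)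
  rw [hk c⁻¹] at h
  have hk2 := k_ne_zero N hM θ hθ ψ hψ u hu k hk hkp c⁻¹
  have h1 : MemLocalIdeal M (omega (ψ : G → ℂ) a * tt N ψ u k c⁻¹
      - pair (fun _ : G => (1 : ℂ)) a) := by
    have e : omega (ψ : G → ℂ) a * tt N ψ u k c⁻¹ - pair (fun _ : G => (1 : ℂ)) a
        = (omega (ψ : G → ℂ) a * omega (ψ : G → ℂ) (u c⁻¹)
          - pair (fun _ : G => (1 : ℂ)) a * (k c⁻¹ : ℂ)) * (k c⁻¹ : ℂ)⁻¹ := by
      unfold tt
      field_simp
    rw [e]
    exact memLocalIdeal_mul_right hMp h (k_inv_local N hM θ hθ ψ hψ u hu k hk hkp c⁻¹)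
  have h2 := tt_mul_inv N hM θ hθ ψ hψ u hu k hk hkp c
  have e : omega (ψ : G → ℂ) a - tt N ψ u k c * pair (fun _ : G => (1 : ℂ)) a
      = omega (ψ : G → ℂ) a * (1 - tt N ψ u k c * tt N ψ u k c⁻¹)
        + tt N ψ u k c * (omega (ψ : G → ℂ) a * tt N ψ u k c⁻¹
          - pair (fun _ : G => (1 : ℂ)) a) := by
    ring
  rw [e]
  exact memLocalIdeal_add hMp
    (memLocalIdeal_mul_left hMp (omega_local N hM θ ψ hψ ha) (memLocalIdeal_sub_comm h2))
    (memLocalIdeal_mul_left hMp (tt_local N hM θ hθ ψ hψ u hu k hk hkp c) h1)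

theorem tt_one : MemLocalIdeal M (tt N ψ u k 1 - 1) := by
  have h := omega_sub_tt_mem N hM θ hθ ψ hψ u hu k hk hkp (one_mem_lamZ N)
  rw [omega_one_irr ψ.2, pair_one, mul_one] at h
  exact memLocalIdeal_sub_comm h

theorem tt_mul (c d : G ⧸ N) :
    MemLocalIdeal M (tt N ψ u k (c * d) - tt N ψ u k c * tt N ψ u k d) := by
  have hMp := isPrime_of_isPModular hM
  have h := prod3_mem N hM θ hθ ψ hψ (show c * d * (c * d)⁻¹ = 1 from mul_inv_cancel _)
    (hu c) (hu d) (hu (c * d)⁻¹)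
  rw [hk, hk, hk] at h
  have hk1 := k_ne_zero N hM θ hθ ψ hψ u hu k hk hkp c
  have hk2 := k_ne_zero N hM θ hθ ψ hψ u hu k hk hkp d
  have hk3 := k_ne_zero N hM θ hθ ψ hψ u hu k hk hkp (c * d)⁻¹
  have h1 : MemLocalIdeal M (tt N ψ u k c * tt N ψ u k d * tt N ψ u k (c * d)⁻¹ - 1) := by
    have e : tt N ψ u k c * tt N ψ u k d * tt N ψ u k (c * d)⁻¹ - 1
        = (omega (ψ : G → ℂ) (u c) * omega (ψ : G → ℂ) (u d) * omega (ψ : G → ℂ) (u (c * d)⁻¹)
          - (k c : ℂ) * (k d : ℂ) * (k (c * d)⁻¹ : ℂ))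
          * (k c : ℂ)⁻¹ * (k d : ℂ)⁻¹ * (k (c * d)⁻¹ : ℂ)⁻¹ := by
      unfold tt
      field_simp
    rw [e]
    exact memLocalIdeal_mul_right hMp (memLocalIdeal_mul_right hMp (memLocalIdeal_mul_right hMp h
      (k_inv_local N hM θ hθ ψ hψ u hu k hk hkp c)) (k_inv_local N hM θ hθ ψ hψ u hu k hk hkp d))
      (k_inv_local N hM θ hθ ψ hψ u hu k hk hkp (c * d)⁻¹)
  have h2 := tt_mul_inv N hM θ hθ ψ hψ u hu k hk hkp (c * d)
  have h3 : MemLocalIdeal M (tt N ψ u k (c * d)⁻¹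
      * (tt N ψ u k (c * d) - tt N ψ u k c * tt N ψ u k d)) := by
    have e : tt N ψ u k (c * d)⁻¹ * (tt N ψ u k (c * d) - tt N ψ u k c * tt N ψ u k d)
        = (tt N ψ u k (c * d) * tt N ψ u k (c * d)⁻¹ - 1)
          - (tt N ψ u k c * tt N ψ u k d * tt N ψ u k (c * d)⁻¹ - 1) := by
      ring
    rw [e]
    exact memLocalIdeal_sub hMp h2 h1
  rcases memLocalIdeal_or_of_mul hMp (tt_local N hM θ hθ ψ hψ u hu k hk hkp (c * d)⁻¹) h3
    with h4 | h4
  · exact absurd h4 (tt_not_mem N hM θ hθ ψ hψ u hu k hk hkp _)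
  · exact h4

theorem tt_pow (c : G ⧸ N) (j : ℕ) :
    MemLocalIdeal M (tt N ψ u k (c ^ j) - tt N ψ u k c ^ j) := by
  have hMp := isPrime_of_isPModular hM
  induction j with
  | zero =>
    rw [pow_zero, pow_zero]
    exact tt_one N hM θ hθ ψ hψ u hu k hk hkp
  | succ j ih =>
    rw [pow_succ, pow_succ]
    have h1 := tt_mul N hM θ hθ ψ hψ u hu k hk hkp (c ^ j) c
    have e : tt N ψ u k (c ^ j * c) - tt N ψ u k c ^ j * tt N ψ u k c
        = (tt N ψ u k (c ^ j * c) - tt N ψ u k (c ^ j) * tt N ψ u k c)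
          + (tt N ψ u k (c ^ j) - tt N ψ u k c ^ j) * tt N ψ u k c := by
      ring
    rw [e]
    exact memLocalIdeal_add hMp h1
      (memLocalIdeal_mul_right hMp ih (tt_local N hM θ hθ ψ hψ u hu k hk hkp c))

theorem tt_pow_ordCompl (c : G ⧸ N) :
    MemLocalIdeal M (tt N ψ u k c
      ^ (Nat.card (G ⧸ N) / p ^ (Nat.card (G ⧸ N)).factorization p) - 1) := by
  have hMp := isPrime_of_isPModular hM
  have h1 := tt_pow N hM θ hθ ψ hψ u hu k hk hkp c (Nat.card (G ⧸ N))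
  rw [pow_card_eq_one'] at h1
  have h2 : MemLocalIdeal M (tt N ψ u k c ^ Nat.card (G ⧸ N) - 1) := by
    have e : tt N ψ u k c ^ Nat.card (G ⧸ N) - 1
        = (tt N ψ u k 1 - 1) - (tt N ψ u k 1 - tt N ψ u k c ^ Nat.card (G ⧸ N)) := by
      ring
    rw [e]
    exact memLocalIdeal_sub hMp (tt_one N hM θ hθ ψ hψ u hu k hk hkp) h1
  have e : tt N ψ u k c ^ Nat.card (G ⧸ N)
      = (tt N ψ u k c ^ (Nat.card (G ⧸ N) / p ^ (Nat.card (G ⧸ N)).factorization p))
        ^ p ^ (Nat.card (G ⧸ N)).factorization p := by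
    rw [← pow_mul, mul_comm, Nat.ordProj_mul_ordCompl_eq_self]
  rw [e] at h2
  exact memLocalIdeal_sub_one_of_pow hM
    (memLocalRing_pow hMp (tt_local N hM θ hθ ψ hψ u hu k hk hkp c) _) _ h2

end Main

section Final

/-- Key statement: an extension whose relative central character is congruent to the
augmentation on all integral elements commuting with `N`. -/
theorem exists_ext_aug {G : Type u} [Group G] [Finite G] (p : ℕ) [Fact p.Prime]
    (M : Ideal AlgInt) (hM : IsPModular p M) (N : Subgroup G) [N.Normal] (P : Sylow p N)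
    (hcov : N ⊔ Subgroup.centralizer (((P : Subgroup N).map N.subtype : Subgroup G) : Set G) = ⊤)
    (θ : IrrCharacter N) (hθ : θ ∈ principalBlock M N)
    (ψ : IrrCharacter G) (hψ : ∀ x : N, (ψ : G → ℂ) x = (θ : N → ℂ) x) :
    ∃ χ : IrrCharacter G, (∀ x : N, (χ : G → ℂ) x = (θ : N → ℂ) x) ∧
      ∀ κ : MonoidAlgebra ℂ G, (∀ g : G, ∃ j : ℤ, κ.coeff g = j) →
        (∀ n : N, MonoidAlgebra.of ℂ G (n : G) * κ = κ * MonoidAlgebra.of ℂ G (n : G)) →
        MemLocalIdeal M (omega (χ : G → ℂ) κ - pair (fun _ : G => (1 : ℂ)) κ) := by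
  classical
  cases nonempty_fintype G
  letI : Fintype N := Fintype.ofFinite N
  letI : Fintype (G ⧸ N) := Fintype.ofFinite _
  have hMp := isPrime_of_isPModular hM
  have hrep : ∀ c : G ⧸ N, ∃ x : G,
      x ∈ Subgroup.centralizer (((P : Subgroup N).map N.subtype : Subgroup G) : Set G) ∧
        (QuotientGroup.mk x : G ⧸ N) = c := fun c => by
    obtain ⟨x, hx, hxc⟩ := Cfsg.Agent.Lib.Helper58.AlperinDade.exists_rep N _ hcov c
    exact ⟨x, hx, hxc⟩
  choose x hxC hxc using hrep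
  let u : G ⧸ N → MonoidAlgebra ℂ G := fun c => orbSum N (x c)
  let k : G ⧸ N → ℕ := fun c => Set.ncard {g : G | ∃ n : N, (n : G) * x c * (n : G)⁻¹ = g}
  have hu : ∀ c, u c ∈ LamZ N c := fun c =>
    ⟨orbSum_int N (x c), orbSum_comm N (x c), by
      have := orbSum_supp N (x c)
      rwa [hxc c] at this⟩
  have hk : ∀ c, pair (fun _ : G => (1 : ℂ)) (u c) = (k c : ℂ) := fun c =>
    pair_one_orbSum N (x c)
  have hkp : ∀ c, ¬ p ∣ k c := fun c => not_dvd_ncard_orbit N p P (x c) (hxC c)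
  obtain ⟨m, hm⟩ : ∃ m : ℕ, m = Nat.card (G ⧸ N) / p ^ (Nat.card (G ⧸ N)).factorization p :=
    ⟨_, rfl⟩
  have hmp : ¬ p ∣ m := by
    rw [hm]
    exact Nat.not_dvd_ordCompl (Fact.out : p.Prime) Nat.card_pos.ne'
  have hm0 : 0 < m := Nat.pos_of_ne_zero (by
    rintro h0
    rw [h0] at hmp
    exact hmp (dvd_zero p))
  have hroot : ∀ c : G ⧸ N, ∃ ζ : ℂ, ζ ^ m = 1 ∧ MemLocalIdeal M (tt N ψ u k c - ζ) := fun c =>
    exists_root hMp hm0 (tt_local N hM θ hθ ψ hψ u hu k hk hkp c) (by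
      rw [hm]
      exact tt_pow_ordCompl N hM θ hθ ψ hψ u hu k hk hkp c)
  choose β hβm hβt using hroot
  have hβloc : ∀ c, MemLocalRing M (β c) := fun c =>
    memLocalRing_of_isIntegral hMp (IsIntegral.of_pow hm0 (by rw [hβm c]; exact isIntegral_one))
  have hβ0 : ∀ c, β c ≠ 0 := fun c h0 => by
    have := hβm c
    rw [h0, zero_pow hm0.ne'] at this
    exact zero_ne_one this
  have hβmul : ∀ c d, β (c * d) = β c * β d := by
    intro c d
    apply root_unique hM hmp (hβm _) (by rw [mul_pow, hβm, hβm, one_mul])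
    have h1 := hβt (c * d)
    have h2 := tt_mul N hM θ hθ ψ hψ u hu k hk hkp c d
    have h3 : MemLocalIdeal M (tt N ψ u k c * tt N ψ u k d - β c * β d) :=
      memLocalIdeal_mul_sub_mul hMp (tt_local N hM θ hθ ψ hψ u hu k hk hkp c) (hβloc d)
        (hβt c) (hβt d)
    have e : β (c * d) - β c * β d
        = (tt N ψ u k (c * d) - tt N ψ u k c * tt N ψ u k d)
          - (tt N ψ u k (c * d) - β (c * d))
          + (tt N ψ u k c * tt N ψ u k d - β c * β d) := by
      ring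
    rw [e]
    exact memLocalIdeal_add hMp (memLocalIdeal_sub hMp h2 h1) h3
  have hβ1 : β 1 = 1 := by
    have h := hβmul 1 1
    rw [mul_one] at h
    exact mul_left_cancel₀ (hβ0 1) (by rw [mul_one]; exact h.symm)
  -- the linear character
  let f0 : G ⧸ N →* ℂˣ := MonoidHom.mk' (fun c => Units.mk0 (β c) (hβ0 c)) (fun c d =>
    Units.ext (by rw [Units.val_mul, Units.val_mk0, Units.val_mk0, Units.val_mk0, hβmul]))
  let f : G →* ℂˣ := (f0.comp (QuotientGroup.mk' N))⁻¹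
  have hf : ∀ g : G, ((f g : ℂˣ) : ℂ) = (β (QuotientGroup.mk g))⁻¹ := by
    intro g
    show (((f0.comp (QuotientGroup.mk' N))⁻¹ g : ℂˣ) : ℂ) = _
    rw [MonoidHom.inv_apply, Units.val_inv_eq_inv_val]
    rfl
  let ν : G → ℂ := fun g => ((f g : ℂˣ) : ℂ)
  have hν : IsCharacter G ν := Cfsg.Agent.Lib.CT.LinChar.isCharacter_of_hom f
  have hν1 : ν 1 = 1 := by
    show ((f 1 : ℂˣ) : ℂ) = 1
    rw [map_one, Units.val_one]
  let χ : IrrCharacter G := ⟨(ψ : G → ℂ) * ν,
    Cfsg.Agent.Lib.CT.LinChar.isIrrCharacter_mul_linear ψ.2 hν hν1⟩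
  have hχ : ∀ g : G, (χ : G → ℂ) g = (ψ : G → ℂ) g * (β (QuotientGroup.mk g))⁻¹ := fun g => by
    show (ψ : G → ℂ) g * ν g = _
    rw [← hf g]
  have hχN : ∀ x : N, (χ : G → ℂ) x = (θ : N → ℂ) x := by
    intro x
    rw [hχ, (QuotientGroup.eq_one_iff (x : G)).mpr x.2, hβ1, inv_one, mul_one, hψ]
  have hχ1 : (χ : G → ℂ) 1 = (ψ : G → ℂ) 1 := by
    rw [hχ, QuotientGroup.mk_one, hβ1, inv_one, mul_one]
  -- homogeneous elements
  have homog : ∀ (c : G ⧸ N) (a : MonoidAlgebra ℂ G), a ∈ LamZ N c →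
      MemLocalIdeal M (omega (χ : G → ℂ) a - pair (fun _ : G => (1 : ℂ)) a) := by
    intro c a ha
    have h1 : pair (χ : G → ℂ) a = (β c)⁻¹ * pair (ψ : G → ℂ) a := by
      rw [pair_eq_sum, pair_eq_sum, Finset.mul_sum]
      apply Finset.sum_congr rfl
      intro g _
      by_cases hg : a.coeff g = 0
      · rw [hg]
        ring
      · rw [hχ, ha.2.2 g hg]
        ring
    have h2 : omega (χ : G → ℂ) a = (β c)⁻¹ * omega (ψ : G → ℂ) a := by
      unfold omega
      rw [h1, hχ1]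
      ring
    have h3 := omega_sub_tt_mem N hM θ hθ ψ hψ u hu k hk hkp ha
    have hε : MemLocalRing M (pair (fun _ : G => (1 : ℂ)) a) := pair_one_memLocalRing hMp ha.1
    have hβinv : MemLocalRing M (β c)⁻¹ :=
      memLocalRing_of_isIntegral hMp (IsIntegral.of_pow hm0 (by
        rw [inv_pow, hβm c, inv_one]
        exact isIntegral_one))
    have hb : (β c)⁻¹ * β c = 1 := inv_mul_cancel₀ (hβ0 c)
    have e : omega (χ : G → ℂ) a - pair (fun _ : G => (1 : ℂ)) a
        = (β c)⁻¹ * ((omega (ψ : G → ℂ) a - tt N ψ u k c * pair (fun _ : G => (1 : ℂ)) a)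
          + (tt N ψ u k c - β c) * pair (fun _ : G => (1 : ℂ)) a) := by
      rw [h2]
      linear_combination (pair (fun _ : G => (1 : ℂ)) a) * hb
    rw [e]
    exact memLocalIdeal_mul_left hMp hβinv
      (memLocalIdeal_add hMp h3 (memLocalIdeal_mul_right hMp (hβt c) hε))
  refine ⟨χ, hχN, ?_⟩
  intro κ hκint hκcomm
  have hpart : ∀ c : G ⧸ N, part N c κ ∈ LamZ N c := by
    intro c
    refine ⟨fun g => ?_, ?_, supp_part N c κ⟩
    · rw [coeff_part]
      split_ifs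
      · exact hκint g
      · exact ⟨0, by simp⟩
    · exact comm_of_of_comm_iota N _ (part_comm_iota N c (comm_iota_of_comm_of N κ hκcomm))
  have e1 : omega (χ : G → ℂ) κ = ∑ c : G ⧸ N, omega (χ : G → ℂ) (part N c κ) := by
    conv_lhs => rw [← sum_part N κ]
    exact omega_sum _ _ _
  have e2 : pair (fun _ : G => (1 : ℂ)) κ
      = ∑ c : G ⧸ N, pair (fun _ : G => (1 : ℂ)) (part N c κ) := by
    conv_lhs => rw [← sum_part N κ]
    exact pair_sum _ _ _
  rw [e1, e2, ← Finset.sum_sub_distrib]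
  exact memLocalIdeal_sum hMp _ _ (fun c _ => homog c _ (hpart c))

theorem classSum_int {G : Type u} [Group G] [Finite G] (g x : G) :
    ∃ j : ℤ, (classSum g).coeff x = j := by
  classical
  unfold classSum
  by_cases h : IsConj g x
  · exact ⟨1, by rw [coeff_ofFun, if_pos h]; simp⟩
  · exact ⟨0, by rw [coeff_ofFun, if_neg h]; simp⟩

/-- If `G = N C_G(P)` for `P ∈ Syl_p(N)` and `θ` in the principal block of `N` extends to `G`,
some extension lies in the principal block of `G` and restricts into the principal block of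
every intermediate subgroup. -/
theorem exists_ext_principal {G : Type u} [Group G] [Finite G] (p : ℕ) [Fact p.Prime]
    (M : Ideal AlgInt) (hM : IsPModular p M) (N : Subgroup G) [N.Normal] (P : Sylow p N)
    (hcov : N ⊔ Subgroup.centralizer (((P : Subgroup N).map N.subtype : Subgroup G) : Set G) = ⊤)
    (θ : IrrCharacter N) (hθ : θ ∈ principalBlock M N)
    (ψ : IrrCharacter G) (hψ : ∀ x : N, (ψ : G → ℂ) x = (θ : N → ℂ) x) :
    ∃ χ : IrrCharacter G, χ ∈ principalBlock M G ∧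
      (∀ x : N, (χ : G → ℂ) x = (θ : N → ℂ) x) ∧
      ∀ J : Subgroup G, N ≤ J → ∃ ξ : IrrCharacter J, ξ ∈ principalBlock M J ∧
        ∀ y : J, (ξ : J → ℂ) y = (χ : G → ℂ) y := by
  obtain ⟨χ, hχN, hκ⟩ := exists_ext_aug p M hM N P hcov θ hθ ψ hψ
  refine ⟨χ, ?_, hχN, ?_⟩
  · show SameBlock M (fun _ : G => (1 : ℂ)) (χ : G → ℂ)
    intro g
    have hcl : ∀ x g : G, (χ : G → ℂ) (x * g * x⁻¹) = (χ : G → ℂ) g := fun x g =>
      Cfsg.Agent.Lib.Helper81.Irr.irr_conj χ g x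
    rw [← omega_classSum (χ : G → ℂ) hcl g,
      ← omega_classSum (fun _ : G => (1 : ℂ)) (fun _ _ => rfl) g]
    have h := hκ (classSum g) (classSum_int g)
      (fun n => (Subalgebra.mem_center_iff.mp (classSum_mem_center g)) _)
    have e : omega (fun _ : G => (1 : ℂ)) (classSum g)
        = pair (fun _ : G => (1 : ℂ)) (classSum g) := by
      unfold omega
      rw [div_one]
    rw [e]
    exact memLocalIdeal_sub_comm h
  · intro J hNJ
    have hχN' : IsIrrCharacter N (fun x : N => (χ : G → ℂ) x) := by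
      have e : (fun x : N => (χ : G → ℂ) x) = (θ : N → ℂ) := funext hχN
      rw [e]
      exact θ.2
    let ξ : IrrCharacter J := ⟨fun y : J => (χ : G → ℂ) y,
      isIrrCharacter_restrict_of_le χ.2 N J hNJ hχN'⟩
    refine ⟨ξ, ?_, fun y => rfl⟩
    show SameBlock M (fun _ : J => (1 : ℂ)) (ξ : J → ℂ)
    intro y
    have hcl : ∀ x g : J, (ξ : J → ℂ) (x * g * x⁻¹) = (ξ : J → ℂ) g := fun x g =>
      Cfsg.Agent.Lib.Helper81.Irr.irr_conj ξ g x
    rw [← omega_classSum (ξ : J → ℂ) hcl y,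
      ← omega_classSum (fun _ : J => (1 : ℂ)) (fun _ _ => rfl) y]
    have hint : ∀ g : G, ∃ j : ℤ, (iota J (classSum y)).coeff g = j := by
      intro g
      by_cases hg : g ∈ J
      · have h1 := coeff_iota_coe J (classSum y) ⟨g, hg⟩
        obtain ⟨j, hj⟩ := classSum_int y ⟨g, hg⟩
        exact ⟨j, by rw [← hj, ← h1]⟩
      · rw [coeff_iota_of_not_mem J _ g hg]
        exact ⟨0, by simp⟩
    have hcomm : ∀ n : N, MonoidAlgebra.of ℂ G (n : G) * iota J (classSum y)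
        = iota J (classSum y) * MonoidAlgebra.of ℂ G (n : G) := by
      intro n
      have e : MonoidAlgebra.of ℂ G (n : G)
          = iota J (MonoidAlgebra.of ℂ J ⟨(n : G), hNJ n.2⟩) := by
        rw [MonoidAlgebra.of_apply, MonoidAlgebra.of_apply, iota_single]
      rw [e, ← map_mul, ← map_mul, (Subalgebra.mem_center_iff.mp (classSum_mem_center y)) _]
    have h := hκ (iota J (classSum y)) hint hcomm
    have e1 : omega (ξ : J → ℂ) (classSum y) = omega (χ : G → ℂ) (iota J (classSum y)) := by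
      unfold omega
      rw [pair_iota]
      rfl
    have e2 : omega (fun _ : J => (1 : ℂ)) (classSum y)
        = pair (fun _ : G => (1 : ℂ)) (iota J (classSum y)) := by
      unfold omega
      rw [pair_iota, div_one]
    rw [e1, e2]
    exact memLocalIdeal_sub_comm h

end Final

end Cfsg.Agent.Lib.Helper58.PrincExt
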