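import Mathlib
import Cfsg.Agent.Lib.Helper63.S66Stmt
import Cfsg.Agent.Lib.Helper70.S66COVM

/-! S1366 piece COVH, abstract form: `CovH` from `K1Ex`, `N1`, `Prim` and the statement of S1354
(taken as the hypothesis `S54`, to be discharged by `Cfsg.Agent.S1354.result`). -/

set_option autoImplicit false
universe u

namespace Cfsg.Agent.Lib.Helper58.S66COVHAbs

open Cfsg Cfsg.Agent.Lib.Helper9.S51IStmt Cfsg.Agent.Lib.Helper63.S66Stmt

/-- The statement of S1354 (discharged by `Cfsg.Agent.S1354.result`). -/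
def S54 : Prop :=
  ∀ {G : Type u} [Group G] [Finite G], Cfsg.IsMinSimpleOddOrder G →
  ∀ (M : Subgroup G), IsCoatom M → ∀ (K : Subgroup G), IsCyclic K →
    Cfsg.IsPiHallOf (Cfsg.kappa M) K M →
    Cfsg.sigmaCore M ⊓ Subgroup.centralizer (K : Set G) ≠ ⊥ ∧
      (K ≠ ⊥ → ∀ k ∈ K, k ≠ 1 →
        M ⊓ Subgroup.centralizer ({k} : Set G) =
          K ⊔ (Cfsg.sigmaCore M ⊓ Subgroup.centralizer (K : Set G)))

/-- COVH with S1354 as a hypothesis. -/
theorem main' (h54 : S54.{u}) : K1Ex.{u} → N1.{u} → Prim.{u} → CovH.{u} := by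
  intro hK1 hN1 hPrim G _ _ hG M K U H x p cfg y hy hyo hyns
  obtain ⟨K₁, U₁, hdec, hyK₁, hKsK₁, hK₁Z, hcent, hnp⟩ := hK1 hG M K U H x p cfg y hy hyo hyns
  have hy1 : y ≠ 1 := by
    intro h
    rw [h, orderOf_one] at hyo
    exact Nat.not_prime_one hyo
  have hK₁ne : K₁ ≠ ⊥ := by
    intro h
    rw [h, Subgroup.mem_bot] at hyK₁
    exact hy1 hyK₁
  have hU₁ : U₁ = ⊥ := by
    by_contra h
    exact hnp (hN1 hG H K₁ U₁ cfg.hH hdec hK₁ne h)
  have hK₁H : K₁ ≤ H := hdec.hall.1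
  have hsH : Cfsg.sigmaCore H ≤ H := by
    rintro _ ⟨s, -, rfl⟩
    exact s.2
  refine ⟨?_, ?_⟩
  · intro h hh
    obtain ⟨a, ha, b, hb, rfl⟩ := hdec.compl.2.2.2 h hh
    rw [hU₁, Subgroup.mem_bot] at ha
    subst ha
    obtain ⟨s, hs, k, hk, hbk⟩ :=
      Cfsg.Agent.Lib.Helper70.S66COVM.mem_sup_of_conj K₁ (Cfsg.sigmaCore H)
        (fun k hk s hs => Cfsg.Agent.Lib.Helper70.S66COVM.conj_mem_sigmaCore (hK₁H hk) hs) hb
    exact ⟨s, hs, k, hK₁Z hk, by rw [one_mul, hbk]⟩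
  · intro a ha hay
    have h1 := (h54 hG H cfg.hH K₁ hdec.cyclic hdec.hall).2 hK₁ne y hyK₁ hy1
    have ha1 : a ∈ H ⊓ Subgroup.centralizer ({y} : Set G) := by
      refine Subgroup.mem_inf.2 ⟨hsH ha, ?_⟩
      rw [Subgroup.mem_centralizer_iff]
      intro z hz
      rw [Set.mem_singleton_iff] at hz
      rw [hz]
      exact hay.symm
    rw [h1] at ha1
    have ha2 : a ∈ Ks H K₁ := (hPrim hG H K₁ U₁ cfg.hH hdec).2.2 a ha1 ha
    have ha3 : a ∈ M ⊓ Cfsg.sigmaCore H := by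
      rw [← hcent]
      exact ha2
    exact (hPrim hG M K U cfg.hM cfg.hKU).2.1 y hy hy1 a (Subgroup.mem_inf.1 ha3).1 hay

end Cfsg.Agent.Lib.Helper58.S66COVHAbs
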