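import Mathlib
import Cfsg.Agent.Lib.Helper26.T64Stmt

/-!
# S3157 piece ZCARD: the centre has order 4
-/

set_option autoImplicit false

namespace Cfsg.Agent.Lib.Helper58.T64ZCARD

open Cfsg.Agent.Lib.Helper26.T64Stmt

universe u

theorem main : ZCARD.{u} := by
  intro T _ _ ρ hcard hnc hρ hfpf hfacts hlang hmod
  classical
  have hρ3 : ρ ^ 3 = 1 := by rw [← hρ]; exact pow_orderOf_eq_one ρ
  have hρ3' : ∀ t : T, ρ (ρ (ρ t)) = t := by
    intro t
    have h := congrArg (fun f : MulAut T => f t) hρ3
    simpa [pow_succ, MulAut.mul_apply] using h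
  have hZinv : ∀ n ∈ Subgroup.center T, ρ n ∈ Subgroup.center T := by
    intro n hn
    rw [Subgroup.mem_center_iff] at hn ⊢
    intro g
    have h1 := hn (ρ.symm g)
    have h2 := congrArg ρ h1
    simpa using h2
  have hZmod := hmod (Subgroup.center T) hZinv
  have hZdvd : Nat.card (Subgroup.center T) ∣ 2 ^ 6 := by
    have := Subgroup.card_subgroup_dvd_card (Subgroup.center T)
    rw [hcard] at this
    exact this
  obtain ⟨k, hk, hkeq⟩ := (Nat.dvd_prime_pow Nat.prime_two).1 hZdvd
  have hp : IsPGroup 2 T := IsPGroup.of_card (n := 6) (by rw [hcard]; norm_num)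
  haveI : Nontrivial T := by
    rw [← Finite.one_lt_card_iff_nontrivial, hcard]; norm_num
  haveI : Fact (Nat.Prime 2) := ⟨Nat.prime_two⟩
  have hZnt : Nontrivial (Subgroup.center T) := hp.center_nontrivial
  have hZ1 : 1 < Nat.card (Subgroup.center T) := Finite.one_lt_card_iff_nontrivial.2 hZnt
  have hZtop : Subgroup.center T ≠ ⊤ := by
    intro h
    apply hnc
    refine ⟨⟨fun a b => ?_⟩⟩
    have ha : a ∈ Subgroup.center T := by rw [h]; exact Subgroup.mem_top a
    rw [Subgroup.mem_center_iff] at ha
    exact (ha b).symm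
  have key : k ≠ 4 := by
    intro hk4
    subst hk4
    obtain ⟨a, ha⟩ : ∃ a : T, a ∉ Subgroup.center T := by
      by_contra hcon
      push Not at hcon
      exact hZtop ((Subgroup.eq_top_iff' _).2 hcon)
    have c1 : a * ρ a = ρ a * a := (hfacts a).2
    have c3 : ρ (ρ a) * a = a * ρ (ρ a) := by
      have := (hfacts (ρ (ρ a))).2
      rwa [hρ3'] at this
    let H : Subgroup T := Subgroup.centralizer {a, ρ a, ρ (ρ a)}
    have hHmem : ∀ g : T, g ∈ H ↔
        (a * g = g * a ∧ ρ a * g = g * ρ a ∧ ρ (ρ a) * g = g * ρ (ρ a)) := by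
      intro g
      show g ∈ Subgroup.centralizer _ ↔ _
      rw [Subgroup.mem_centralizer_iff]
      constructor
      · intro h
        exact ⟨h a (by simp), h (ρ a) (by simp), h (ρ (ρ a)) (by simp)⟩
      · rintro ⟨h1, h2, h3⟩ x hx
        simp only [Set.mem_insert_iff, Set.mem_singleton_iff] at hx
        rcases hx with rfl | rfl | rfl
        · exact h1
        · exact h2
        · exact h3
    have hHinv : ∀ n ∈ H, ρ n ∈ H := by
      intro n hn
      rw [hHmem] at hn ⊢
      obtain ⟨h1, h2, h3⟩ := hn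
      refine ⟨?_, ?_, ?_⟩
      · have := congrArg ρ h3
        simpa [map_mul, hρ3'] using this
      · have := congrArg ρ h1
        simpa [map_mul] using this
      · have := congrArg ρ h2
        simpa [map_mul] using this
    have hZH : Subgroup.center T ≤ H := Subgroup.center_le_centralizer _
    have haH : a ∈ H := by
      rw [hHmem]
      exact ⟨rfl, c1.symm, c3⟩
    have hHmod := hmod H hHinv
    have hHdvd : Nat.card H ∣ 2 ^ 6 := by
      have := Subgroup.card_subgroup_dvd_card H
      rw [hcard] at this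
      exact this
    obtain ⟨j, hj, hjeq⟩ := (Nat.dvd_prime_pow Nat.prime_two).1 hHdvd
    have hZHdvd : Nat.card (Subgroup.center T) ∣ Nat.card H := Subgroup.card_dvd_of_le hZH
    rw [hkeq, hjeq] at hZHdvd
    have hj4 : 4 ≤ j := (Nat.pow_dvd_pow_iff_le_right (by norm_num : 1 < 2)).1 hZHdvd
    interval_cases j
    · have hEq : Subgroup.center T = H := by
        apply Subgroup.eq_of_le_of_card_ge hZH
        rw [hkeq, hjeq]
      exact ha (hEq ▸ haH)
    · rw [hjeq] at hHmod; norm_num at hHmod
    · have hHtop : H = ⊤ := Subgroup.eq_top_of_card_eq H (by rw [hjeq, hcard]; norm_num)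
      apply ha
      rw [Subgroup.mem_center_iff]
      intro g
      have hg : g ∈ H := by rw [hHtop]; exact Subgroup.mem_top g
      rw [hHmem] at hg
      exact hg.1.symm
  interval_cases k
  · rw [hkeq] at hZ1; norm_num at hZ1
  · rw [hkeq] at hZmod; norm_num at hZmod
  · rw [hkeq]; norm_num
  · rw [hkeq] at hZmod; norm_num at hZmod
  · exact absurd rfl key
  · rw [hkeq] at hZmod; norm_num at hZmod
  · exact absurd (Subgroup.eq_top_of_card_eq _ (by rw [hkeq, hcard]; norm_num)) hZtop

end Cfsg.Agent.Lib.Helper58.T64ZCARD
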