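import Mathlib
import Cfsg.Agent.Lib.Helper4.UniStmt

/-!
Piece XMP of S4395: the field model at the level of `X` from `HYP` and `FM`.
-/

set_option autoImplicit false
set_option linter.style.haveILetI false
universe u

namespace Cfsg.Agent.Lib.Helper58.UniXMP

open Cfsg.Agent.Lib.Helper4.UniStmt

theorem main : XMP.{u} := by
  intro hHYP hFM p q r t _ _ hpq hr X _ _ P y hSD
  classical
  have hSD' := hSD
  obtain ⟨hPn, -, -, hgen, -, -, -⟩ := hSD'
  haveI : P.Normal := hPn
  have hHyp : Hyp p q ↥P (MulAut.conjNormal y) := hHYP p q r t hpq hr X P y hSD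
  obtain ⟨F, iF, iFin, iChar, eT, lam, hM⟩ := hFM p q hpq ↥P (MulAut.conjNormal y) hHyp
  obtain ⟨hadd, hsurj, hker, hcen, -, hlam, hl1, hlq, hirr⟩ := hM
  refine ⟨F, iF, iFin, iChar, fun x => if h : x ∈ P then eT ⟨x, h⟩ else 0, lam, ?_, ?_, ?_, ?_,
    hl1, hlq, hirr⟩
  · intro u hu v hv
    have huv : u * v ∈ P := P.mul_mem hu hv
    simp only [dif_pos hu, dif_pos hv, dif_pos huv]
    exact hadd ⟨u, hu⟩ ⟨v, hv⟩
  · intro x
    obtain ⟨u, rfl⟩ := hsurj x
    refine ⟨u.1, u.2, ?_⟩
    simp only [dif_pos u.2]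
  · intro u hu he
    simp only [dif_pos hu] at he
    have hfix : MulAut.conjNormal y (⟨u, hu⟩ : ↥P) = ⟨u, hu⟩ := (hker _).1 he
    have hc := hcen _ hfix
    have hyu : y * u * y⁻¹ = u := by
      have := congrArg Subtype.val hfix
      simpa [MulAut.conjNormal_apply] using this
    have hyu' : y * u = u * y := by
      calc y * u = y * u * y⁻¹ * y := by group
        _ = u * y := by rw [hyu]
    rw [Subgroup.mem_center_iff]
    intro x
    obtain ⟨v, hv, k, rfl⟩ := hgen x
    have h1 : v * u = u * v := by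
      have := Subgroup.mem_center_iff.1 hc ⟨v, hv⟩
      exact congrArg Subtype.val this
    have h2 : y ^ k * u = u * y ^ k := by
      have : Commute y u := hyu'
      exact (this.pow_left k).eq
    calc v * y ^ k * u = v * (y ^ k * u) := by group
      _ = v * (u * y ^ k) := by rw [h2]
      _ = v * u * y ^ k := by group
      _ = u * v * y ^ k := by rw [h1]
      _ = u * (v * y ^ k) := by group
  · intro u hu
    have hyu : y * u * y⁻¹ ∈ P := hPn.conj_mem u hu y
    simp only [dif_pos hu, dif_pos hyu]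
    have := hlam ⟨u, hu⟩
    rw [← this]
    congr 1

end Cfsg.Agent.Lib.Helper58.UniXMP
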